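import Groth.Agent.PicFRel.SeesawScheme
import Groth.Prelude.Def_CohBC2
import Groth.Prelude.Def_ega3
import Groth.Agent.GeomField.GlobalFunctions
import Groth.Agent.SurfInt.Curve

/-!
# Degree zero base change to a point, on sections
-/

set_option autoImplicit false
set_option backward.isDefEq.respectTransparency false
set_option backward.isDefEq.respectTransparency.types false
set_option linter.style.haveILetI false

universe u

open CategoryTheory CategoryTheory.Limits AlgebraicGeometry TopologicalSpace Opposite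

namespace Groth.Agent.PicFRel.BcZero

open Groth.Agent.InvX Groth.Agent.H23 Groth.Agent.H23.TrivBasic

variable {X S : Scheme.{u}} {f : X ⟶ S}

/-- The adjoint base change map is restriction of sections. -/
theorem bc0Adj_app {S' X' : Scheme.{u}} {g : S' ⟶ S} {f' : X' ⟶ S'} {g' : X' ⟶ X}
    (w : g' ≫ f = f' ≫ g) (F : X.Modules) (V : S.Opens) (x : Γ(F, f ⁻¹ᵁ V))
    (e : f' ⁻¹ᵁ (g ⁻¹ᵁ V) ≤ g' ⁻¹ᵁ (f ⁻¹ᵁ V)) :
    (CohBC.bc0Adj f g f' g' w F).app V x = AModX.res _ e (pullElt g' x) := by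
  show ((Scheme.Modules.pullback g').obj F).presheaf.map _ (pullElt g' x) = _
  rfl

/-- An epimorphic base change map to a nonzero fibre has a section with nonzero restriction. -/
theorem exists_section_of_epi {S' X' : Scheme.{u}} {g : S' ⟶ S} {f' : X' ⟶ S'} {g' : X' ⟶ X}
    (w : g' ≫ f = f' ≫ g) (F : X.Modules) (h : Epi (CohBC.bc0 f g f' g' w F))
    (hne : ∃ y : Γ((Scheme.Modules.pullback g').obj F, ⊤), y ≠ 0) :
    ∃ (V : S.Opens) (x : Γ(F, f ⁻¹ᵁ V)), pullElt g' x ≠ 0 := by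
  by_contra H
  push Not at H
  have h0 : CohBC.bc0Adj f g f' g' w F = 0 := by
    refine Scheme.Modules.hom_ext _ _ fun V => ?_
    ext x
    have hle : f' ⁻¹ᵁ (g ⁻¹ᵁ V) ≤ g' ⁻¹ᵁ (f ⁻¹ᵁ V) := fun z hz => by
      show f (g' z) ∈ V
      rw [← Scheme.Hom.comp_apply, w, Scheme.Hom.comp_apply]
      exact hz
    rw [bc0Adj_app w F V x hle, H V x, map_zero]
    rfl
  have h1 : CohBC.bc0 f g f' g' w F = 0 := by
    show ((Scheme.Modules.pullbackPushforwardAdjunction g).homEquiv _ _).symm _ = 0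
    rw [h0, Adjunction.homEquiv_counit, Functor.map_zero, zero_comp]
  rw [h1] at h
  have hid : 𝟙 ((Scheme.Modules.pushforward f').obj ((Scheme.Modules.pullback g').obj F)) = 0 :=
    h.left_cancellation _ _ (by rw [zero_comp, zero_comp])
  obtain ⟨y, hy⟩ := hne
  have := congrArg (fun φ : (Scheme.Modules.pushforward f').obj ((Scheme.Modules.pullback g').obj F) ⟶
    (Scheme.Modules.pushforward f').obj ((Scheme.Modules.pullback g').obj F) =>
      Scheme.Modules.Hom.app φ ⊤) hid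
  exact hy congr($this y)

/-- Over a point, a morphism onto a direct image hitting a frame is epimorphic. -/
theorem epi_of_frame {P T : Scheme.{u}} [Subsingleton T] (v : P ⟶ T) {A : T.Modules} {M : P.Modules}
    (β : A ⟶ (Scheme.Modules.pushforward v).obj M) (y : Γ(A, ⊤))
    (hy : IsFrame (show Γ(M, ⊤) from β.app ⊤ y)) (hv : Function.Surjective v.appTop)
    (N : T.Modules) (φ φ' : (Scheme.Modules.pushforward v).obj M ⟶ N) (h : β ≫ φ = β ≫ φ') : φ = φ' := by
  have hy' : φ.app ⊤ (β.app ⊤ y) = φ'.app ⊤ (β.app ⊤ y) :=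
    congr($(congrArg (fun ψ : A ⟶ N => Scheme.Modules.Hom.app ψ ⊤) h) y)
  have htop : ∀ z : Γ((Scheme.Modules.pushforward v).obj M, ⊤), φ.app ⊤ z = φ'.app ⊤ z := fun z => by
    obtain ⟨r, hr⟩ := (UnivH0.bijective_smul_frame hy).2 z
    obtain ⟨a, rfl⟩ := hv r
    have hz : z = a • β.app ⊤ y := hr.symm
    rw [hz, Scheme.Modules.Hom.app_smul, Scheme.Modules.Hom.app_smul, hy']
  refine Scheme.Modules.hom_ext _ _ fun U => ?_
  ext z
  by_cases hU : Nonempty U
  · obtain ⟨⟨p, hp⟩⟩ := hU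
    obtain rfl : U = ⊤ := eq_top_iff.2 fun q _ => by rwa [Subsingleton.elim q p]
    exact htop z
  · exact AModX.eq_of_locally (M := N) _ _ fun q hq => (hU ⟨⟨q, hq⟩⟩).elim

/-- Over a point, base change hit by a frame is epimorphic. -/
theorem epi_bc0_of_frame' {S' X' : Scheme.{u}} [Subsingleton S'] {g : S' ⟶ S} {v : X' ⟶ S'} {ι : X' ⟶ X}
    (w : ι ≫ f = v ≫ g) (F : X.Modules) (V : S.Opens) (hg : g ⁻¹ᵁ V = ⊤) (x : Γ(F, f ⁻¹ᵁ V))
    (hle : v ⁻¹ᵁ (⊤ : S'.Opens) ≤ ι ⁻¹ᵁ (f ⁻¹ᵁ V))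
    (hx : IsFrame (pullElt ι x)) (hv : Function.Surjective v.appTop) :
    Epi (CohBC.bc0 f g v ι w F) := by
  refine ⟨fun {N} φ φ' hφ => ?_⟩
  let β := CohBC.bc0 f g v ι w F
  let y₀ : Γ((Scheme.Modules.pullback g).obj ((Scheme.Modules.pushforward f).obj F), g ⁻¹ᵁ V) :=
    pullElt g (show Γ((Scheme.Modules.pushforward f).obj F, V) from x)
  have hadj : (Scheme.Modules.pullbackPushforwardAdjunction g).unit.app _ ≫
      (Scheme.Modules.pushforward g).map β = CohBC.bc0Adj f g v ι w F :=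
    ((Scheme.Modules.pullbackPushforwardAdjunction g).homEquiv_unit _ _ β).symm.trans
      (Equiv.apply_symm_apply _ _)
  have h0' := congrArg (fun φ : (Scheme.Modules.pushforward f).obj F ⟶
    (Scheme.Modules.pushforward g).obj ((Scheme.Modules.pushforward v).obj
      ((Scheme.Modules.pullback ι).obj F)) => Scheme.Modules.Hom.app φ V) hadj
  have h1 : β.app (g ⁻¹ᵁ V) y₀ = (CohBC.bc0Adj f g v ι w F).app V x :=
    congr($h0' x)
  have hle' : v ⁻¹ᵁ (g ⁻¹ᵁ V) ≤ ι ⁻¹ᵁ (f ⁻¹ᵁ V) := by rw [hg]; exact hle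
  rw [bc0Adj_app w F V x hle'] at h1
  have hfr : IsFrame (M := (Scheme.Modules.pullback ι).obj F) (U := v ⁻¹ᵁ (g ⁻¹ᵁ V))
      (β.app (g ⁻¹ᵁ V) y₀) := by
    rw [h1]
    exact hx.res _
  revert hfr
  generalize y₀ = z
  revert z
  rw [hg]
  intro z hfr
  exact epi_of_frame v β z hfr hv N φ φ' hφ

/-- If a local section restricts to a frame on the fibre, base change to the point is epimorphic. -/
theorem epi_bc0_of_frame (s : S) (F : X.Modules) (V : S.Opens) (hV : s ∈ V) (x : Γ(F, f ⁻¹ᵁ V))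
    (hx : IsFrame (pullElt (f.fiberι s) x))
    (h0 : Function.Bijective (f.fiberToSpecResidueField s).appTop) :
    Epi (CohBC.bc0 f (S.fromSpecResidueField s) (f.fiberToSpecResidueField s) (f.fiberι s)
      (f.fiber_fac s) F) := by
  haveI : Subsingleton ↥(Spec (S.residueField s)) :=
    inferInstanceAs (Subsingleton (PrimeSpectrum (S.residueField s)))
  refine epi_bc0_of_frame' _ F V (eq_top_iff.2 fun p _ => ?_) x (fun p _ => ?_) hx h0.2
  · show S.fromSpecResidueField s p ∈ V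
    rw [Scheme.fromSpecResidueField_apply]
    exact hV
  · show f (f.fiberι s p) ∈ V
    rw [← Scheme.Hom.comp_apply, f.fiber_fac, Scheme.Hom.comp_apply, Scheme.fromSpecResidueField_apply]
    exact hV

/-- Degree zero cohomology is global sections. -/
theorem exists_h0Equiv {P : Scheme.{u}} (M : P.Modules) :
    ∃ e : Coh.HH P M 0 ≃+ Γ(M, ⊤),
      ∀ (r : Γ(P, ⊤)) (x : Coh.HH P M 0), e ((show Coh.Γtop P from r) • x) = r • e x := by
  let e : Coh.HH P M 0 ≃+ Γ(M, ⊤) := Sheaf.H.equiv₀ (Coh.toAb M) isTerminalTop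
  refine ⟨e, fun r x => ?_⟩
  have h := (Sheaf.H.equiv₀_naturality isTerminalTop (Coh.smulAb M r) x).symm
  refine (show e ((show Coh.Γtop P from r) • x) = _ from h).trans ?_
  show (show Γ(P, ⊤) from Coh.resTop P (Opposite.op ⊤) r) • e x = _
  congr 1
  show (P.presheaf.map (homOfLE le_top).op).hom r = r
  rw [show (homOfLE le_top).op = 𝟙 (Opposite.op (⊤ : P.Opens)) from rfl, P.presheaf.map_id]
  rfl

theorem nontrivial_fiberH_iff (L : X.Modules) (s : S) :
    Nontrivial (CohIII.fiberH f L s 0) ↔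
      ∃ y : Γ((Scheme.Modules.pullback (f.fiberι s)).obj L, ⊤), y ≠ 0 := by
  obtain ⟨e, -⟩ := exists_h0Equiv ((Scheme.Modules.pullback (f.fiberι s)).obj L)
  rw [nontrivial_iff_exists_ne (0 : CohIII.fiberH f L s 0)]
  exact ⟨fun ⟨x, hx⟩ => ⟨e x, fun h => hx (e.injective (h.trans (map_zero e).symm))⟩,
    fun ⟨y, hy⟩ => ⟨e.symm y, fun h => hy (by rw [← e.apply_symm_apply y, h, map_zero])⟩⟩

/-- A trivial fibre with constant functions has one section up to scalars. -/
theorem fiberRank_eq_one (L : X.Modules) (s : S)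
    (hT : Triv ((Scheme.Modules.pullback (f.fiberι s)).obj L))
    (h0 : Function.Bijective (f.fiberToSpecResidueField s).appTop) :
    CohIII.fiberRank f L 0 s = 1 := by
  obtain ⟨e, he⟩ := exists_h0Equiv ((Scheme.Modules.pullback (f.fiberι s)).obj L)
  obtain ⟨σ, hσ⟩ := hT.exists_frame
  have hb : Function.Bijective (Coh.toGlobal (X := f.fiber s) (A := S.residueField s)
      (f.fiberToSpecResidueField s)) :=
    h0.comp (ConcreteCategory.bijective_of_isIso (Scheme.ΓSpecIso (S.residueField s)).inv)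
  let ψ : S.residueField s →ₗ[S.residueField s] CohIII.fiberH f L s 0 :=
    LinearMap.toSpanSingleton _ _ (e.symm σ)
  have hψ : Function.Bijective ψ := by
    have hcomp : (fun c => e (ψ c)) = (fun r : Γ(f.fiber s, ⊤) => r • σ) ∘
        Coh.toGlobal (X := f.fiber s) (A := S.residueField s) (f.fiberToSpecResidueField s) := by
      funext c
      show e (c • e.symm σ) = _
      rw [← e.apply_symm_apply σ]
      exact (he _ _).trans (by rw [AddEquiv.apply_symm_apply]; rfl)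
    have := (UnivH0.bijective_smul_frame hσ).comp hb
    rw [← hcomp] at this
    exact (Function.Bijective.of_comp_iff' e.bijective ψ).1 this
  show Module.finrank _ _ = 1
  rw [← (LinearEquiv.ofBijective ψ hψ).finrank_eq, Module.finrank_self]

/-- On an integral scheme with only constant functions, two sections on a module and its inverse make
it trivial. -/
theorem triv_of_sections {P : Scheme.{u}} [IsIntegral P] (hΓ : IsField Γ(P, ⊤)) {L D : P.Modules}
    (hL : PicF.IsInvertible L) (hD : PicF.IsInvertible D)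
    (φ : CohB1.tensorMod L D ≅ Coh.structureModule P) {s : Γ(L, ⊤)} {s' : Γ(D, ⊤)}
    (hs : s ≠ 0) (hs' : s' ≠ 0) : Triv L := by
  have hne : locus s ⊓ locus s' ≠ ⊥ := by
    intro h
    obtain ⟨z, hz⟩ := Opens.ne_bot_iff_nonempty _ |>.1 (locus_ne_bot hL hs)
    obtain ⟨z', hz'⟩ := Opens.ne_bot_iff_nonempty _ |>.1 (locus_ne_bot hD hs')
    obtain ⟨w, hw⟩ := nonempty_preirreducible_inter (locus s).isOpen (locus s').isOpen ⟨z, hz⟩ ⟨z', hz'⟩
    exact (Opens.ne_bot_iff_nonempty _).2 ⟨w, hw⟩ h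
  let m := mulHom (ofSect s) (ofSect s')
  have hloc : locus (one m) = locus s ⊓ locus s' := by
    refine Eq.trans ?_ (genLocus_mulHom hL hD (ofSect s) (ofSect s'))
    show CohB1.genLocus _ (ofSect (one m)) = CohB1.genLocus _ m
    congr 1
    show ofSect (one (ofSect _)) = ofSect _
    rw [one_ofSect]
  have hm : one m ≠ 0 := by
    intro h
    refine hne (hloc.symm.trans ?_)
    refine bot_unique fun z hz => ?_
    obtain ⟨U, hzU, hU⟩ := mem_locus_iff.1 hz
    rw [h, map_zero] at hU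
    have h01 := hU.coord_unique le_rfl (r := (0 : Γ(P, U))) (r' := 1) (by simp)
    have : U = ⊥ := by
      rw [← P.basicOpen_of_isUnit (isUnit_one : IsUnit (1 : Γ(P, U))), ← h01, Scheme.basicOpen_zero]
    exact this ▸ hzU
  have hframe : IsFrame (one m) := TrivBasic.isFrame_of_ne_zero ⟨φ⟩ hΓ hm
  have htop : locus s ⊓ locus s' = ⊤ := hloc.symm.trans (locus_eq_top_iff.2 hframe)
  exact triv_of_frame (locus_eq_top_iff.1 (top_le_iff.1 (htop.ge.trans inf_le_left)))

/-- A section which is a frame on a fibre is a frame near the fibre. -/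
theorem exists_frame_nhd (hf : IsClosedMap f) {L : X.Modules} (hL : PicF.IsInvertible L) (s : S)
    {V : S.Opens} (hV : s ∈ V) (x : Γ(L, f ⁻¹ᵁ V)) (hx : IsFrame (pullElt (f.fiberι s) x)) :
    ∃ W : S.Opens, s ∈ W ∧ ∃ σ : Γ(L, f ⁻¹ᵁ W), IsFrame σ := by
  let F : Set X := ⋃ (W : X.Opens) (hW : W ≤ f ⁻¹ᵁ V) (_ : IsFrame (AModX.res L hW x)), (W : Set X)
  have hFo : IsOpen F := isOpen_iUnion fun W => isOpen_iUnion fun _ => isOpen_iUnion fun _ => W.isOpen
  have hfib : f ⁻¹' {s} ⊆ F := by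
    rw [← f.range_fiberι]
    rintro _ ⟨q, rfl⟩
    set p := f.fiberι s q
    have hp : p ∈ f ⁻¹ᵁ V := by
      show f p ∈ V
      rw [← Scheme.Hom.comp_apply, f.fiber_fac, Scheme.Hom.comp_apply, Scheme.fromSpecResidueField_apply]
      exact hV
    obtain ⟨U, hU, ε, hε⟩ := InvX.exists_frame hL p
    let U' := U ⊓ f ⁻¹ᵁ V
    have hε' := hε.res (inf_le_left : U' ≤ U)
    obtain ⟨a, ha⟩ := hε'.exists_coord le_rfl (AModX.res L (inf_le_right : U' ≤ f ⁻¹ᵁ V) x)
    rw [AModX.res_self] at ha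
    have h1 := hx.res (show (f.fiberι s) ⁻¹ᵁ U' ≤ (f.fiberι s) ⁻¹ᵁ (f ⁻¹ᵁ V) from
      fun z hz => hz.2)
    rw [res_pullElt (f.fiberι s) (inf_le_right : U' ≤ f ⁻¹ᵁ V), ha, pullElt_smul] at h1
    have hP := isFrame_pullElt (f.fiberι s) hε'
    obtain ⟨b, hb⟩ := h1.exists_coord le_rfl (pullElt (f.fiberι s) (AModX.res L (inf_le_left : U' ≤ U) ε))
    rw [AModX.res_self, smul_smul] at hb
    have hunit : IsUnit ((f.fiberι s).app U' a) := by
      refine IsUnit.of_mul_eq_one b (hP.coord_unique le_rfl ?_)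
      rw [AModX.res_self, mul_comm, one_smul]
      exact hb.symm
    have hpa : p ∈ X.basicOpen a := by
      have hq : q ∈ (f.fiber s).basicOpen ((f.fiberι s).app U' a) := by
        rw [Scheme.basicOpen_of_isUnit _ hunit]
        exact ⟨hU, hp⟩
      rwa [← Scheme.preimage_basicOpen] at hq
    have hle : X.basicOpen a ≤ U' := X.basicOpen_le a
    refine Set.mem_iUnion.2 ⟨X.basicOpen a, Set.mem_iUnion.2 ⟨hle.trans inf_le_right,
      Set.mem_iUnion.2 ⟨?_, hpa⟩⟩⟩
    rw [show AModX.res L (hle.trans inf_le_right) x =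
      AModX.res L hle (AModX.res L (inf_le_right : U' ≤ f ⁻¹ᵁ V) x) from (AModX.res_res _ _ _).symm,
      ha, AModX.res_smul]
    exact (hε'.res hle).isUnit_smul (X.toLocallyRingedSpace.toRingedSpace.isUnit_res_basicOpen a)
  let W : S.Opens := V ⊓ ⟨(f '' Fᶜ)ᶜ, (hf _ hFo.isClosed_compl).isOpen_compl⟩
  refine ⟨W, ⟨hV, fun ⟨p, hp, hps⟩ => hp (hfib hps)⟩,
    AModX.res L (show f ⁻¹ᵁ W ≤ f ⁻¹ᵁ V from fun z hz => hz.1) x, isFrame_of_germwise fun p hp => ?_⟩
  have hpF : p ∈ F := by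
    by_contra hn
    exact hp.2 ⟨p, hn, rfl⟩
  simp only [F, Set.mem_iUnion] at hpF
  obtain ⟨U, hU, hfr, hpU⟩ := hpF
  refine ⟨U ⊓ f ⁻¹ᵁ W, inf_le_right, ⟨hpU, hp⟩, ?_⟩
  have := hfr.res (inf_le_left : U ⊓ f ⁻¹ᵁ W ≤ U)
  rw [AModX.res_res] at this ⊢
  exact this

end Groth.Agent.PicFRel.BcZero

namespace Groth.Agent.PicFRel.BcZero

open Groth.Agent.InvX Groth.Agent.H23 Groth.Agent.H23.TrivBasic

variable {X S : Scheme.{u}} {f : X ⟶ S}

/-- The morphism itself has the same functions as its base when all base changes do. -/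
theorem bijective_app_of_univ
    (h : ∀ (T : Scheme.{u}) (g : T ⟶ S) (W : T.Opens), Function.Bijective ((pullback.snd f g).app W))
    (W : S.Opens) : Function.Bijective (f.app W) := by
  have h1 := h S (𝟙 S) W
  have heq : pullback.snd f (𝟙 S) = pullback.fst f (𝟙 S) ≫ f := by
    rw [pullback.condition, Category.comp_id]
  rw [heq, Scheme.Hom.comp_app] at h1
  have h2 := (ConcreteCategory.isIso_iff_bijective _).2 h1
  haveI h3 : IsIso ((pullback.fst f (𝟙 S)).app (f ⁻¹ᵁ W)) := inferInstance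
  exact (ConcreteCategory.isIso_iff_bijective _).1 (@IsIso.of_isIso_comp_right _ _ _ _ _ _ _ h3 h2)

/-- The inverse of a trivial module is trivial. -/
theorem triv_inverse {P Q : Scheme.{u}} (p : Q ⟶ P) {L D : P.Modules}
    (φ : CohB1.tensorMod L D ≅ Coh.structureModule P)
    (hT : Triv ((Scheme.Modules.pullback p).obj L)) : Triv ((Scheme.Modules.pullback p).obj D) := by
  refine Triv.of_iso ((PicMul.unit _).some) ?_
  refine Triv.of_iso (PicGrp.tensorModIso (Iso.refl _) hT.some) ?_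
  refine Triv.of_iso ((PicMul.comm _ _).some) ?_
  refine Triv.of_iso ((PicMul.pull p L D).some) ?_
  exact Triv.pullback p ⟨φ⟩

/-- A frame near the point gives all that is asked on the fibre. -/
theorem of_frame (s : S) (F : X.Modules) (h0 : Function.Bijective (f.fiberToSpecResidueField s).appTop)
    (hne : Nonempty ↥(f.fiber s)) {V : S.Opens} (hV : s ∈ V) (x : Γ(F, f ⁻¹ᵁ V)) (hx : IsFrame x) :
    Nontrivial (CohIII.fiberH f F s 0) ∧
      Epi (CohBC.bc0 f (S.fromSpecResidueField s) (f.fiberToSpecResidueField s) (f.fiberι s)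
        (f.fiber_fac s) F) ∧ CohIII.fiberRank f F 0 s = 1 := by
  have hp := isFrame_pullElt (f.fiberι s) hx
  have htop : (⊤ : (f.fiber s).Opens) ≤ f.fiberι s ⁻¹ᵁ (f ⁻¹ᵁ V) := fun p _ => by
    show f (f.fiberι s p) ∈ V
    rw [← Scheme.Hom.comp_apply, f.fiber_fac, Scheme.Hom.comp_apply, Scheme.fromSpecResidueField_apply]
    exact hV
  let σ : Γ((Scheme.Modules.pullback (f.fiberι s)).obj F, ⊤) := AModX.res _ htop (pullElt (f.fiberι s) x)
  have hσ : IsFrame σ := hp.res htop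
  refine ⟨(nontrivial_fiberH_iff F s).2 ⟨σ, fun h => ?_⟩, epi_bc0_of_frame s F V hV x hp h0,
    fiberRank_eq_one F s (triv_of_frame hσ) h0⟩
  obtain ⟨p⟩ := hne
  haveI : Nonempty (⊤ : (f.fiber s).Opens) := ⟨⟨p, trivial⟩⟩
  exact zero_ne_one (hσ.coord_unique le_rfl (r := (0 : Γ(f.fiber s, ⊤))) (r' := 1) (by
    rw [AModX.res_self, h, smul_zero, smul_zero]))

end Groth.Agent.PicFRel.BcZero
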