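import Mathlib.AlgebraicGeometry.Sites.Representability
import Mathlib.AlgebraicGeometry.Morphisms.Immersion

/-!
# Subschemes from conditions on morphisms

A condition on morphisms into `S`, local on the source and stable under composition, which is represented
near every point it meets by immersed subschemes is represented by a subscheme.
-/

set_option autoImplicit false
set_option linter.style.haveILetI false
set_option backward.isDefEq.respectTransparency false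
set_option backward.isDefEq.respectTransparency.types false

universe u

open CategoryTheory CategoryTheory.Limits AlgebraicGeometry Opposite

namespace Groth.Agent.PicFRel.SubRep

variable {S : Scheme.{u}} (P : ∀ ⦃T : Scheme.{u}⦄, (T ⟶ S) → Prop)
  (hcomp : ∀ ⦃T T' : Scheme.{u}⦄ (g : T' ⟶ T) (h : T ⟶ S), P h → P (g ≫ h))
  (hloc : ∀ ⦃T : Scheme.{u}⦄ (h : T ⟶ S), (∀ t : T, ∃ V : T.Opens, t ∈ V ∧ P (V.ι ≫ h)) → P h)

/-- The maps satisfying the condition, as a presheaf. -/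
def functor : Scheme.{u}ᵒᵖ ⥤ Type u where
  obj T := {h : T.unop ⟶ S // P h}
  map {T T'} c := ↾(fun (x : {h : T.unop ⟶ S // P h}) =>
    (⟨c.unop ≫ x.1, hcomp c.unop x.1 x.2⟩ : {h : T'.unop ⟶ S // P h}))
  map_id T := by
    ext (x : {h : T.unop ⟶ S // P h})
    exact Category.id_comp x.1
  map_comp {T T' T''} c c' := by
    ext (x : {h : T.unop ⟶ S // P h})
    exact Category.assoc c'.unop c.unop x.1

include hloc in
theorem isSheaf_functor : Presieve.IsSheaf Scheme.zariskiTopology (functor P hcomp) := by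
  rw [Precoverage.isSheaf_toGrothendieck_iff_of_isStableUnderBaseChange]
  intro T R hR x hx
  obtain ⟨(𝒰 : T.OpenCover), rfl⟩ := Scheme.exists_cover_of_mem_pretopology hR
  let ξ : ∀ i, 𝒰.X i ⟶ S := fun i => (x (𝒰.f i) (.mk i)).1
  let a : T ⟶ S := 𝒰.glueMorphisms ξ fun i j =>
    congrArg Subtype.val (hx _ _ (.mk i) (.mk j) pullback.condition)
  have ha : ∀ i, 𝒰.f i ≫ a = ξ i := fun i => Scheme.Cover.ι_glueMorphisms 𝒰 _ _ i
  have hPa : P a := hloc a fun t => by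
    obtain ⟨i, y, hy⟩ := 𝒰.exists_eq t
    refine ⟨(𝒰.f i).opensRange, ⟨y, hy⟩, ?_⟩
    rw [← Scheme.Hom.isoOpensRange_inv_comp (𝒰.f i), Category.assoc, ha]
    exact hcomp _ _ (x (𝒰.f i) (.mk i)).2
  refine ⟨⟨a, hPa⟩, ?_, fun y hy => Subtype.ext (𝒰.hom_ext _ _ fun i => ?_)⟩
  · rintro T' c ⟨i⟩
    exact Subtype.ext (ha i)
  · exact (congrArg Subtype.val (hy (𝒰.f i) (.mk i))).trans (ha i).symm

include hcomp hloc in
/-- The condition is represented by a subscheme. -/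
theorem exists_immersion {ι : Type u} (V : ι → S.Opens) (W : ι → Scheme.{u}) (j : ∀ i, W i ⟶ S)
    [∀ i, IsImmersion (j i)] (hrange : ∀ i, Set.range (j i) ⊆ (V i : Set S)) (hP : ∀ i, P (j i))
    (hfac : ∀ i (T : Scheme.{u}) (h : T ⟶ S), IsAffine T → Set.range h ⊆ (V i : Set S) → P h →
      ∃ w : T ⟶ W i, w ≫ j i = h)
    (hcov : ∀ ⦃T : Scheme.{u}⦄ (h : T ⟶ S), P h → ∀ t : T, ∃ i, h t ∈ V i) :
    ∃ (Z : Scheme.{u}) (z : Z ⟶ S), IsImmersion z ∧
      ∀ (T : Scheme.{u}) (h : T ⟶ S), (∃ u : T ⟶ Z, u ≫ z = h) ↔ P h := by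
  have hlift : ∀ i (T : Scheme.{u}) (h : T ⟶ S), Set.range h ⊆ (V i : Set S) → P h →
      ∃ w : T ⟶ W i, w ≫ j i = h := by
    intro i T h hr hh
    have hx : ∀ a : T.affineCover.I₀, ∃ w : T.affineCover.X a ⟶ W i, w ≫ j i = T.affineCover.f a ≫ h :=
      fun a => hfac i _ _ inferInstance (by
        rintro _ ⟨z, rfl⟩
        exact hr ⟨_, rfl⟩) (hcomp _ _ hh)
    choose w hw using hx
    refine ⟨T.affineCover.glueMorphisms w fun a b => ?_, T.affineCover.hom_ext _ _ fun a => ?_⟩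
    · rw [← cancel_mono (j i), Category.assoc, Category.assoc, hw, hw, pullback.condition_assoc]
    · rw [Scheme.Cover.ι_glueMorphisms_assoc, hw]
  let F : Sheaf Scheme.zariskiTopology.{u} (Type u) :=
    ⟨functor P hcomp, (isSheaf_iff_isSheaf_of_type _ _).2 (isSheaf_functor P hcomp hloc)⟩
  let χ : ∀ i, yoneda.obj (W i) ⟶ functor P hcomp := fun i =>
    yonedaEquiv.symm (⟨j i, hP i⟩ : (functor P hcomp).obj (op (W i)))
  have hχ : ∀ i {T : Scheme.{u}} (g : T ⟶ W i), ((χ i).app (op T) g).1 = g ≫ j i := fun i T g => rfl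
  have hopen : ∀ i, IsOpenImmersion.presheaf (χ i) := fun i => by
    refine MorphismProperty.relative.of_exists fun T g => ?_
    let ξ : {h : T ⟶ S // P h} := yonedaEquiv g
    have hg : ∀ {T' : Scheme.{u}} (k : T' ⟶ T), (g.app (op T') k).1 = k ≫ ξ.1 := fun k => by
      have : g.app _ k = (functor P hcomp).map k.op (yonedaEquiv g) := by
        rw [yonedaEquiv_naturality, yonedaEquiv_apply]
        simp
      rw [this]
      rfl
    let O : T.Opens := ξ.1 ⁻¹ᵁ V i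
    obtain ⟨w, hw⟩ := hlift i _ (O.ι ≫ ξ.1) (by rintro _ ⟨z, rfl⟩; exact z.2) (hcomp _ _ ξ.2)
    refine ⟨O.toScheme, yoneda.map w, O.ι, IsPullback.of_forall_isPullback_app fun T' => ?_, inferInstance⟩
    rw [Types.isPullback_iff]
    refine ⟨?_, fun k k' hk => (cancel_mono O.ι).mp hk.2, fun a (k : T'.unop ⟶ T) hak => ?_⟩
    · ext k
      refine Subtype.ext ?_
      show ((χ i).app (op T'.unop) (k ≫ w)).1 = (g.app (op T'.unop) (k ≫ O.ι)).1
      rw [hχ, hg, Category.assoc, hw, Category.assoc]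
    · have hak' : a ≫ j i = k ≫ ξ.1 := (congrArg Subtype.val hak).trans (hg k)
      have hr : Set.range k ⊆ Set.range O.ι := by
        rw [Scheme.Opens.range_ι]
        rintro _ ⟨z, rfl⟩
        show ξ.1 (k z) ∈ V i
        rw [← Scheme.Hom.comp_apply, ← hak', Scheme.Hom.comp_apply]
        exact hrange i ⟨_, rfl⟩
      refine ⟨IsOpenImmersion.lift O.ι k hr, (cancel_mono (j i)).mp ?_, IsOpenImmersion.lift_fac _ _ _⟩
      show (IsOpenImmersion.lift O.ι k hr ≫ w) ≫ j i = a ≫ j i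
      rw [Category.assoc, hw, IsOpenImmersion.lift_fac_assoc, hak']
  have : Presheaf.IsLocallySurjective Scheme.zariskiTopology (Sigma.desc χ) := by
    refine ⟨fun {T} ξ => ?_⟩
    change {h : T ⟶ S // P h} at ξ
    choose c hc using hcov ξ.1 ξ.2
    let 𝒰 : T.OpenCover := T.openCoverOfIsOpenCover (fun t : T => ξ.1 ⁻¹ᵁ V (c t))
      (TopologicalSpace.IsOpenCover.mk (eq_top_iff.mpr fun t _ =>
        TopologicalSpace.Opens.mem_iSup.mpr ⟨t, hc t⟩))
    refine GrothendieckTopology.superset_covering _ ?_ 𝒰.mem_grothendieckTopology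
    rintro T' g ⟨_, k, _, ⟨t⟩, rfl⟩
    obtain ⟨w, hw⟩ := hlift (c t) _ ((ξ.1 ⁻¹ᵁ V (c t)).ι ≫ ξ.1) (by rintro _ ⟨z, rfl⟩; exact z.2)
      (hcomp _ _ ξ.2)
    refine ⟨(Sigma.ι (fun i => yoneda.obj (W i)) (c t)).app (op T') (k ≫ w), ?_⟩
    rw [← NatTrans.comp_app_apply, Sigma.ι_desc]
    refine Subtype.ext ?_
    show ((χ (c t)).app (op T') (k ≫ w)).1 = (k ≫ (ξ.1 ⁻¹ᵁ V (c t)).ι) ≫ ξ.1
    rw [hχ, Category.assoc, hw, Category.assoc]
  obtain ⟨Z, ⟨r⟩⟩ : (functor P hcomp).IsRepresentable :=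
    @Scheme.LocalRepresentability.isRepresentable F _ _ χ hopen this
  let zz : {h : Z ⟶ S // P h} := r.homEquiv (𝟙 Z)
  let z : Z ⟶ S := zz.1
  have key : ∀ {T : Scheme.{u}} (u : T ⟶ Z), (r.homEquiv u).1 = u ≫ z := fun {T} u => by
    have := r.homEquiv_comp u (𝟙 Z)
    rw [Category.comp_id] at this
    rw [this]
    rfl
  have hiff : ∀ (T : Scheme.{u}) (h : T ⟶ S), (∃ u : T ⟶ Z, u ≫ z = h) ↔ P h := fun T h => by
    refine ⟨?_, fun hh => ?_⟩
    · rintro ⟨u, rfl⟩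
      exact hcomp _ _ zz.2
    · obtain ⟨u, hu⟩ := r.homEquiv.surjective (⟨h, hh⟩ : {h : T ⟶ S // P h})
      exact ⟨u, (key u).symm.trans (congrArg Subtype.val hu)⟩
  haveI : Mono z := ⟨fun {T} u u' huu => r.homEquiv.injective (Subtype.ext (by rw [key, key, huu]))⟩
  let Ω : S.Opens := ⨆ i, V i
  have hzΩ : Set.range z ⊆ Set.range Ω.ι := by
    rw [Scheme.Opens.range_ι]
    rintro _ ⟨t, rfl⟩
    obtain ⟨i, hi⟩ := hcov z zz.2 t
    exact TopologicalSpace.Opens.mem_iSup.2 ⟨i, hi⟩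
  let z' : Z ⟶ Ω := IsOpenImmersion.lift Ω.ι z hzΩ
  have : IsImmersion z' := by
    refine IsZariskiLocalAtTarget.of_iSup_eq_top (P := @IsImmersion) (fun i => Ω.ι ⁻¹ᵁ V i)
      (eq_top_iff.2 fun x _ => by
        obtain ⟨i, hi⟩ := TopologicalSpace.Opens.mem_iSup.1 x.2
        exact TopologicalSpace.Opens.mem_iSup.2 ⟨i, hi⟩) fun i => ?_
    let O := z' ⁻¹ᵁ (Ω.ι ⁻¹ᵁ V i)
    have hO : ∀ t : Z, t ∈ O ↔ z t ∈ V i := fun t => by
      show Ω.ι (z' t) ∈ V i ↔ _
      rw [← Scheme.Hom.comp_apply, IsOpenImmersion.lift_fac]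
    obtain ⟨w, hw⟩ := hlift i _ (O.ι ≫ z) (by rintro _ ⟨t, rfl⟩; exact (hO _).1 t.2)
      (hcomp _ _ zz.2)
    obtain ⟨u, hu⟩ := (hiff _ (j i)).2 (hP i)
    have hur : Set.range u ⊆ Set.range O.ι := by
      rw [Scheme.Opens.range_ι]
      rintro _ ⟨t, rfl⟩
      refine (hO _).2 ?_
      rw [← Scheme.Hom.comp_apply, hu]
      exact hrange i ⟨_, rfl⟩
    haveI : IsIso w := by
      refine ⟨IsOpenImmersion.lift O.ι u hur, (cancel_mono (O.ι ≫ z)).mp ?_, (cancel_mono (j i)).mp ?_⟩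
      · rw [Category.assoc, IsOpenImmersion.lift_fac_assoc, hu, hw, Category.id_comp]
      · rw [Category.assoc, hw, IsOpenImmersion.lift_fac_assoc, hu, Category.id_comp]
    have : IsImmersion ((z' ∣_ (Ω.ι ⁻¹ᵁ V i)) ≫ (Ω.ι ⁻¹ᵁ V i).ι ≫ Ω.ι) := by
      rw [morphismRestrict_ι_assoc, IsOpenImmersion.lift_fac, ← hw]
      infer_instance
    exact IsImmersion.of_comp _ ((Ω.ι ⁻¹ᵁ V i).ι ≫ Ω.ι)
  refine ⟨Z, z, ?_, hiff⟩
  rw [← IsOpenImmersion.lift_fac Ω.ι z hzΩ]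
  infer_instance

end Groth.Agent.PicFRel.SubRep
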