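import Groth.Agent.PicFRel.SeesawChart
import Groth.Agent.PicFRel.SubRep

/-!
# The seesaw subscheme

For a flat proper family with constant functions over a locally Noetherian base and an invertible module
on it, the maps over which the module comes from the base, locally on the source, are those factoring
through one subscheme; it is closed for geometrically integral fibres.
-/

set_option autoImplicit false
set_option backward.isDefEq.respectTransparency false
set_option backward.isDefEq.respectTransparency.types false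
set_option linter.style.haveILetI false

universe u

open CategoryTheory CategoryTheory.Limits AlgebraicGeometry TopologicalSpace Opposite

namespace Groth.Agent.PicFRel.SeesawScheme

open Groth.Agent.InvX Groth.Agent.H23 Groth.Agent.H23.TrivBasic Groth.Agent.H23.SeesawGlobal
open Groth.Agent.PicFRel.SeesawChart

variable {X S : Scheme.{u}} (f : X ⟶ S) (L : X.Modules)

/-- The module is trivial over `T`, locally on `T`. -/
def LocTriv {T : Scheme.{u}} (h : T ⟶ S) : Prop :=
  ∀ t : T, ∃ V : T.Opens, t ∈ V ∧ TrivOver f L (V.ι ≫ h)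

variable {f L}

theorem LocTriv.of_trivOver {T : Scheme.{u}} {h : T ⟶ S} (hT : TrivOver f L h) : LocTriv f L h :=
  fun t => ⟨⊤, trivial, hT.precomp _⟩

theorem LocTriv.precomp {T T' : Scheme.{u}} (g : T' ⟶ T) (h : T ⟶ S) (hT : LocTriv f L h) :
    LocTriv f L (g ≫ h) := fun t => by
  obtain ⟨V, hV, hV'⟩ := hT (g t)
  exact ⟨g ⁻¹ᵁ V, hV, (hV'.precomp (g ∣_ V)).of_eq (by rw [morphismRestrict_ι_assoc])⟩

theorem LocTriv.of_local {T : Scheme.{u}} (h : T ⟶ S)
    (hT : ∀ t : T, ∃ V : T.Opens, t ∈ V ∧ LocTriv f L (V.ι ≫ h)) : LocTriv f L h := fun t => by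
  obtain ⟨V, hV, hV'⟩ := hT t
  obtain ⟨W, hW, hW'⟩ := hV' ⟨t, hV⟩
  refine ⟨V.ι ''ᵁ W, ⟨⟨t, hV⟩, hW, rfl⟩, ?_⟩
  exact (hW'.precomp (V.ι.isoImage W).inv).of_eq (by
    rw [← Category.assoc, ← Category.assoc, Category.assoc _ W.ι, Scheme.Hom.isoImage_inv_ι])

variable [IsProper f] [Flat f] [IsLocallyNoetherian S]

theorem LocTriv.fieldTriv (hL : PicF.IsInvertible L) (hc : RigidApply.ConstFibres f) {T : Scheme.{u}}
    {h : T ⟶ S} (hT : LocTriv f L h) (t : T) : FieldTriv f L (h t) := by
  obtain ⟨V, hV, hV'⟩ := hT t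
  have := fieldTriv_of_trivOver hL hc hV' ⟨t, hV⟩
  rwa [Scheme.Hom.comp_apply] at this

variable (f L) in
/-- The seesaw subscheme. -/
theorem exists_seesaw (hL : PicF.IsInvertible L) (hc : RigidApply.ConstFibres f) :
    ∃ (Z : Scheme.{u}) (z : Z ⟶ S), IsImmersion z ∧
      (∀ (T : Scheme.{u}) (h : T ⟶ S), (∃ w : T ⟶ Z, w ≫ z = h) ↔ LocTriv f L h) ∧
      Set.range z = {s : S | FieldTriv f L s} := by
  choose V hyV W j hj hrange hjT hfac using fun y : {y : S // FieldTriv f L y} =>
    SeesawChart.exists_chart_at (f := f) (L := L) hL hc y.1 y.2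
  haveI := hj
  obtain ⟨Z, z, hz, huniv⟩ := SubRep.exists_immersion (fun T h => LocTriv f L h)
    (fun T T' g h hh => hh.precomp g h) (fun T h hh => LocTriv.of_local h hh) V W j hrange
    (fun y => LocTriv.of_trivOver (hjT y)) (fun y T h _ hr hT => by
      choose O hO hO' using hT
      choose U hU htU hUO using fun t => exists_isAffineOpen_mem_and_subset (hO t)
      have hw : ∀ t, ∃ w : (U t).toScheme ⟶ W y, w ≫ j y = (U t).ι ≫ h := fun t => by
        haveI : IsAffine (U t).toScheme := hU t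
        refine hfac y _ ((U t).ι ≫ h) inferInstance ?_ (((hO' t).precomp (T.homOfLE (hUO t))).of_eq
          (by rw [Scheme.homOfLE_ι_assoc]))
        rintro _ ⟨p, rfl⟩
        exact hr ⟨_, rfl⟩
      choose w hw using hw
      let 𝒰 : T.OpenCover := T.openCoverOfIsOpenCover U
        (IsOpenCover.mk (eq_top_iff.mpr fun t _ => Opens.mem_iSup.mpr ⟨t, htU t⟩))
      refine ⟨𝒰.glueMorphisms w fun a b => ?_, 𝒰.hom_ext _ _ fun a => ?_⟩
      · rw [← cancel_mono (j y), Category.assoc, Category.assoc]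
        erw [hw a, hw b]
        exact pullback.condition_assoc h
      · rw [Scheme.Cover.ι_glueMorphisms_assoc]
        exact hw a)
    (fun T h hh t => ⟨⟨h t, hh.fieldTriv hL hc t⟩, hyV _⟩)
  refine ⟨Z, z, hz, huniv, ?_⟩
  ext s
  refine ⟨?_, fun hs => ?_⟩
  · rintro ⟨q, rfl⟩
    exact ((huniv Z z).1 ⟨𝟙 Z, Category.id_comp z⟩).fieldTriv hL hc q
  · obtain ⟨w, hw⟩ := (huniv _ (S.fromSpecResidueField s)).2
      (LocTriv.of_trivOver (hs _ _ (S.fromSpecResidueField_apply s _)))
    exact ⟨w (IsLocalRing.closedPoint _), by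
      rw [← Scheme.Hom.comp_apply, hw]; exact S.fromSpecResidueField_apply s _⟩

variable (f L) in
/-- For geometrically integral fibres the seesaw subscheme is closed. -/
theorem exists_seesaw_closed [GeometricallyIntegral f] (hL : PicF.IsInvertible L) :
    ∃ (Z : Scheme.{u}) (z : Z ⟶ S), IsClosedImmersion z ∧
      ∀ (T : Scheme.{u}) (h : T ⟶ S), (∃ w : T ⟶ Z, w ≫ z = h) ↔ LocTriv f L h := by
  obtain ⟨Z, z, hz, huniv, hrange⟩ :=
    exists_seesaw f L hL (RigidApply.constFibres_of_geometricallyIntegral f)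
  refine ⟨Z, z, IsClosedImmersion.of_isPreimmersion z ?_, huniv⟩
  rw [hrange]
  exact isClosed_fieldTriv f hL

omit [IsProper f] [Flat f] [IsLocallyNoetherian S] in
/-- Modules from the base are trivial locally on the base. -/
theorem LocTriv.of_iso {T : Scheme.{u}} {h : T ⟶ S} (M : T.Modules) (hM : PicF.IsInvertible M)
    (e : pbL f L h ≅ (Scheme.Modules.pullback (pullback.snd f h)).obj M) : LocTriv f L h := fun t => by
  obtain ⟨V, hV, ⟨φ⟩⟩ := hM t
  refine ⟨V, hV, ?_⟩
  let q : pullback f (V.ι ≫ h) ⟶ pullback f h :=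
    pullback.lift (pullback.fst f _) (pullback.snd f _ ≫ V.ι) (by rw [pullback.condition, Category.assoc])
  have hq₁ : q ≫ pullback.fst f h = pullback.fst f (V.ι ≫ h) := pullback.lift_fst _ _ _
  have hq₂ : q ≫ pullback.snd f h = pullback.snd f (V.ι ≫ h) ≫ V.ι := pullback.lift_snd _ _ _
  refine (triv_congr hq₁).1 ((triv_comp_iff q _).1 ?_)
  refine Triv.of_iso ((Scheme.Modules.pullback q).mapIso e).symm ((triv_comp_iff q _).2
    ((triv_congr hq₂).2 ((triv_comp_iff _ V.ι).1 (Triv.pullback _
      ⟨((Scheme.Modules.restrictFunctorIsoPullback V.ι).app M).symm ≪≫ φ⟩))))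

omit [IsProper f] [Flat f] [IsLocallyNoetherian S] in
/-- A module trivial locally on the base comes from the base, for constant functions. -/
theorem LocTriv.exists_iso {T : Scheme.{u}} {h : T ⟶ S} (hT : LocTriv f L h)
    (h0 : ∀ W : T.Opens, Function.Bijective ((pullback.snd f h).app W)) :
    ∃ M : T.Modules, PicF.IsInvertible M ∧
      Nonempty (pbL f L h ≅ (Scheme.Modules.pullback (pullback.snd f h)).obj M) := by
  have hloc : ∀ t : T, ∃ V : T.Opens, t ∈ V ∧
      ∃ s : Γ(pbL f L h, pullback.snd f h ⁻¹ᵁ V), InvX.IsFrame s := fun t => by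
    obtain ⟨V, hV, hV'⟩ := hT t
    let q : pullback f (V.ι ≫ h) ⟶ pullback f h :=
      pullback.lift (pullback.fst f _) (pullback.snd f _ ≫ V.ι) (by rw [pullback.condition, Category.assoc])
    have hsq : IsPullback q (pullback.snd f (V.ι ≫ h)) (pullback.snd f h) V.ι :=
      IsPullback.of_right (by rw [pullback.lift_fst]; exact IsPullback.of_hasPullback f _)
        (pullback.lift_snd _ _ _) (IsPullback.of_hasPullback f h)
    haveI : IsOpenImmersion q := MorphismProperty.of_isPullback hsq.flip inferInstance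
    obtain ⟨s, hs⟩ := exists_frame_of_triv (L := pbL f L h) q
      ((triv_comp_iff q _).2 ((triv_congr (pullback.lift_fst _ _ _)).2 hV'))
    have hr : q.opensRange = pullback.snd f h ⁻¹ᵁ V := by
      ext z
      constructor
      · rintro ⟨w, rfl⟩
        show pullback.snd f h (q w) ∈ V
        rw [← Scheme.Hom.comp_apply, hsq.w, Scheme.Hom.comp_apply]
        exact (pullback.snd f (V.ι ≫ h) w).2
      · intro hz
        obtain ⟨w, hw, -⟩ := Scheme.exists_preimage_of_isPullback hsq z ⟨_, hz⟩ rfl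
        exact ⟨w, hw⟩
    exact ⟨V, hV, hr ▸ ⟨s, hs⟩⟩
  obtain ⟨h1, h2⟩ := S16759.of_local (pullback.snd f h) h0 (pbL f L h) hloc
  haveI := h2
  exact ⟨_, h1, ⟨(asIso ((Scheme.Modules.pullbackPushforwardAdjunction _).counit.app _)).symm⟩⟩

/-- Factoring through the seesaw subscheme, in terms of modules from the base. -/
theorem locTriv_iff (hc : RigidApply.ConstFibres f) {T : Scheme.{u}} (h : T ⟶ S) :
    LocTriv f L h ↔ ∃ M : T.Modules, PicF.IsInvertible M ∧
      Nonempty (pbL f L h ≅ (Scheme.Modules.pullback (pullback.snd f h)).obj M) :=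
  ⟨fun hT => hT.exists_iso (UnivH0.bijective_app f hc T h), fun ⟨M, hM, ⟨e⟩⟩ => .of_iso M hM e⟩

end Groth.Agent.PicFRel.SeesawScheme
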