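import Groth.Agent.PicFRel.ProperModel
import Groth.Agent.PicFRel.SeesawScheme
import Groth.Agent.GrpSchLib.AntiAffineBC
import Groth.Agent.PicFRel.BcZero

/-!
# The seesaw subscheme over an arbitrary base

For a proper flat family of finite presentation with constant functions and an invertible module, the
maps over which the module comes from the base, locally on the source, are those factoring through one
subscheme of the base, which is closed for geometrically integral fibres.
-/

set_option autoImplicit false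
set_option backward.isDefEq.respectTransparency false
set_option backward.isDefEq.respectTransparency.types false
set_option linter.style.haveILetI false

universe u

open CategoryTheory CategoryTheory.Limits AlgebraicGeometry TopologicalSpace Opposite

namespace Groth.Agent.PicFRel.SeesawGen

open Groth.Agent.InvX Groth.Agent.H23 Groth.Agent.H23.TrivBasic Groth.Agent.H23.SeesawGlobal
open Groth.Agent.PicFRel.SeesawChart Groth.Agent.PicFRel.SeesawScheme

section Transfer

variable {X S X₀ S₀ : Scheme.{u}} {f : X ⟶ S} {f₀ : X₀ ⟶ S₀} {q : X ⟶ X₀} {π : S ⟶ S₀}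
  (hsq : IsPullback q f f₀ π) {T : Scheme.{u}} (h : T ⟶ S)

include hsq in
/-- Base change in two steps. -/
theorem isPullback_comp :
    IsPullback (pullback.fst f h ≫ q) (pullback.snd f h) f₀ (h ≫ π) :=
  (IsPullback.of_hasPullback f h).paste_horiz hsq

include hsq in
/-- Triviality does not change under base change of the family. -/
theorem trivOver_iff {L : X.Modules} {L₀ : X₀.Modules}
    (ψ : (Scheme.Modules.pullback q).obj L₀ ≅ L) : TrivOver f L h ↔ TrivOver f₀ L₀ (h ≫ π) := by
  have hP := isPullback_comp hsq h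
  let i := hP.isoPullback
  have hi : i.hom ≫ pullback.fst f₀ (h ≫ π) = pullback.fst f h ≫ q := hP.isoPullback_hom_fst
  have h1 : TrivOver f L h ↔ Triv ((Scheme.Modules.pullback (pullback.fst f h ≫ q)).obj L₀) := by
    rw [← triv_comp_iff (pullback.fst f h) q]
    exact ⟨Triv.of_iso ((Scheme.Modules.pullback _).mapIso ψ).symm,
      Triv.of_iso ((Scheme.Modules.pullback _).mapIso ψ)⟩
  rw [h1]
  refine ⟨fun H => ?_, fun H => triv_of_factor i.hom hi H⟩
  refine triv_of_factor (b := pullback.fst f h ≫ q) i.inv ?_ H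
  rw [← hi, Iso.inv_hom_id_assoc]

include hsq in
/-- Local triviality does not change under base change of the family. -/
theorem locTriv_congr {L : X.Modules} {L₀ : X₀.Modules}
    (ψ : (Scheme.Modules.pullback q).obj L₀ ≅ L) : LocTriv f L h ↔ LocTriv f₀ L₀ (h ≫ π) := by
  refine forall_congr' fun t => exists_congr fun V => and_congr_right fun _ => ?_
  rw [trivOver_iff hsq (V.ι ≫ h) ψ, Category.assoc]

include hsq in
/-- Constant functions after the base change are those of the original family. -/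
theorem bijective_snd_iff : Function.Bijective (pullback.snd f h).appTop ↔
    Function.Bijective (pullback.snd f₀ (h ≫ π)).appTop := by
  have hP := isPullback_comp hsq h
  rw [← hP.isoPullback_hom_snd, Scheme.Hom.comp_appTop]
  exact Function.Bijective.of_comp_iff' (SeesawGlobal.bijective_appTop_iso hP.isoPullback) _

/-- Constant functions over one field point give constant functions on the fibre. -/
theorem bijective_fibre_of_point [QuasiCompact f₀] [QuasiSeparated f₀] (K : Type u) [Field K]
    (k : Spec (CommRingCat.of K) ⟶ S₀) (hb : Function.Bijective (pullback.snd f₀ k).appTop) :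
    Function.Bijective
      (pullback.snd f₀ (S₀.fromSpecResidueField (k (IsLocalRing.closedPoint K)))).appTop := by
  let φ := Scheme.descResidueField (Scheme.stalkClosedPointTo k)
  let a := S₀.fromSpecResidueField (k (IsLocalRing.closedPoint K))
  have hfac : Spec.map φ ≫ a = k :=
    Scheme.descResidueField_stalkClosedPointTo_fromSpecResidueField K S₀ k
  let e : pullback f₀ k ≅ pullback (pullback.snd f₀ a) (Spec.map φ) :=
    pullback.congrHom rfl hfac.symm ≪≫ (pullbackLeftPullbackSndIso f₀ a (Spec.map φ)).symm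
  have he : pullback.snd f₀ k = e.hom ≫ pullback.snd (pullback.snd f₀ a) (Spec.map φ) := by
    simp [e, pullback.congrHom, pullback.map, pullbackLeftPullbackSndIso_inv_snd_snd]
  refine GrpSchLib.AntiAffine.bijective_of_bijective_snd (pullback.snd f₀ a) φ.hom ?_
  rw [he, Scheme.Hom.comp_appTop] at hb
  exact (Function.Bijective.of_comp_iff' (SeesawGlobal.bijective_appTop_iso e) _).1 hb

include hsq in
/-- Constant fibres descend to the image of the base. -/
theorem bijective_snd_image [QuasiCompact f₀] [QuasiSeparated f₀] (hc : RigidApply.ConstFibres f) (s : S) :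
    Function.Bijective (pullback.snd f₀ (S₀.fromSpecResidueField (π s))).appTop := by
  have hk : (S.fromSpecResidueField s ≫ π) (IsLocalRing.closedPoint (S.residueField s)) = π s :=
    congrArg π (S.fromSpecResidueField_apply s _)
  rw [← hk]
  exact bijective_fibre_of_point (S.residueField s) _ ((bijective_snd_iff hsq _).1 (hc s))

include hsq in
/-- Constant fibres pass to base changes. -/
theorem constFibres_of_isPullback [QuasiCompact f₀] [QuasiSeparated f₀]
    (hc : ∀ s, Function.Bijective (pullback.snd f₀ (S₀.fromSpecResidueField (π s))).appTop) :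
    RigidApply.ConstFibres f := fun s =>
  (bijective_snd_iff hsq _).2 (UnivH0.fieldH0_of_fibre f₀ (π s) (hc s) _ _
    (congrArg π (S.fromSpecResidueField_apply s _)))

end Transfer

section Field

variable {X S : Scheme.{u}} {f : X ⟶ S} [IsProper f] [Flat f] {L : X.Modules}

/-- A nonzero form at a field point means the point is in the support. -/
theorem exists_form_iff {A : Type u} [CommRing A] [IsNoetherianRing A] (Q : Type u) [AddCommGroup Q] [Module A Q]
    [Module.Finite A Q] (K : Type u) [Field K] [Algebra A K] :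
    (∃ g : Q →ₗ[A] K, g ≠ 0) ↔
      (⟨RingHom.ker (algebraMap A K), RingHom.ker_isPrime _⟩ : PrimeSpectrum A) ∈ Module.support A Q := by
  let x : PrimeSpectrum A := ⟨RingHom.ker (algebraMap A K), RingHom.ker_isPrime _⟩
  constructor
  · rintro ⟨g, hg⟩
    obtain ⟨q, hq⟩ : ∃ q, g q ≠ 0 := by
      by_contra H
      push Not at H
      exact hg (LinearMap.ext H)
    refine Module.mem_support_iff_exists_annihilator.2 ⟨q, fun a ha => ?_⟩
    rw [RingHom.mem_ker]
    have h0 := congrArg g (Submodule.mem_annihilator_span_singleton q a |>.1 ha)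
    rw [map_smul, map_zero, Algebra.smul_def] at h0
    exact (mul_eq_zero.1 h0).resolve_right hq
  · intro hx
    haveI : x.asIdeal.IsPrime := x.isPrime
    obtain ⟨g, hg⟩ := (Seesaw.exists_form_ne_zero_iff Q x).2 hx
    let ι : x.asIdeal.ResidueField →ₐ[A] K :=
      Ideal.ResidueField.liftₐ x.asIdeal (Algebra.ofId A K) le_rfl (fun a ha => isUnit_iff_ne_zero.2 ha)
    exact ⟨ι.toLinearMap ∘ₗ g, fun h => hg (LinearMap.ext fun q =>
      ι.toRingHom.injective ((LinearMap.congr_fun h q).trans (map_zero _).symm))⟩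

end Field

/-- The points of an affine base over whose residue field the module is trivial form a closed set, for
geometrically integral fibres. -/
theorem isClosed_trivAt {X S : Scheme.{u}} [IsAffine S] (f : X ⟶ S) [IsProper f] [Flat f]
    [LocallyOfFinitePresentation f] [GeometricallyIntegral f] (L : X.Modules) (hL : PicF.IsInvertible L) :
    IsClosed {s : S | TrivOver f L (S.fromSpecResidueField s)} := by
  obtain ⟨S₀, X₀, π, f₀, q, L₀, hN, hA, hpr, hfl, hsq, hL₀, ⟨ψ⟩⟩ := ProperModel.exists_model f L hL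
  haveI := hN; haveI := hA; haveI := hpr; haveI := hfl
  obtain ⟨D₀, hD₀, ⟨φ⟩⟩ := PicInv.exists_inverse hL₀
  haveI : IsNoetherianRing Γ(S₀, ⊤) := IsLocallyNoetherian.component_noetherian ⟨⊤, isAffineOpen_top S₀⟩
  let g : Spec Γ(S₀, ⊤) ⟶ S₀ := S₀.isoSpec.inv
  obtain ⟨Q, hQf, e, -, hQ⟩ := exists_repAt (A := Γ(S₀, ⊤)) (f := f₀) (L := L₀) g hL₀
  obtain ⟨Q', hQf', e', -, hQ'⟩ := exists_repAt (A := Γ(S₀, ⊤)) (f := f₀) (L := D₀) g hD₀
  let ρ : S ⟶ Spec Γ(S₀, ⊤) := π ≫ S₀.isoSpec.hom
  suffices {s : S | TrivOver f L (S.fromSpecResidueField s)} =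
      ρ ⁻¹' (Module.support Γ(S₀, ⊤) Q ∩ Module.support Γ(S₀, ⊤) Q') by
    rw [this]
    exact (Module.isClosed_support.inter Module.isClosed_support).preimage ρ.continuous
  ext s
  obtain ⟨χ, hχ⟩ := Spec.map_surjective (S.fromSpecResidueField s ≫ ρ)
  letI : Algebra Γ(S₀, ⊤) (S.residueField s) := χ.hom.toAlgebra
  have hh : Seesaw.specAlg Γ(S₀, ⊤) (S.residueField s) ≫ g = S.fromSpecResidueField s ≫ π := by
    show Spec.map χ ≫ S₀.isoSpec.inv = _
    rw [hχ]
    simp [ρ]
  have hx : ρ s = (⟨RingHom.ker (algebraMap Γ(S₀, ⊤) (S.residueField s)), RingHom.ker_isPrime _⟩ : PrimeSpectrum Γ(S₀, ⊤)) := by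
    refine (congrArg ρ (S.fromSpecResidueField_apply s
      (IsLocalRing.closedPoint (S.residueField s)))).symm.trans ?_
    rw [← Scheme.Hom.comp_apply, ← hχ]
    refine PrimeSpectrum.ext ?_
    show Ideal.comap χ.hom (IsLocalRing.maximalIdeal (S.residueField s)) = _
    rw [IsLocalRing.maximalIdeal_eq_bot]
    rfl
  rw [Set.mem_ofPred_eq, Set.mem_preimage, Set.mem_inter_iff, hx, ← exists_form_iff, ← exists_form_iff,
    trivOver_iff hsq _ ψ]
  obtain ⟨eB, -⟩ := hQ (S.residueField s) _ hh
  obtain ⟨eB', -⟩ := hQ' (S.residueField s) _ hh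
  let k := S.fromSpecResidueField s ≫ π
  let p := pullback.fst f₀ k
  haveI : IsIntegral (pullback f (S.fromSpecResidueField s)) :=
    GeometricallyIntegral.isIntegral_of_subsingleton (pullback.snd f (S.fromSpecResidueField s))
  haveI : Nonempty ↥(pullback f₀ k) :=
    ⟨(isPullback_comp hsq (S.fromSpecResidueField s)).isoPullback.hom Classical.ofNonempty⟩
  haveI : IsIntegral (pullback f₀ k) :=
    isIntegral_of_isOpenImmersion (isPullback_comp hsq (S.fromSpecResidueField s)).isoPullback.inv
  have hb : Function.Bijective (pullback.snd f₀ k).appTop :=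
    (bijective_snd_iff hsq _).1 (RigidApply.constFibres_of_geometricallyIntegral f s)
  have hΓ : IsField Γ(pullback f₀ k, ⊤) := Seesaw.isField_Γ _ hb
  let χ' : CohB1.tensorMod (pbL f₀ L₀ k) (pbL f₀ D₀ k) ≅ Coh.structureModule (pullback f₀ k) :=
    (PicMul.pull p L₀ D₀).some.symm ≪≫ (Scheme.Modules.pullback p).mapIso φ ≪≫
      (PicClLib.nonempty_pullback_structureModule p).some
  have hiff : ∀ (G : Type u) (M : (pullback f₀ k).Modules) [AddCommGroup G] (eG : G ≃+ Γ(M, ⊤)),
      (∃ x : G, x ≠ 0) ↔ ∃ y : Γ(M, ⊤), y ≠ 0 := fun G M _ eG =>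
    eG.toEquiv.exists_congr fun x => (map_ne_zero_iff eG eG.injective).symm
  rw [hiff _ _ eB, hiff _ _ eB']
  constructor
  · intro hT
    have hnz : ∀ M : (pullback f₀ k).Modules, Triv M → ∃ y : Γ(M, ⊤), y ≠ 0 := fun M hM => by
      obtain ⟨y, hy⟩ := hM.exists_frame
      refine ⟨y, fun hy0 => hΓ.exists_pair_ne.elim fun a ⟨b, hab⟩ => hab ?_⟩
      exact (UnivH0.bijective_smul_frame hy).1 (show a • y = b • y by rw [hy0, smul_zero, smul_zero])
    refine ⟨hnz _ hT, hnz _ ?_⟩
    refine Triv.of_iso ((PicMul.unit _).some) ?_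
    refine Triv.of_iso (PicGrp.tensorModIso (Iso.refl _) hT.some) ?_
    refine Triv.of_iso ((PicMul.comm _ _).some) ?_
    exact ⟨χ'⟩
  · rintro ⟨⟨y, hy⟩, y', hy'⟩
    exact BcZero.triv_of_sections hΓ (PicClLib.isInvertible_pullback _ hL₀)
      (PicClLib.isInvertible_pullback _ hD₀) χ' hy hy'

/-- The seesaw subscheme over an affine base. -/
theorem exists_seesaw_affine {X S : Scheme.{u}} [IsAffine S] (f : X ⟶ S) [IsProper f] [Flat f]
    [LocallyOfFinitePresentation f] (L : X.Modules) (hL : PicF.IsInvertible L)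
    (hc : RigidApply.ConstFibres f) :
    ∃ (Z : Scheme.{u}) (z : Z ⟶ S), IsImmersion z ∧
      (∀ (T : Scheme.{u}) (h : T ⟶ S), (∃ w : T ⟶ Z, w ≫ z = h) ↔ LocTriv f L h) ∧
      Set.range z = {s : S | TrivOver f L (S.fromSpecResidueField s)} := by
  obtain ⟨S₀, X₀, π, f₀, q, L₀, hN, hA, hpr, hfl, hsq, hL₀, ⟨ψ⟩⟩ := ProperModel.exists_model f L hL
  haveI := hN; haveI := hA; haveI := hpr; haveI := hfl
  let U : S₀.Opens := ⟨{y | Function.Bijective (pullback.snd f₀ (S₀.fromSpecResidueField y)).appTop}, by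
    rw [isOpen_iff_forall_mem_open]
    intro y hy
    obtain ⟨W, hyW, hW⟩ := UnivH0.exists_nhd_constant f₀ y hy
    exact ⟨W, fun z hz => hW z hz, W.isOpen, hyW⟩⟩
  have hπ : ∀ s, π s ∈ U := fun s => bijective_snd_image hsq hc s
  have hr : Set.range π ⊆ Set.range U.ι := by
    rw [Scheme.Opens.range_ι]
    rintro _ ⟨s, rfl⟩
    exact hπ s
  let π' : S ⟶ U.toScheme := IsOpenImmersion.lift U.ι π hr
  have hπ' : π' ≫ U.ι = π := IsOpenImmersion.lift_fac _ _ _
  have hU := (isPullback_morphismRestrict f₀ U).flip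
  let q' : X ⟶ (f₀ ⁻¹ᵁ U).toScheme := hU.lift q (f ≫ π') (by rw [Category.assoc, hπ', hsq.w])
  have hq' : q' ≫ (f₀ ⁻¹ᵁ U).ι = q := hU.lift_fst _ _ _
  have hsq' : IsPullback q' f (f₀ ∣_ U) π' :=
    IsPullback.of_right (by rw [hq', hπ']; exact hsq) (hU.lift_snd _ _ _) hU
  have hc₁ : RigidApply.ConstFibres (f₀ ∣_ U) := constFibres_of_isPullback hU fun u => u.2
  let L₁ := (Scheme.Modules.pullback (f₀ ⁻¹ᵁ U).ι).obj L₀
  let ψ' : (Scheme.Modules.pullback q').obj L₁ ≅ L :=
    (Scheme.Modules.pullbackComp q' (f₀ ⁻¹ᵁ U).ι).app L₀ ≪≫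
      (Scheme.Modules.pullbackCongr hq').app L₀ ≪≫ ψ
  haveI : IsProper (f₀ ∣_ U) := MorphismProperty.of_isPullback hU inferInstance
  haveI : Flat (f₀ ∣_ U) := MorphismProperty.of_isPullback hU inferInstance
  haveI : IsLocallyNoetherian U.toScheme := isLocallyNoetherian_of_isOpenImmersion U.ι
  obtain ⟨Z₁, z₁, hz₁, huniv₁, hrange₁⟩ :=
    SeesawScheme.exists_seesaw (f₀ ∣_ U) L₁ (PicClLib.isInvertible_pullback _ hL₀) hc₁
  haveI := hz₁
  refine ⟨pullback π' z₁, pullback.fst π' z₁, inferInstance, fun T h => ?_, ?_⟩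
  · rw [locTriv_congr hsq' h ψ', ← huniv₁]
    constructor
    · rintro ⟨w, rfl⟩
      exact ⟨w ≫ pullback.snd π' z₁, by rw [Category.assoc, Category.assoc, pullback.condition]⟩
    · rintro ⟨w, hw⟩
      exact ⟨pullback.lift h w hw.symm, pullback.lift_fst _ _ _⟩
  · rw [Scheme.Pullback.range_fst, hrange₁]
    ext s
    rw [Set.mem_preimage, Set.mem_ofPred_eq, Set.mem_ofPred_eq, trivOver_iff hsq' _ ψ']
    constructor
    · exact fun H => H (S.residueField s) _ (congrArg π' (S.fromSpecResidueField_apply s _))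
    · exact fun H => fieldTriv_of_point (PicClLib.isInvertible_pullback _ hL₀) hc₁ (S.residueField s) _
        (congrArg π' (S.fromSpecResidueField_apply s _)) H

/-- The seesaw subscheme over any base. -/
theorem exists_seesaw {X S : Scheme.{u}} (f : X ⟶ S) [IsProper f] [Flat f]
    [LocallyOfFinitePresentation f] (L : X.Modules) (hL : PicF.IsInvertible L)
    (hc : RigidApply.ConstFibres f) :
    ∃ (Z : Scheme.{u}) (z : Z ⟶ S), IsImmersion z ∧
      (∀ (T : Scheme.{u}) (h : T ⟶ S), (∃ w : T ⟶ Z, w ≫ z = h) ↔ LocTriv f L h) ∧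
      Set.range z = {s : S | TrivOver f L (S.fromSpecResidueField s)} := by
  have hsqV : ∀ V : S.Opens, IsPullback (f ⁻¹ᵁ V).ι (f ∣_ V) f V.ι := fun V =>
    (isPullback_morphismRestrict f V).flip
  have hcV : ∀ V : S.Opens, RigidApply.ConstFibres (f ∣_ V) := fun V =>
    constFibres_of_isPullback (hsqV V) fun v => hc _
  have hchart : ∀ V : S.affineOpens, ∃ (W : Scheme.{u}) (w : W ⟶ V.1.toScheme), IsImmersion w ∧
      ∀ (T : Scheme.{u}) (h : T ⟶ V.1.toScheme), (∃ u : T ⟶ W, u ≫ w = h) ↔ LocTriv f L (h ≫ V.1.ι) := by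
    intro V
    haveI : IsAffine V.1.toScheme := V.2
    haveI : IsProper (f ∣_ V.1) := MorphismProperty.of_isPullback (hsqV V.1) inferInstance
    haveI : Flat (f ∣_ V.1) := MorphismProperty.of_isPullback (hsqV V.1) inferInstance
    haveI : LocallyOfFinitePresentation (f ∣_ V.1) := MorphismProperty.of_isPullback (hsqV V.1) inferInstance
    obtain ⟨W, w, hw, hu, -⟩ := exists_seesaw_affine (f ∣_ V.1) ((Scheme.Modules.pullback (f ⁻¹ᵁ V.1).ι).obj L)
      (PicClLib.isInvertible_pullback _ hL) (hcV V.1)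
    exact ⟨W, w, hw, fun T h => (hu T h).trans (locTriv_congr (hsqV V.1) h (Iso.refl _))⟩
  choose W w hw hu using hchart
  haveI := hw
  obtain ⟨Z, z, hz, huniv⟩ := SubRep.exists_immersion (fun T h => LocTriv f L h)
    (fun T T' g h hh => hh.precomp g h) (fun T h hh => LocTriv.of_local h hh) (fun V : S.affineOpens => V.1)
    W (fun V => w V ≫ V.1.ι) (fun V => by
      rintro _ ⟨a, rfl⟩
      exact (w V a).2)
    (fun V => (hu V _ (w V)).1 ⟨𝟙 _, Category.id_comp _⟩)
    (fun V T h _ hr hT => by
      have hr' : Set.range h ⊆ Set.range V.1.ι := by rwa [Scheme.Opens.range_ι]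
      obtain ⟨a, ha⟩ := (hu V T (IsOpenImmersion.lift V.1.ι h hr')).2 (by rwa [IsOpenImmersion.lift_fac])
      exact ⟨a, by rw [← Category.assoc, ha, IsOpenImmersion.lift_fac]⟩)
    (fun T h hh t => by
      obtain ⟨_, ⟨V, hV, rfl⟩, hxV, -⟩ :=
        S.isBasis_affineOpens.exists_subset_of_mem_open (Set.mem_univ (h t)) isOpen_univ
      exact ⟨⟨V, hV⟩, hxV⟩)
  refine ⟨Z, z, hz, huniv, ?_⟩
  ext s
  constructor
  · rintro ⟨a, rfl⟩
    obtain ⟨V, hV, hV'⟩ := (huniv _ (Z.fromSpecResidueField a ≫ z)).1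
      ⟨_, rfl⟩ (IsLocalRing.closedPoint _)
    -- a field point over `z a` with trivial module
    have htop : V = ⊤ := eq_top_iff.2 fun p _ => Subsingleton.elim (α := PrimeSpectrum _) p _ ▸ hV
    subst htop
    have hK : TrivOver f L (Z.fromSpecResidueField a ≫ z) :=
      (hV'.precomp (Scheme.topIso _).inv).of_eq (by simp)
    exact descend hc hL (z a) _ (congrArg z (Z.fromSpecResidueField_apply a _)) hK
  · intro hs
    obtain ⟨b, hb⟩ := (huniv _ (S.fromSpecResidueField s)).2 (LocTriv.of_trivOver hs)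
    exact ⟨b (IsLocalRing.closedPoint _), by
      rw [← Scheme.Hom.comp_apply, hb]; exact S.fromSpecResidueField_apply s _⟩
where
  descend {X S : Scheme.{u}} {f : X ⟶ S} [IsProper f] [Flat f] {L : X.Modules}
      (hc : RigidApply.ConstFibres f) (hL : PicF.IsInvertible L) (y : S) {K : Type u} [Field K]
      (k : Spec (CommRingCat.of K) ⟶ S) (hk : k (IsLocalRing.closedPoint K) = y) (hT : TrivOver f L k) :
      TrivOver f L (S.fromSpecResidueField y) :=
    fieldTriv_of_point hL hc K k hk hT _ _ (S.fromSpecResidueField_apply y _)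

/-- For geometrically integral fibres the seesaw subscheme over any base is closed. -/
theorem exists_seesaw_closed {X S : Scheme.{u}} (f : X ⟶ S) [IsProper f] [Flat f]
    [LocallyOfFinitePresentation f] [GeometricallyIntegral f] (L : X.Modules) (hL : PicF.IsInvertible L) :
    ∃ (Z : Scheme.{u}) (z : Z ⟶ S), IsClosedImmersion z ∧
      (∀ (T : Scheme.{u}) (h : T ⟶ S), (∃ w : T ⟶ Z, w ≫ z = h) ↔ LocTriv f L h) ∧
      Set.range z = {s : S | TrivOver f L (S.fromSpecResidueField s)} := by
  obtain ⟨Z, z, hz, huniv, hrange⟩ := exists_seesaw f L hL (RigidApply.constFibres_of_geometricallyIntegral f)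
  refine ⟨Z, z, IsClosedImmersion.of_isPreimmersion z ?_, huniv, hrange⟩
  rw [hrange]
  refine (IsOpenCover.mk (iSup_affineOpens_eq_top S)).isClosed_iff_coe_preimage.2 fun V => ?_
  haveI : IsAffine V.1.toScheme := V.2
  have hsqV := (isPullback_morphismRestrict f V.1).flip
  haveI : IsProper (f ∣_ V.1) := MorphismProperty.of_isPullback hsqV inferInstance
  haveI : Flat (f ∣_ V.1) := MorphismProperty.of_isPullback hsqV inferInstance
  haveI : LocallyOfFinitePresentation (f ∣_ V.1) := MorphismProperty.of_isPullback hsqV inferInstance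
  haveI : GeometricallyIntegral (f ∣_ V.1) := MorphismProperty.of_isPullback hsqV inferInstance
  have hc := RigidApply.constFibres_of_geometricallyIntegral f
  refine (congrArg (IsClosed (X := V.1.toScheme)) (Set.ext fun v => ?_)).mp
    (isClosed_trivAt (f ∣_ V.1) ((Scheme.Modules.pullback (f ⁻¹ᵁ V.1).ι).obj L)
      (PicClLib.isInvertible_pullback _ hL))
  have hk : (V.1.toScheme.fromSpecResidueField v ≫ V.1.ι)
      (IsLocalRing.closedPoint (V.1.toScheme.residueField v)) = v.1 :=
    congrArg V.1.ι (V.1.toScheme.fromSpecResidueField_apply v _)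
  show TrivOver (f ∣_ V.1) _ (V.1.toScheme.fromSpecResidueField v) ↔
    TrivOver f L (S.fromSpecResidueField v.1)
  rw [trivOver_iff (L := (Scheme.Modules.pullback (f ⁻¹ᵁ V.1).ι).obj L) (L₀ := L) hsqV
    (V.1.toScheme.fromSpecResidueField v) (Iso.refl _)]
  constructor
  · intro H
    exact exists_seesaw.descend hc hL v.1 (V.1.toScheme.fromSpecResidueField v ≫ V.1.ι) hk H
  · intro H
    exact fieldTriv_of_point hL hc (S.residueField v.1) (S.fromSpecResidueField v.1)
      (S.fromSpecResidueField_apply v.1 (IsLocalRing.closedPoint (S.residueField v.1))) H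
      (V.1.toScheme.residueField v) (V.1.toScheme.fromSpecResidueField v ≫ V.1.ι) hk

end Groth.Agent.PicFRel.SeesawGen
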