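import Groth.Agent.PicFRel.InvApprox
import Groth.Agent.MorLib.BaseChangeLim
import Groth.Agent.LimMor.SubalgUnion
import Groth.Agent.PicClLib.Basic

/-!
# Invertible modules on a product with an affine scheme over a field

An invertible module on the product of a quasi-compact quasi-separated scheme over a field with an
affine scheme comes from the product with an affine scheme of finite type.
-/

set_option autoImplicit false
set_option backward.isDefEq.respectTransparency false
set_option backward.isDefEq.respectTransparency.types false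
set_option linter.style.haveILetI false

universe u

open CategoryTheory CategoryTheory.Limits AlgebraicGeometry MonoidalCategory CartesianMonoidalCategory

namespace Groth.Agent.PicFRel.StageField

open Groth.Agent.MorLib

variable {k : Type u} [Field k]

/-- An invertible module comes from a product with an affine Noetherian scheme. -/
theorem exists_stage (P : Over (Spec (CommRingCat.of k))) [QuasiCompact P.hom] [QuasiSeparated P.hom]
    (Z : Over (Spec (CommRingCat.of k))) [IsAffine Z.left] (L : (P ⊗ Z).left.Modules)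
    (hL : PicF.IsInvertible L) :
    ∃ (Z₀ : Over (Spec (CommRingCat.of k))) (g : Z ⟶ Z₀) (_ : IsAffine Z₀.left)
      (_ : IsNoetherian Z₀.left) (L₀ : (P ⊗ Z₀).left.Modules), PicF.IsInvertible L₀ ∧
        Nonempty ((Scheme.Modules.pullback (P ◁ g).left).obj L₀ ≅ L) := by
  classical
  obtain ⟨α, hα⟩ := Spec.map_surjective (Z.left.isoSpec.inv ≫ Z.hom)
  let A : Type u := Γ(Z.left, ⊤)
  letI : Algebra k A := α.hom.toAlgebra
  let 𝒮 : Finset A → Subalgebra k A := fun s => Algebra.adjoin k (s : Set A)
  have hdir : Directed (· ≤ ·) 𝒮 := fun s t => ⟨s ∪ t,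
    Algebra.adjoin_mono (by simp), Algebra.adjoin_mono (by simp)⟩
  have hcov : ∀ a : A, ∃ s, a ∈ 𝒮 s := fun a => ⟨{a}, Algebra.subset_adjoin (by simp)⟩
  haveI : IsDirectedOrder (LimMor.SubIdx 𝒮) := ⟨fun i j => hdir i j⟩
  haveI : Nonempty (LimMor.SubIdx 𝒮) := ⟨(∅ : Finset A)⟩
  obtain ⟨hcol⟩ := LimMor.nonempty_isColimit_subCocone 𝒮 hdir hcov
  let D := (LimMor.subSys 𝒮).op ⋙ Scheme.Spec
  let c := Scheme.Spec.mapCone (LimMor.subCocone 𝒮).op
  have hc : IsLimit c := isLimitOfPreserves Scheme.Spec hcol.op
  haveI : ∀ {i j} (f : i ⟶ j), IsAffineHom (D.map f) := fun f => isAffineHom_of_isAffine (Spec.map _)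
  let o : (LimMor.SubIdx 𝒮)ᵒᵖ := Opposite.op (∅ : Finset A)
  let str : D.obj o ⟶ Spec (CommRingCat.of k) :=
    Spec.map (CommRingCat.ofHom (algebraMap k (𝒮 (∅ : Finset A))))
  let xi : pullback P.hom str ⟶ D.obj o := pullback.snd P.hom str
  haveI : IsAffine (D.obj o) := inferInstanceAs (IsAffine (Spec (CommRingCat.of (𝒮 (∅ : Finset A)))))
  haveI : CompactSpace ↥(pullback P.hom str) := QuasiCompact.compactSpace_of_compactSpace xi
  haveI : QuasiSeparatedSpace ↥(pullback P.hom str) := quasiSeparatedSpace_of_quasiSeparated xi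
  have hstr : Z.left.isoSpec.hom ≫ c.π.app o ≫ str = Z.hom := by
    have : c.π.app o ≫ str = Spec.map α :=
      (Spec.map_comp _ _).symm.trans (congrArg Spec.map (CommRingCat.hom_ext (RingHom.ext fun x => rfl)))
    rw [this, hα]
    simp
  let pX : (P ⊗ Z).left ⟶ c.pt := (snd P Z).left ≫ Z.left.isoSpec.hom
  have hbig : IsPullback (fst P Z).left pX P.hom (c.π.app o ≫ str) := by
    refine (IsPullback.of_hasPullback P.hom Z.hom).of_iso (Iso.refl _) (Iso.refl _) Z.left.isoSpec
      (Iso.refl _) ?_ ?_ ?_ ?_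
    · exact (Category.comp_id _).trans (Category.id_comp _).symm
    · exact (Category.id_comp _).symm
    · exact (Category.comp_id _).trans (Category.id_comp _).symm
    · rw [Iso.refl_hom, Category.comp_id]
      exact hstr.symm
  let qX : (P ⊗ Z).left ⟶ pullback P.hom str :=
    pullback.lift (fst P Z).left (pX ≫ c.π.app o) (by rw [Category.assoc]; exact hbig.w)
  have hX : IsPullback qX pX xi (c.π.app o) :=
    IsPullback.of_right (by rw [pullback.lift_fst]; exact hbig) (pullback.lift_snd _ _ _)
      (IsPullback.of_hasPullback P.hom str)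
  obtain ⟨j, M, hM, ⟨ψ⟩⟩ := InvApprox.exists_invertible_stage (D := BC.diag D xi)
    (c := BC.cone D xi hX) (BC.isLimitCone D xi hX hc) L hL
  let Z₀ : Over (Spec (CommRingCat.of k)) := Over.mk (D.map j.hom ≫ str)
  let g : Z ⟶ Z₀ := Over.homMk (Z.left.isoSpec.hom ≫ c.π.app j.left) (by
    show (_ ≫ _) ≫ D.map j.hom ≫ str = _
    rw [Category.assoc, ← Category.assoc (c.π.app j.left), c.w, hstr])
  let Φ : (P ⊗ Z₀).left ⟶ pullback xi (D.map j.hom) :=
    pullback.lift (pullback.lift (fst P Z₀).left ((snd P Z₀).left ≫ D.map j.hom)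
      (by rw [Category.assoc]; exact pullback.condition)) (snd P Z₀).left (pullback.lift_snd _ _ _)
  have hΦ : (P ◁ g).left ≫ Φ = BC.proj D xi hX j := by
    have h1 : (P ◁ g).left ≫ (fst P Z₀).left = (fst P Z).left := by
      rw [← Over.comp_left, whiskerLeft_fst]
    have h2 : (P ◁ g).left ≫ (snd P Z₀).left = (snd P Z).left ≫ g.left := by
      rw [← Over.comp_left, whiskerLeft_snd, Over.comp_left]
    apply pullback.hom_ext
    · rw [Category.assoc, pullback.lift_fst, BC.proj_fst]
      apply pullback.hom_ext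
      · rw [Category.assoc, pullback.lift_fst, pullback.lift_fst, h1]
      · rw [Category.assoc, pullback.lift_snd, pullback.lift_snd, ← Category.assoc, h2]
        show ((snd P Z).left ≫ Z.left.isoSpec.hom ≫ c.π.app j.left) ≫ D.map j.hom = _
        simp only [pX, Category.assoc]
        exact congrArg (fun t => (snd P Z).left ≫ Z.left.isoSpec.hom ≫ t) (c.w j.hom)
    · rw [Category.assoc, pullback.lift_snd, BC.proj_snd, h2]
      show (snd P Z).left ≫ Z.left.isoSpec.hom ≫ c.π.app j.left = _
      simp only [pX, Category.assoc]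
  refine ⟨Z₀, g, inferInstanceAs (IsAffine (Spec (CommRingCat.of (𝒮 j.left.unop)))), ?_,
    (Scheme.Modules.pullback Φ).obj M, PicClLib.isInvertible_pullback _ hM,
    ⟨(Scheme.Modules.pullbackComp (P ◁ g).left Φ).app M ≪≫
      (Scheme.Modules.pullbackCongr hΦ).app M ≪≫ ψ⟩⟩
  haveI : Algebra.FiniteType k (𝒮 j.left.unop) :=
    Algebra.FiniteType.adjoin_of_finite (Finset.finite_toSet _)
  haveI : IsNoetherianRing (𝒮 j.left.unop) := Algebra.FiniteType.isNoetherianRing k _
  exact inferInstanceAs (IsNoetherian (Spec (CommRingCat.of (𝒮 j.left.unop))))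

end Groth.Agent.PicFRel.StageField
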