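import Groth.Agent.PicFRel.H1Step
import Groth.Agent.PicFRel.StageField
import Groth.Agent.PicFRel.SeesawGen

/-!
# Invertible modules on products over a field

If a proper geometrically integral scheme has vanishing first cohomology of functions, the invertible
modules on its product with a connected scheme having a rational point come from the factors.
-/

set_option autoImplicit false
set_option backward.isDefEq.respectTransparency false
set_option backward.isDefEq.respectTransparency.types false
set_option linter.style.haveILetI false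

universe u

open CategoryTheory CategoryTheory.Limits AlgebraicGeometry MonoidalCategory CartesianMonoidalCategory
  TopologicalSpace Opposite

namespace Groth.Agent.PicFRel.ProductPic

open Groth.Agent Groth.Agent.H23 Groth.Agent.H23.TrivBasic Groth.Agent.H23.SeesawGlobal
open Groth.Agent.PicFRel.SeesawChart Groth.Agent.PicFRel.SeesawScheme
open scoped Groth.Agent.H23.PicMul

/-- An invertible module on a scheme with one point is trivial. -/
theorem triv_of_subsingleton {P : Scheme.{u}} [Subsingleton ↥P] {L : P.Modules} (hL : PicF.IsInvertible L) :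
    Triv L := by
  rcases isEmpty_or_nonempty ↥P with hP | ⟨⟨x⟩⟩
  · have he : InvX.IsFrame (M := L) (U := ⊤) 0 := fun V h => by
      have hV : V = ⊥ := Opens.ext (Set.eq_empty_of_isEmpty _)
      subst hV
      haveI : Subsingleton Γ(P, ⊥) := CommRingCat.subsingleton_of_isTerminal P.sheaf.isTerminalOfEmpty
      haveI : Subsingleton Γ(L, ⊥) := AddCommGrpCat.subsingleton_of_isZero
        (Limits.IsTerminal.isZero (TopCat.Sheaf.isTerminalOfEmpty ⟨L.presheaf, L.isSheaf⟩))
      exact ⟨fun a b _ => Subsingleton.elim a b, fun y => ⟨0, Subsingleton.elim _ y⟩⟩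
    exact triv_of_frame he
  · obtain ⟨U, hx, e, he⟩ := InvX.exists_frame hL x
    obtain rfl : U = ⊤ := eq_top_iff.2 fun y _ => Subsingleton.elim x y ▸ hx
    exact triv_of_frame he

/-- Pullback of classes is injective when the morphism has only functions from the base. -/
theorem pullCl_injective {X S : Scheme.{u}} (f : X ⟶ S) (hf : ∀ U : S.Opens, Function.Bijective (f.app U))
    {a b : PicF.Cl S} (ha : PicF.IsInvertibleCl a) (hb : PicF.IsInvertibleCl b)
    (h : PicF.pullCl f a = PicF.pullCl f b) : a = b := by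
  obtain ⟨L, rfl, hL⟩ := ha
  obtain ⟨M, rfl, hM⟩ := hb
  obtain ⟨e⟩ := PicMul.cl_eq_iff.1 h
  haveI := PullPush.isIso_unit_of_isFinLocFree f hf L (PullPush.isFinLocFree_of_isInvertible hL)
  haveI := PullPush.isIso_unit_of_isFinLocFree f hf M (PullPush.isFinLocFree_of_isInvertible hM)
  exact PicMul.cl_eq_iff.2 ⟨asIso ((Scheme.Modules.pullbackPushforwardAdjunction f).unit.app L) ≪≫
    (Scheme.Modules.pushforward f).mapIso e ≪≫
    (asIso ((Scheme.Modules.pullbackPushforwardAdjunction f).unit.app M)).symm⟩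

/-- A frame over an open of the base trivialises the module over it. -/
theorem trivOver_of_frame {X S : Scheme.{u}} {f : X ⟶ S} {L : X.Modules} {V : S.Opens}
    {s : Γ(L, f ⁻¹ᵁ V)} (hs : InvX.IsFrame s) : TrivOver f L V.ι := by
  obtain ⟨φ⟩ := InvX.nonempty_iso_of_isFrame hs
  refine triv_of_factor (isPullback_morphismRestrict f V).flip.isoPullback.inv
    ((isPullback_morphismRestrict f V).flip.isoPullback_inv_fst) ?_
  exact Triv.of_iso ((Scheme.Modules.restrictFunctorIsoPullback (f ⁻¹ᵁ V).ι).app _) ⟨φ⟩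

variable {k : Type u} [Field k] {X : Over (Spec (CommRingCat.of k))}

/-- Base change of the projection of a product. -/
theorem isPullback_whisker {Z Z' : Over (Spec (CommRingCat.of k))} (g : Z ⟶ Z') :
    IsPullback (X ◁ g).left (snd X Z).left (snd X Z').left g.left := by
  refine IsPullback.of_right (h₁₂ := (fst X Z').left) (v₁₃ := X.hom) (h₂₂ := Z'.hom) ?_ ?_
    (IsPullback.of_hasPullback X.hom Z'.hom)
  · rw [← Over.comp_left, whiskerLeft_fst, Over.w g]
    exact IsPullback.of_hasPullback X.hom Z.hom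
  · rw [← Over.comp_left, whiskerLeft_snd, Over.comp_left]

variable [IsProper X.hom] [GeometricallyIntegral X.hom]
  (h1 : Subsingleton (Coh.HH X.left (Coh.structureModule X.left) 1))

include h1 in
/-- Triviality on one fibre spreads to a neighbourhood. -/
theorem exists_trivOver_nhd (Z : Over (Spec (CommRingCat.of k))) (L : (X ⊗ Z).left.Modules)
    (hL : PicF.IsInvertible L) (z : Z.left)
    (hz : TrivOver (snd X Z).left L (Z.left.fromSpecResidueField z)) :
    ∃ V : Z.left.Opens, z ∈ V ∧ TrivOver (snd X Z).left L V.ι := by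
  obtain ⟨_, ⟨U, hU, rfl⟩, hzU, -⟩ :=
    Z.left.isBasis_affineOpens.exists_subset_of_mem_open (Set.mem_univ z) isOpen_univ
  let ZU : Over (Spec (CommRingCat.of k)) := Over.mk (Scheme.Opens.ι U ≫ Z.hom)
  let i : ZU ⟶ Z := Over.homMk (Scheme.Opens.ι U) rfl
  haveI : IsAffine ZU.left := hU
  let LU := (Scheme.Modules.pullback (X ◁ i).left).obj L
  obtain ⟨Z₀, g, hA, hN, L₀, hL₀, ⟨ψ⟩⟩ :=
    StageField.exists_stage X ZU LU (PicClLib.isInvertible_pullback _ hL)
  haveI := hA; haveI := hN
  let f₀ := (snd X Z₀).left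
  haveI : IsProper f₀ := inferInstanceAs (IsProper (pullback.snd X.hom Z₀.hom))
  haveI : Flat f₀ := inferInstanceAs (Flat (pullback.snd X.hom Z₀.hom))
  haveI : GeometricallyIntegral f₀ := inferInstanceAs (GeometricallyIntegral (pullback.snd X.hom Z₀.hom))
  let z' : ZU.left := (⟨z, hzU⟩ : U)
  let kz : Spec (CommRingCat.of (ZU.left.residueField z')) ⟶ Z₀.left :=
    ZU.left.fromSpecResidueField z' ≫ g.left
  haveI : IsProper (snd X Z).left := inferInstanceAs (IsProper (pullback.snd X.hom Z.hom))
  haveI : Flat (snd X Z).left := inferInstanceAs (Flat (pullback.snd X.hom Z.hom))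
  haveI : GeometricallyIntegral (snd X Z).left :=
    inferInstanceAs (GeometricallyIntegral (pullback.snd X.hom Z.hom))
  have hfield : FieldTriv f₀ L₀ (g.left z') := by
    refine SeesawChart.fieldTriv_of_point hL₀ (RigidApply.constFibres_of_geometricallyIntegral f₀)
      (ZU.left.residueField z') kz (congrArg g.left (ZU.left.fromSpecResidueField_apply z' _)) ?_
    refine (SeesawGen.trivOver_iff (isPullback_whisker g) _ ψ).1 ?_
    refine (SeesawGen.trivOver_iff (isPullback_whisker i) _ (Iso.refl _)).2 ?_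
    exact (fieldTriv_iff_residueField z).2 hz (ZU.left.residueField z')
      (ZU.left.fromSpecResidueField z' ≫ i.left) (congrArg i.left (ZU.left.fromSpecResidueField_apply z' _))
  obtain ⟨V₀, hzV₀, s, hs⟩ :=
    H1Step.exists_frame_near h1 (Rigid.bijective_appTop X.hom) Z₀ L₀ hL₀ (g.left z') hfield
  let W : ZU.left.Opens := g.left ⁻¹ᵁ V₀
  have hW : TrivOver (snd X ZU).left LU W.ι := by
    refine (SeesawGen.trivOver_iff (isPullback_whisker g) _ ψ).2 ?_
    exact ((trivOver_of_frame hs).precomp (g.left ∣_ V₀)).of_eq (morphismRestrict_ι _ _)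
  have hW' : TrivOver (snd X Z).left L (W.ι ≫ Scheme.Opens.ι U) :=
    (SeesawGen.trivOver_iff (isPullback_whisker i) _ (Iso.refl _)).1 hW
  refine ⟨(Scheme.Opens.ι U) ''ᵁ W, ⟨z', hzV₀, rfl⟩, ?_⟩
  exact (hW'.precomp ((Scheme.Opens.ι U).isoImage W).inv).of_eq (Scheme.Hom.isoImage_inv_ι (Scheme.Opens.ι U) W)

include h1 in
/-- The existence half. -/
theorem exists_factors (Z : Over (Spec (CommRingCat.of k))) [ConnectedSpace Z.left]
    (σ : Spec (CommRingCat.of k) ⟶ Z.left) (hσ : σ ≫ Z.hom = 𝟙 _)
    (c : PicF.Cl (X ⊗ Z).left) (hc : PicF.IsInvertibleCl c) :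
    ∃ (a : PicF.Cl Z.left) (b : PicF.Cl X.left), PicF.IsInvertibleCl a ∧ PicF.IsInvertibleCl b ∧
      c = PicF.pullCl (snd X Z).left a * PicF.pullCl (fst X Z).left b := by
  let f := (snd X Z).left
  let p := (fst X Z).left
  haveI : IsProper f := inferInstanceAs (IsProper (pullback.snd X.hom Z.hom))
  haveI : Flat f := inferInstanceAs (Flat (pullback.snd X.hom Z.hom))
  haveI : LocallyOfFinitePresentation X.hom := inferInstance
  haveI : LocallyOfFinitePresentation f :=
    inferInstanceAs (LocallyOfFinitePresentation (pullback.snd X.hom Z.hom))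
  haveI : GeometricallyIntegral f := inferInstanceAs (GeometricallyIntegral (pullback.snd X.hom Z.hom))
  let σ1 : X.left ⟶ (X ⊗ Z).left := pullback.lift (𝟙 _) (X.hom ≫ σ) (by
    rw [Category.id_comp, Category.assoc, hσ, Category.comp_id])
  have h11 : σ1 ≫ p = 𝟙 _ := pullback.lift_fst _ _ _
  have h12 : σ1 ≫ f = X.hom ≫ σ := pullback.lift_snd _ _ _
  let m := PicF.pullCl σ1 c
  have hm : PicF.IsInvertibleCl m := PicClLib.isInvertibleCl_pullCl _ hc
  obtain ⟨⟨d, hd⟩, hdm⟩ := PicMul.exists_inv ⟨m, hm⟩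
  obtain ⟨L, hcL, hL⟩ := PicMul.isInvertibleCl_mul hc (PicClLib.isInvertibleCl_pullCl p hd)
  have hσ1 : Triv ((Scheme.Modules.pullback σ1).obj L) := by
    refine PicMul.cl_eq_iff.1 ?_
    show PicF.pullCl σ1 (PicF.cl L) = 1
    rw [hcL, PicMul.pullCl_mul, PicClLib.pullCl_comp, h11, PicClLib.pullCl_id, mul_comm]
    exact hdm
  -- the fibre over the rational point
  have h0 : TrivOver f L σ := by
    refine triv_of_factor (pullback.fst f σ ≫ p) ?_ hσ1
    apply pullback.hom_ext
    · rw [Category.assoc, Category.assoc]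
      show pullback.fst f σ ≫ p ≫ σ1 ≫ p = _
      rw [h11, Category.comp_id]
      rfl
    · rw [Category.assoc, Category.assoc]
      show pullback.fst f σ ≫ p ≫ σ1 ≫ f = pullback.fst f σ ≫ f
      rw [h12]
      have hw : p ≫ X.hom = f ≫ Z.hom := pullback.condition
      rw [← Category.assoc p, hw, Category.assoc, ← Category.assoc _ f, pullback.condition]
      simp only [Category.assoc]
      rw [reassoc_of% hσ]
  have hcf := RigidApply.constFibres_of_geometricallyIntegral f
  let W : Set Z.left := {z | TrivOver f L (Z.left.fromSpecResidueField z)}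
  have hne : W.Nonempty := ⟨σ (IsLocalRing.closedPoint k),
    (fieldTriv_iff_residueField _).1 (SeesawChart.fieldTriv_of_point hL hcf k σ rfl h0)⟩
  have hcl : IsClosed W := by
    obtain ⟨Zs, zs, hzs, -, hr⟩ := SeesawGen.exists_seesaw_closed f L hL
    show IsClosed {z : Z.left | TrivOver f L (Z.left.fromSpecResidueField z)}
    rw [← hr]
    exact zs.isClosedEmbedding.isClosed_range
  have hopen : IsOpen W := by
    refine isOpen_iff_forall_mem_open.2 fun z hz => ?_
    obtain ⟨V, hzV, hV⟩ := exists_trivOver_nhd h1 Z L hL z hz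
    refine ⟨V, fun w hw => ?_, V.isOpen, hzV⟩
    exact (fieldTriv_iff_residueField w).1 (SeesawChart.fieldTriv_of_trivOver hL hcf hV ⟨w, hw⟩)
  have hall : LocTriv f L (𝟙 Z.left) := fun z => by
    have hz : z ∈ W := (IsClopen.eq_univ ⟨hcl, hopen⟩ hne).ge (Set.mem_univ z)
    obtain ⟨V, hzV, hV⟩ := exists_trivOver_nhd h1 Z L hL z hz
    exact ⟨V, hzV, hV.of_eq (Category.comp_id _).symm⟩
  have hbij : ∀ U : Z.left.Opens, Function.Bijective ((pullback.snd f (𝟙 Z.left)).app U) := fun U => by
    have e : pullback.snd f (𝟙 Z.left) = pullback.fst f (𝟙 Z.left) ≫ f := by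
      rw [pullback.condition, Category.comp_id]
    rw [e, Scheme.Hom.comp_app]
    exact (ConcreteCategory.bijective_of_isIso ((pullback.fst f (𝟙 Z.left)).app (f ⁻¹ᵁ U))).comp
      (Rigid.bijective_app_snd X.hom Z.hom U)
  obtain ⟨M, hM, ⟨e⟩⟩ := hall.exists_iso hbij
  have hLM : PicF.cl L = PicF.pullCl f (PicF.cl M) := by
    have he : PicF.pullCl (pullback.fst f (𝟙 Z.left)) (PicF.cl L) =
        PicF.pullCl (pullback.snd f (𝟙 Z.left)) (PicF.cl M) := PicMul.cl_eq_iff.2 ⟨e⟩
    have := congrArg (PicF.pullCl (inv (pullback.fst f (𝟙 Z.left)))) he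
    rw [PicClLib.pullCl_comp, PicClLib.pullCl_comp, IsIso.inv_hom_id, PicClLib.pullCl_id] at this
    rw [this]
    congr 1
    rw [IsIso.inv_comp_eq, pullback.condition, Category.comp_id]
  refine ⟨PicF.cl M, m, ⟨M, rfl, hM⟩, hm, ?_⟩
  rw [← hLM, hcL, mul_assoc, ← PicMul.pullCl_mul, mul_comm d, mul_comm m]
  rw [show d * m = 1 from hdm, PicMul.pullCl_one, mul_one]

end Groth.Agent.PicFRel.ProductPic
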