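import Groth.Agent.PicFRel.FppfUnit
import Groth.Agent.PicFRel.SeesawGen
import Groth.Agent.PicFRel.ProductPic
import Groth.Agent.InvX.GenLocusPull
import Groth.Agent.AmpleX.Locus
import Groth.Agent.PicClLib.Basic

/-!
# Modules trivial fppf-locally on the base are trivial Zariski-locally on the base

For a morphism whose functions are those of the base, universally, and with no finiteness assumption.
-/

set_option autoImplicit false
set_option backward.isDefEq.respectTransparency false
set_option backward.isDefEq.respectTransparency.types false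
set_option linter.style.haveILetI false

universe u

open CategoryTheory CategoryTheory.Limits AlgebraicGeometry TopologicalSpace

namespace Groth.Agent.PicFRel.FppfTriv

open Groth.Agent.H23 Groth.Agent.H23.TrivBasic Groth.Agent.PicFRel.SeesawChart Groth.Agent.PicFRel.SeesawScheme
open Groth.Agent.AModX Groth.Agent.PicFRel.FppfUnit

set_option maxHeartbeats 1000000 in
/-- A module trivial after a faithfully flat extension of the base ring is trivial near every prime. -/
theorem exists_triv_affine {A : Type u} [CommRing A] {X : Scheme.{u}} (f : X ⟶ Spec (CommRingCat.of A))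
    (hH : ∀ (C : Type u) [CommRing C] [Algebra A C],
      Function.Bijective (Coh.toGlobal (pullback.snd f (sp A C))))
    {L : X.Modules} (hL : PicF.IsInvertible L) {B : Type u} [CommRing B] [Algebra A B]
    [Module.FaithfullyFlat A B] (hB : Triv ((Scheme.Modules.pullback (pr f B)).obj L))
    (p : PrimeSpectrum A) :
    ∃ a : A, a ∉ p.asIdeal ∧
      TrivOver f L (Scheme.Opens.ι (X := Spec (CommRingCat.of A)) (PrimeSpectrum.basicOpen a)) := by
  choose W hW e he using fun x : X => InvX.exists_frame hL x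
  obtain ⟨s, hs⟩ := hB.exists_frame
  have hP : ∀ x, InvX.IsFrame (InvX.pullElt (pr f B) (e x)) := fun x => InvX.isFrame_pullElt _ (he x)
  choose g hg using fun x =>
    (hP x).exists_coord le_rfl (AModX.res _ (le_top : pr f B ⁻¹ᵁ W x ≤ ⊤) s)
  simp only [AModX.res_self] at hg
  have hgu : ∀ x, IsUnit (g x) := fun x => by
    have hsW := hs.res (le_top : pr f B ⁻¹ᵁ W x ≤ ⊤)
    obtain ⟨d, hd⟩ := hsW.exists_coord le_rfl (InvX.pullElt (pr f B) (e x))
    rw [AModX.res_self] at hd
    refine IsUnit.of_mul_eq_one d (hsW.coord_unique le_rfl ?_)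
    rw [one_smul, AModX.res_self, mul_smul, ← hd, ← hg]
  have hsmall : ∀ x y, ∃ t : Γ(X, W x ⊓ W y), AModX.res L inf_le_right (e y) = t • AModX.res L inf_le_left (e x) ∧
      resR ((pr f B).preimage_mono inf_le_left) (g x) =
        (pr f B).app (W x ⊓ W y) t * resR ((pr f B).preimage_mono inf_le_right) (g y) := fun x y => by
    obtain ⟨t, ht⟩ := ((he x).res (inf_le_left : W x ⊓ W y ≤ W x)).exists_coord le_rfl
      (AModX.res L inf_le_right (e y))
    rw [AModX.res_self] at ht
    refine ⟨t, ht, ((hP x).res ((pr f B).preimage_mono (inf_le_left : W x ⊓ W y ≤ W x))).coord_unique le_rfl ?_⟩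
    rw [AModX.res_self]
    have h1 := congrArg (AModX.res _ ((pr f B).preimage_mono (inf_le_left : W x ⊓ W y ≤ W x))) (hg x)
    have h2 := congrArg (AModX.res _ ((pr f B).preimage_mono (inf_le_right : W x ⊓ W y ≤ W y))) (hg y)
    rw [AModX.res_smul, AModX.res_res] at h1 h2
    rw [← h1, h2, InvX.res_pullElt _ inf_le_right, ht, InvX.pullElt_smul, InvX.res_pullElt _ inf_le_left,
      ← mul_smul, mul_comm]
  choose t ht htg using hsmall
  obtain ⟨a, n, m, hap, ha, hh⟩ := exists_twist f W g (fun x => ⟨x, hW x⟩) hgu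
    (fun x y => ⟨t x y, htg x y⟩) hH p
  choose h hh using hh
  haveI : Flat (sp A B) := Flat.SpecMap_iff.2 (RingHom.flat_algebraMap_iff.2 inferInstance)
  haveI : Surjective (sp A B) :=
    ⟨fun y => PrimeSpectrum.comap_surjective_of_faithfullyFlat (B := B) y⟩
  haveI : Flat (pr f B) := inferInstanceAs (Flat (pullback.fst f (sp A B)))
  haveI : Surjective (pr f B) := inferInstanceAs (Surjective (pullback.fst f (sp A B)))
  haveI : QuasiCompact (pr f B) := inferInstanceAs (QuasiCompact (pullback.fst f (sp A B)))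
  obtain ⟨y, hy, -⟩ := AModX.existsUnique_glue (M := L) (V := ⊤) W (fun _ => le_top)
    (fun x _ => ⟨x, hW x⟩) (fun x => h x • e x) (fun i j => by
      rw [AModX.res_smul, AModX.res_smul, ht i j, ← mul_smul]
      refine congrArg (· • AModX.res L inf_le_left (e i)) ?_
      apply FunDescent.app_injective (pr f B)
      have h1 : ∀ (k : X) (hle : W i ⊓ W j ≤ W k), (pr f B).app (W i ⊓ W j) (resR hle (h k)) =
          ρ f B _ n * resR ((pr f B).preimage_mono hle) (g k) := fun k hle => by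
        show (X.presheaf.map (homOfLE hle).op ≫ (pr f B).app _) (h k) = _
        rw [(pr f B).naturality]
        show resR ((pr f B).preimage_mono hle) ((pr f B).app (W k) (h k)) = _
        rw [hh, map_mul, resR_ρ]
      rw [map_mul, h1 i inf_le_left, h1 j inf_le_right, htg i j]
      ring)
  refine ⟨a, hap, ?_⟩
  have hV : f ⁻¹ᵁ (PrimeSpectrum.basicOpen a : (Spec (CommRingCat.of A)).Opens) =
      X.basicOpen (Coh.toGlobal f a) := by
    refine (congrArg (f ⁻¹ᵁ ·) (basicOpen_eq_of_affine (R := CommRingCat.of A) a).symm).trans ?_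
    exact Scheme.preimage_basicOpen_top f _
  refine ProductPic.trivOver_of_frame (s := AModX.res L le_top y) ?_
  refine AmpleX.isFrame_res_of_le y (hV.le.trans fun x hx => ?_)
  suffices x ∈ X.basicOpen (h x) by
    rw [← AmpleX.locus_inf y (le_top : W x ≤ ⊤) (he x) (hy x)] at this
    exact this.1
  obtain ⟨x', rfl⟩ := (pr f B).surjective x
  show x' ∈ pr f B ⁻¹ᵁ X.basicOpen (h (pr f B x'))
  rw [Scheme.preimage_basicOpen, hh, Scheme.basicOpen_mul]
  refine ⟨?_, ?_⟩
  · have h2 : x' ∈ (XA f B).basicOpen (ρ f B (pr f B ⁻¹ᵁ W (pr f B x')) n * ρ f B (pr f B ⁻¹ᵁ W (pr f B x')) m) := by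
      rw [← map_mul, ← ha, ← pr_appLE_ρ f a (W (pr f B x')) _ le_rfl, ← Scheme.Hom.app_eq_appLE,
        ← Scheme.preimage_basicOpen]
      show pr f B x' ∈ X.basicOpen (resR (le_top : W (pr f B x') ≤ ⊤) (Coh.toGlobal f a))
      rw [show resR (le_top : W (pr f B x') ≤ ⊤) (Coh.toGlobal f a) =
        X.presheaf.map (homOfLE le_top).op (Coh.toGlobal f a) from rfl, Scheme.basicOpen_res]
      exact ⟨hW (pr f B x'), hx⟩
    rw [Scheme.basicOpen_mul] at h2
    exact h2.1
  · rw [Scheme.basicOpen_of_isUnit _ (hgu _)]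
    exact hW (pr f B x')

variable {X S : Scheme.{u}} (f : X ⟶ S)
  (ha : ∀ (T : Over S) (U : T.left.Opens), IsIso ((PicF.XTproj f T).app U))

include ha in
/-- A module trivial after a flat map of finite presentation to the base is trivial near its image. -/
theorem exists_triv_at {L : X.Modules} (hL : PicF.IsInvertible L) {U : Scheme.{u}} (u : U ⟶ S) [Flat u]
    [LocallyOfFinitePresentation u] (htriv : TrivOver f L u) (x : U) :
    ∃ O : S.Opens, u x ∈ O ∧ TrivOver f L O.ι := by
  obtain ⟨V₀, hV₀, hxV₀, -⟩ := exists_isAffineOpen_mem_and_subset (U := (⊤ : S.Opens)) (x := u x) trivial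
  obtain ⟨U₀, hU₀, hxU₀, hU₀V₀⟩ := exists_isAffineOpen_mem_and_subset (U := u ⁻¹ᵁ V₀) (x := x) hxV₀
  obtain ⟨r, hr, hxr⟩ := hV₀.exists_basicOpen_le
    (V := ⟨u '' (U₀ : Set U), u.isOpenMap _ U₀.2⟩) ⟨u x, ⟨x, hxU₀, rfl⟩⟩ hxV₀
  have hV : IsAffineOpen (S.basicOpen r) := hV₀.basicOpen r
  have hU : IsAffineOpen (U.basicOpen (u.appLE V₀ U₀ hU₀V₀ r)) := hU₀.basicOpen _
  have hUeq : U.basicOpen (u.appLE V₀ U₀ hU₀V₀ r) = U₀ ⊓ u ⁻¹ᵁ S.basicOpen r := by
    rw [Scheme.preimage_basicOpen]
    exact Scheme.basicOpen_res U (u.app V₀ r) (homOfLE hU₀V₀).op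
  have hle : U.basicOpen (u.appLE V₀ U₀ hU₀V₀ r) ≤ u ⁻¹ᵁ S.basicOpen r := hUeq.le.trans inf_le_right
  let A : Type u := Γ(S, S.basicOpen r)
  let B : Type u := Γ(U, U.basicOpen (u.appLE V₀ U₀ hU₀V₀ r))
  letI : Algebra A B := (u.appLE _ _ hle).hom.toAlgebra
  haveI : Module.Flat A B := Flat.flat_appLE u hV hU hle
  have hcomp : sp A B ≫ hV.fromSpec = hU.fromSpec ≫ u := IsAffineOpen.SpecMap_appLE_fromSpec u hV hU hle
  haveI : Module.FaithfullyFlat A B := by
    refine RingHom.faithfullyFlat_algebraMap_iff.1 (RingHom.FaithfullyFlat.iff_flat_and_comap_surjective.2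
      ⟨RingHom.flat_algebraMap_iff.2 inferInstance, fun q => ?_⟩)
    have hq : hV.fromSpec q ∈ S.basicOpen r := by
      have : hV.fromSpec q ∈ Set.range hV.fromSpec := ⟨q, rfl⟩
      rwa [IsAffineOpen.range_fromSpec] at this
    obtain ⟨w, hw, hwq⟩ := hr hq
    have hwU : w ∈ Set.range hU.fromSpec := by
      rw [IsAffineOpen.range_fromSpec, hUeq]
      exact ⟨hw, show u w ∈ S.basicOpen r from hwq ▸ hq⟩
    obtain ⟨q', rfl⟩ := hwU
    refine ⟨q', hV.fromSpec.isOpenEmbedding.injective ?_⟩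
    rw [← hwq]
    exact congr($(hcomp) q')
  let pA : (f ⁻¹ᵁ S.basicOpen r).toScheme ⟶ Spec (CommRingCat.of A) := (f ∣_ S.basicOpen r) ≫ hV.isoSpec.hom
  have hsq : IsPullback (f ⁻¹ᵁ S.basicOpen r).ι pA f hV.fromSpec :=
    (isPullback_morphismRestrict f (S.basicOpen r)).flip.of_iso (Iso.refl _) (Iso.refl _) hV.isoSpec (Iso.refl _)
      (by simp) (by simp [pA]) (by simp) (by simp [IsAffineOpen.isoSpec_hom_fromSpec])
  have hH : ∀ (C : Type u) [CommRing C] [Algebra A C],
      Function.Bijective (Coh.toGlobal (pullback.snd pA (sp A C))) := fun C _ _ => by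
    have h1 : Function.Bijective (pullback.snd f (sp A C ≫ hV.fromSpec)).appTop :=
      haveI := ha (Over.mk (sp A C ≫ hV.fromSpec)) ⊤
      ConcreteCategory.bijective_of_isIso ((PicF.XTproj f (Over.mk (sp A C ≫ hV.fromSpec))).app ⊤)
    exact ((SeesawGen.bijective_snd_iff hsq (sp A C)).2 h1).comp
      (ConcreteCategory.bijective_of_isIso (Scheme.ΓSpecIso (CommRingCat.of C)).inv)
  let ψ := Iso.refl ((Scheme.Modules.pullback (f ⁻¹ᵁ S.basicOpen r).ι).obj L)
  have hB : TrivOver pA ((Scheme.Modules.pullback (f ⁻¹ᵁ S.basicOpen r).ι).obj L) (sp A B) := by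
    rw [SeesawGen.trivOver_iff hsq (sp A B) ψ, hcomp]
    exact htriv.precomp _
  obtain ⟨a, hap, haT⟩ := exists_triv_affine pA hH (PicClLib.isInvertible_pullback _ hL) hB
    (hV.primeIdealOf ⟨u x, hxr⟩)
  rw [SeesawGen.trivOver_iff hsq _ ψ] at haT
  let D : (Spec (CommRingCat.of A)).Opens := PrimeSpectrum.basicOpen a
  refine ⟨hV.fromSpec ''ᵁ D, ⟨_, hap, hV.fromSpec_primeIdealOf ⟨u x, hxr⟩⟩, ?_⟩
  exact (haT.precomp (hV.fromSpec.isoImage D).inv).of_eq (Scheme.Hom.isoImage_inv_ι _ _)

include ha in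
/-- A module trivial over a flat covering of finite presentation of the base is trivial locally on it. -/
theorem locTriv_of_family {L : X.Modules} (hL : PicF.IsInvertible L)
    (h : ∀ s : S, ∃ (U : Scheme.{u}) (u : U ⟶ S), Flat u ∧ LocallyOfFinitePresentation u ∧
      s ∈ Set.range u ∧ TrivOver f L u) : LocTriv f L (𝟙 S) := fun s => by
  obtain ⟨U, u, hfl, hfp, ⟨x, rfl⟩, hu⟩ := h s
  haveI := hfl; haveI := hfp
  obtain ⟨O, hO, hO'⟩ := exists_triv_at f ha hL u hu x
  exact ⟨O, hO, hO'.of_eq (Category.comp_id _).symm⟩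

include ha in
/-- A module trivial over a flat covering of finite presentation of the base comes from the base. -/
theorem exists_base {L : X.Modules} (hL : PicF.IsInvertible L)
    (h : ∀ s : S, ∃ (U : Scheme.{u}) (u : U ⟶ S), Flat u ∧ LocallyOfFinitePresentation u ∧
      s ∈ Set.range u ∧ TrivOver f L u) :
    ∃ N : S.Modules, PicF.IsInvertible N ∧ PicF.cl L = PicF.cl ((Scheme.Modules.pullback f).obj N) := by
  let T : Over S := Over.mk (𝟙 S)
  obtain ⟨N, hN, ⟨e⟩⟩ := (locTriv_of_family f ha hL h).exists_iso (fun V => by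
    haveI := ha T V
    exact ConcreteCategory.bijective_of_isIso ((PicF.XTproj f T).app V))
  refine ⟨N, hN, ?_⟩
  have h1 : PicF.pullCl (pullback.fst f (𝟙 S)) (PicF.cl L) = PicF.pullCl (pullback.snd f (𝟙 S)) (PicF.cl N) :=
    Quot.sound ⟨e⟩
  have h2 := congrArg (PicF.pullCl (pullback.lift (𝟙 X) f (by simp) : X ⟶ pullback f (𝟙 S))) h1
  rwa [PicClLib.pullCl_comp, PicClLib.pullCl_comp, pullback.lift_fst, pullback.lift_snd, PicClLib.pullCl_id]
    at h2

end Groth.Agent.PicFRel.FppfTriv
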