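import Groth.Agent.ThetaG.Scal
import Groth.Agent.InvX.Tensor
import Groth.Agent.PicClLib.Basic
import Groth.Agent.H23.TrivBasic
import Groth.Prelude.Def_AbDual

/-!
Pairs marked along a section: morphisms compatible with the marking are determined by their base.
-/

set_option autoImplicit false
set_option linter.style.haveILetI false
set_option backward.isDefEq.respectTransparency false
set_option backward.isDefEq.respectTransparency.types false

universe u

open CategoryTheory CategoryTheory.Limits AlgebraicGeometry TopologicalSpace Opposite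
open Pseudofunctor Bicategory

noncomputable section

namespace Groth.Agent.PicFRel.RigMark

open Groth.Agent.AModX Groth.Agent.InvX Groth.Agent.ThetaG ThetaGrp

/-- A scheme with its structure sheaf, as a pair. -/
abbrev triv (V : Scheme.{u}) : Pseudofunctor.CoGrothendieck modPF.{u} := ⟨V, Coh.structureModule V⟩

/-- The function one. -/
abbrev oneSec (V : Scheme.{u}) : Γ(Coh.structureModule V, ⊤) := (1 : Γ(V, ⊤))

variable {V V' V'' : Scheme.{u}}

theorem isIso_ofSect {M : V.Modules} {e : Γ(M, ⊤)} (he : IsFrame e) : IsIso (ofSect e) := by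
  refine Scheme.Modules.Hom.isIso_iff_isIso_app.2 fun W => (ConcreteCategory.isIso_iff_bijective _).2 ?_
  have hfun : ((ofSect e).app W : _ → _) = fun r : Γ(V, W) => r • AModX.res M (le_top : W ≤ ⊤) e :=
    funext fun r => (app_eq_smul (ofSect e) r).trans (by rw [one_ofSect])
  rw [hfun]
  exact he W le_top

/-- The canonical morphism of the trivial pairs. -/
def can (g : V' ⟶ V) : triv V' ⟶ triv V :=
  ⟨g, ofSect (QCoh.pullSec g (Coh.structureModule V) (V := ⊤) le_top (oneSec V))⟩

@[simp] theorem can_base (g : V' ⟶ V) : (can g).base = g := rfl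

theorem rel_can (g : V' ⟶ V) :
    Rel (can g) (V := ⊤) (W := ⊤) le_top (oneSec V) (oneSec V') :=
  one_ofSect (QCoh.pullSec g (Coh.structureModule V) (V := ⊤) le_top (oneSec V))

instance isIso_can (g : V' ⟶ V) : IsIso (can g).fiber := by
  show IsIso (ofSect (QCoh.pullSec g (Coh.structureModule V) (V := ⊤) le_top (oneSec V)))
  refine isIso_ofSect ?_
  exact ThetaG.isFrame_pullSec g le_top (isFrame_one ⊤)

theorem can_ext {V : Scheme.{u}} {Q : Pseudofunctor.CoGrothendieck modPF.{u}} {φ ψ : Q ⟶ triv V}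
    [IsIso φ.fiber] (hb : φ.base = ψ.base) {d : Γ(mod Q, ⊤)}
    (hφ : Rel φ (V := ⊤) (W := ⊤) le_top (oneSec V) d) (hψ : Rel ψ (V := ⊤) (W := ⊤) le_top (oneSec V) d) :
    φ = ψ :=
  ThetaG.hom_ext hb fun _ => ⟨⊤, ⊤, le_top, oneSec V, d, trivial, isFrame_one ⊤, hφ, hψ⟩

theorem can_comp (g : V'' ⟶ V') (h : V' ⟶ V) : can g ≫ can h = can (g ≫ h) := by
  haveI := ThetaG.fib_comp_isIso (can g) (can h)
  exact can_ext rfl (rel_comp (rel_can h) (rel_can g)) (rel_can (g ≫ h))

theorem can_id (V : Scheme.{u}) : can (𝟙 V) = 𝟙 (triv V) := by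
  refine can_ext rfl (rel_can (𝟙 V)) ?_
  have h := rel_id (P := triv V) (V := ⊤) (W := ⊤) le_rfl (oneSec V)
  rw [AModX.res_self] at h
  exact h

section Rig

variable {X S : Scheme.{u}} (f : X ⟶ S) (σ : S ⟶ X) (hσ : σ ≫ f = 𝟙 S)

theorem secT_proj (T : Over S) : PicF.secT f σ hσ T ≫ PicF.XTproj f T = 𝟙 T.left :=
  pullback.lift_snd _ _ _

theorem secT_map {T T' : Over S} (g : T' ⟶ T) :
    PicF.secT f σ hσ T' ≫ PicF.XTmap f g = g.left ≫ PicF.secT f σ hσ T := by
  apply pullback.hom_ext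
  · simp [PicF.secT, PicF.XTmap, pullback.map]
  · simp only [PicF.secT, PicF.XTmap, pullback.map, Category.assoc, pullback.lift_snd, pullback.lift_snd_assoc]
    rw [Category.id_comp, Category.comp_id]

variable (hA : ∀ T : Over S, Function.Bijective (PicF.XTproj f T).appTop)

include hσ hA in
/-- Morphisms over the same base agreeing on a marking along the section are equal. -/
theorem hom_ext_rig {T : Over S} {M : (PicF.XT f T).Modules} (hM : PicF.IsInvertible M)
    {Q : Pseudofunctor.CoGrothendieck modPF.{u}}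
    (s : triv T.left ⟶ (⟨PicF.XT f T, M⟩ : Pseudofunctor.CoGrothendieck modPF.{u})) [IsIso s.fiber]
    (hs : s.base = PicF.secT f σ hσ T)
    (φ ψ : (⟨PicF.XT f T, M⟩ : Pseudofunctor.CoGrothendieck modPF.{u}) ⟶ Q) [IsIso φ.fiber] [IsIso ψ.fiber]
    (hb : φ.base = ψ.base) (h : s ≫ φ = s ≫ ψ) : φ = ψ := by
  obtain ⟨χ, ⟨hχb, hχ⟩, -⟩ := existsUnique_lift ψ φ (𝟙 _) (by rw [Category.id_comp, hb])
  haveI : IsIso (χ ≫ ψ).fiber := by rw [hχ]; infer_instance
  haveI := lift_fiber_isIso ψ χ
  obtain ⟨c, rfl⟩ := exists_sc hM χ hχb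
  suffices c = 1 by rw [← hχ, this, sc_one hM, Category.id_comp]
  have h1 : s ≫ sc _ c ≫ ψ = s ≫ ψ := by rw [hχ, h]
  rw [← Category.assoc, comp_sc hM s c, Category.assoc] at h1
  have h2 : sc (triv T.left) (Units.map s.base.appTop.hom.toMonoidHom c) = 𝟙 _ := by
    haveI := fib_comp_isIso s ψ
    obtain ⟨w, -, hw⟩ := existsUnique_lift (s ≫ ψ) (s ≫ ψ) (𝟙 _) (Category.id_comp _).symm
    exact (hw _ ⟨rfl, h1⟩).trans (hw _ ⟨rfl, Category.id_comp _⟩).symm
  rw [← sc_one (InvX.isInvertible_structureModule (X := T.left))] at h2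
  have h3 : s.base.appTop (c : Γ(PicF.XT f T, ⊤)) = 1 :=
    congrArg Units.val (sc_injective (InvX.isInvertible_structureModule (X := T.left)) h2)
  obtain ⟨μ, hμ⟩ := (hA T).2 (c : Γ(PicF.XT f T, ⊤))
  rw [hs, ← hμ, ← ConcreteCategory.comp_apply, ← Scheme.Hom.comp_appTop, secT_proj, Scheme.Hom.id_appTop] at h3
  refine Units.ext ?_
  rw [← hμ, show μ = 1 from h3, map_one, Units.val_one]

end Rig

end Groth.Agent.PicFRel.RigMark
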