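import Groth.Agent.PicFRel.EffFppf
import Groth.Agent.PicFRel.RigMark
import Groth.Agent.PicFRel.FppfTriv
import Groth.Agent.H23.PicMul

/-!
Rigidified invertible modules form a sheaf for flat coverings locally of finite presentation.
-/

set_option autoImplicit false
set_option linter.style.haveILetI false
set_option backward.isDefEq.respectTransparency false
set_option backward.isDefEq.respectTransparency.types false
set_option maxHeartbeats 1000000

universe u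

open CategoryTheory CategoryTheory.Limits AlgebraicGeometry TopologicalSpace Opposite
open Pseudofunctor Bicategory
open scoped Groth.Agent.H23.PicMul

noncomputable section

namespace Groth.Agent.PicFRel.RigDescent

open Groth.Agent.ThetaG hiding exists_eff_desc
open Groth.Agent.PicFRel.RigMark ThetaGrp

variable {X S : Scheme.{u}} (f : X ⟶ S)

theorem isPullback_XTmap {T T' : Over S} (g : T' ⟶ T) :
    IsPullback (PicF.XTmap f g) (PicF.XTproj f T') (PicF.XTproj f T) g.left := by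
  refine IsPullback.of_right ?_ (pullback.lift_snd _ _ _) (IsPullback.of_hasPullback f T.hom)
  rw [show PicF.XTmap f g ≫ pullback.fst f T.hom = pullback.fst f T'.hom by simp [PicF.XTmap], Over.w g]
  exact IsPullback.of_hasPullback f T'.hom

theorem isPullback_XTmap₂ {A B₁ B₂ C : Over S} {g₁ : A ⟶ B₁} {g₂ : A ⟶ B₂} {h₁ : B₁ ⟶ C} {h₂ : B₂ ⟶ C}
    (h : IsPullback g₁.left g₂.left h₁.left h₂.left) :
    IsPullback (PicF.XTmap f g₁) (PicF.XTmap f g₂) (PicF.XTmap f h₁) (PicF.XTmap f h₂) := by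
  refine IsPullback.of_bot ?_ ?_ (isPullback_XTmap f h₂)
  · have hl := (isPullback_XTmap f g₁).paste_vert h
    rw [(isPullback_XTmap f h₁).w, (isPullback_XTmap f g₂).w]
    exact hl
  · rw [← PicClLib.XTmap_comp, ← PicClLib.XTmap_comp]
    congr 1
    exact Over.OverMorphism.ext h.w

theorem pullCl_of_hom {P Q : Pseudofunctor.CoGrothendieck modPF.{u}} (π : P ⟶ Q) [IsIso π.fiber] :
    PicF.pullCl π.base (PicF.cl (mod Q)) = PicF.cl (mod P) := by
  haveI : IsIso (fib π) := ‹IsIso π.fiber›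
  exact H23.PicMul.cl_eq_iff.2 ⟨(asIso (fib π)).symm⟩

variable (σ : S ⟶ X) (hσ : σ ≫ f = 𝟙 S)
  (ha : ∀ (T : Over S) (U : T.left.Opens), IsIso ((PicF.XTproj f T).app U))

theorem ha_base (ha : ∀ (T : Over S) (U : T.left.Opens), IsIso ((PicF.XTproj f T).app U)) (T : Over S)
    (T' : Over T.left) (U : T'.left.Opens) : IsIso ((PicF.XTproj (PicF.XTproj f T) T').app U) := by
  haveI := ha (Over.mk (T'.hom ≫ T.hom)) U
  have e : PicF.XTproj (PicF.XTproj f T) T' =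
      (pullbackLeftPullbackSndIso f T.hom T'.hom).hom ≫ PicF.XTproj f (Over.mk (T'.hom ≫ T.hom)) :=
    (pullbackLeftPullbackSndIso_hom_snd _ _ _).symm
  rw [e, Scheme.Hom.comp_app]
  exact IsIso.comp_isIso' this inferInstance

include ha in
/-- Two rigidified classes agreeing over a flat covering of finite presentation are equal. -/
theorem rig_ext {T : Over S} (c₁ c₂ : PicF.Rig f σ hσ T)
    (h : ∀ t : T.left, ∃ (U : Scheme.{u}) (u : U ⟶ T.left), Flat u ∧ LocallyOfFinitePresentation u ∧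
      t ∈ Set.range u ∧ PicF.pullCl (PicF.XTmap f (AbDual.ovrHom T u)) c₁.1 =
        PicF.pullCl (PicF.XTmap f (AbDual.ovrHom T u)) c₂.1) : c₁ = c₂ := by
  obtain ⟨c₁, hc₁, hr₁⟩ := c₁
  obtain ⟨c₂, hc₂, hr₂⟩ := c₂
  replace hr₁ : PicF.pullCl (PicF.secT f σ hσ T) c₁ = 1 := hr₁
  replace hr₂ : PicF.pullCl (PicF.secT f σ hσ T) c₂ = 1 := hr₂
  obtain ⟨⟨b, hb⟩, hbc⟩ := H23.PicMul.exists_inv ⟨c₂, hc₂⟩
  replace hbc : b * c₂ = 1 := hbc
  obtain ⟨L, hL₁, hL⟩ := H23.PicMul.isInvertibleCl_mul hc₁ hb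
  obtain ⟨N, hN, hLN⟩ := FppfTriv.exists_base (PicF.XTproj f T) (ha_base f ha T) hL fun t => by
    obtain ⟨U, u, hfl, hfp, ht, he⟩ := h t
    refine ⟨U, u, hfl, hfp, ht, ?_⟩
    let i := pullbackLeftPullbackSndIso f T.hom u
    have hi : i.hom ≫ PicF.XTmap f (AbDual.ovrHom T u) = pullback.fst (PicF.XTproj f T) u := by
      apply pullback.hom_ext
      · simp [i, PicF.XTmap]
      · simp [i, PicF.XTmap, pullback.condition]
    refine H23.PicMul.cl_eq_iff.1 ?_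
    show PicF.pullCl (pullback.fst (PicF.XTproj f T) u) (PicF.cl L) = 1
    rw [← hi, ← PicClLib.pullCl_comp, hL₁, H23.PicMul.pullCl_mul, show PicF.pullCl _ c₁ = _ from he,
      mul_comm, ← H23.PicMul.pullCl_mul, hbc, H23.PicMul.pullCl_one, H23.PicMul.pullCl_one]
  have hN1 : PicF.cl N = 1 := by
    have h1 := congrArg (PicF.pullCl (PicF.secT f σ hσ T)) hLN
    change _ = PicF.pullCl _ (PicF.pullCl (PicF.XTproj f T) (PicF.cl N)) at h1
    rw [PicClLib.pullCl_comp, secT_proj, PicClLib.pullCl_id, hL₁, H23.PicMul.pullCl_mul, hr₁, one_mul] at h1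
    have h2 : PicF.pullCl (PicF.secT f σ hσ T) b = 1 := by
      have := congrArg (PicF.pullCl (PicF.secT f σ hσ T)) hbc
      rwa [H23.PicMul.pullCl_mul, hr₂, mul_one, H23.PicMul.pullCl_one] at this
    rw [← h1, h2]
  have h3 : c₁ * b = 1 := by
    rw [← hL₁, hLN]
    show PicF.pullCl (PicF.XTproj f T) (PicF.cl N) = 1
    rw [hN1, H23.PicMul.pullCl_one]
  refine Subtype.ext ?_
  show c₁ = c₂
  rw [← mul_one c₁, ← hbc, ← mul_assoc, h3, one_mul]

include ha in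
/-- A rigidified class whose two pullbacks to the fibre square agree descends. -/
theorem exists_descend (T : Over S) {U : Scheme.{u}} (u : U ⟶ T.left) [Flat u] [LocallyOfFinitePresentation u]
    [Surjective u] (c' : PicF.Rig f σ hσ (AbDual.ovr T u))
    (hglue : PicF.pullCl (PicF.XTmap f (AbDual.ovrHom (AbDual.ovr T u) (pullback.fst u u))) c'.1 =
      PicF.pullCl (PicF.XTmap f (Over.homMk (pullback.snd u u) (pullback.condition_assoc T.hom).symm :
        AbDual.ovr (AbDual.ovr T u) (pullback.fst u u) ⟶ AbDual.ovr T u)) c'.1) :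
    ∃ c : PicF.Rig f σ hσ T, PicF.pullCl (PicF.XTmap f (AbDual.ovrHom T u)) c.1 = c'.1 := by
  have hA : ∀ T' : Over S, Function.Bijective (PicF.XTproj f T').appTop := fun T' =>
    haveI := ha T' ⊤
    ConcreteCategory.bijective_of_isIso ((PicF.XTproj f T').app ⊤)
  let T₁ : Over S := AbDual.ovr T u
  let π₀ : T₁ ⟶ T := AbDual.ovrHom T u
  let T₂ : Over S := AbDual.ovr T₁ (pullback.fst u u)
  let q₁ : T₂ ⟶ T₁ := AbDual.ovrHom T₁ (pullback.fst u u)
  let q₂ : T₂ ⟶ T₁ := Over.homMk (pullback.snd u u) (pullback.condition_assoc T.hom).symm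
  obtain ⟨c', ⟨L, rfl, hL⟩, hrig⟩ := c'
  let P : Pseudofunctor.CoGrothendieck modPF.{u} := ⟨PicF.XT f T₁, L⟩
  -- the marking
  obtain ⟨τ⟩ := H23.PicMul.cl_eq_iff.1 (show PicF.pullCl (PicF.secT f σ hσ T₁) (PicF.cl L) =
    PicF.cl (Coh.structureModule T₁.left) from hrig)
  let s : triv T₁.left ⟶ P := ⟨PicF.secT f σ hσ T₁, τ.inv⟩
  haveI : IsIso s.fiber := inferInstanceAs (IsIso τ.inv)
  -- the fibre square with its two projections
  let O : Pseudofunctor.CoGrothendieck modPF.{u} :=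
    ⟨PicF.XT f T₂, (Scheme.Modules.pullback (PicF.XTmap f q₁)).obj L⟩
  have hO : PicF.IsInvertible (mod O) := PicClLib.isInvertible_pullback _ hL
  let a : O ⟶ P := ⟨PicF.XTmap f q₁, 𝟙 _⟩
  haveI : IsIso a.fiber := inferInstanceAs (IsIso (𝟙 ((Scheme.Modules.pullback (PicF.XTmap f q₁)).obj L)))
  obtain ⟨θ⟩ := H23.PicMul.cl_eq_iff.1 (show PicF.cl ((Scheme.Modules.pullback (PicF.XTmap f q₁)).obj L) =
    PicF.cl ((Scheme.Modules.pullback (PicF.XTmap f q₂)).obj L) from hglue)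
  let b₀ : O ⟶ P := ⟨PicF.XTmap f q₂, θ.hom⟩
  haveI : IsIso b₀.fiber := inferInstanceAs (IsIso θ.hom)
  haveI := fib_comp_isIso (can q₁.left) s
  obtain ⟨sO, ⟨hsOb, hsO⟩, -⟩ := existsUnique_lift a (can q₁.left ≫ s) (PicF.secT f σ hσ T₂)
    (secT_map f σ hσ q₁).symm
  haveI : IsIso (sO ≫ a).fiber := by rw [hsO]; infer_instance
  haveI := lift_fiber_isIso a sO
  haveI := fib_comp_isIso sO b₀
  haveI := fib_comp_isIso (can q₂.left) s
  obtain ⟨χ, ⟨hχb, hχ⟩, -⟩ := existsUnique_lift (sO ≫ b₀) (can q₂.left ≫ s) (𝟙 _) (by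
    show q₂.left ≫ PicF.secT f σ hσ T₁ = 𝟙 _ ≫ sO.base ≫ PicF.XTmap f q₂
    rw [Category.id_comp, hsOb, secT_map])
  haveI : IsIso (χ ≫ sO ≫ b₀).fiber := by rw [hχ]; infer_instance
  haveI := lift_fiber_isIso (sO ≫ b₀) χ
  obtain ⟨ν, rfl⟩ := exists_sc InvX.isInvertible_structureModule χ hχb
  let w : Γ(O.base, ⊤)ˣ := Units.map (PicF.XTproj f T₂).appTop.hom.toMonoidHom ν
  obtain ⟨b, hbb, hbiso, hsb⟩ : ∃ b : O ⟶ P, b.base = PicF.XTmap f q₂ ∧ IsIso b.fiber ∧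
      sO ≫ b = can q₂.left ≫ s := by
    haveI := ThetaG.isIso_sc_fiber (P := O) w
    refine ⟨sc O w ≫ b₀, Category.id_comp _, fib_comp_isIso (sc O w) b₀, ?_⟩
    rw [← Category.assoc, comp_sc hO sO w, Category.assoc, ← hχ]
    congr 2
    refine Units.ext ?_
    show sO.base.appTop ((PicF.XTproj f T₂).appTop (ν : Γ(T₂.left, ⊤))) = _
    rw [hsOb, ← ConcreteCategory.comp_apply, ← Scheme.Hom.comp_appTop, secT_proj, Scheme.Hom.id_appTop]
    rfl
  haveI := hbiso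
  have H : IsPullback a.base b.base (PicF.XTmap f π₀) (PicF.XTmap f π₀) := by
    rw [hbb]
    exact isPullback_XTmap₂ f (g₁ := q₁) (g₂ := q₂) (h₁ := π₀) (h₂ := π₀) (IsPullback.of_hasPullback u u)
  -- the diagonal
  let d : T₁ ⟶ T₂ := Over.homMk (pullback.lift (𝟙 U) (𝟙 U) rfl) (by
    show pullback.lift (𝟙 U) (𝟙 U) rfl ≫ pullback.fst u u ≫ u ≫ T.hom = u ≫ T.hom
    rw [pullback.lift_fst_assoc, Category.id_comp])
  have hd₁ : d ≫ q₁ = 𝟙 T₁ := Over.OverMorphism.ext (pullback.lift_fst _ _ _)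
  have hd₂ : d ≫ q₂ = 𝟙 T₁ := Over.OverMorphism.ext (pullback.lift_snd _ _ _)
  have hXid : PicF.XTmap f (𝟙 T₁) = 𝟙 _ := by apply pullback.hom_ext <;> simp [PicF.XTmap]
  obtain ⟨δ, ⟨hδb, hδ⟩, -⟩ := existsUnique_lift a (𝟙 P) (PicF.XTmap f d) (by
    show 𝟙 _ = PicF.XTmap f d ≫ PicF.XTmap f q₁
    rw [← PicClLib.XTmap_comp, hd₁, hXid])
  haveI : IsIso (δ ≫ a).fiber := hδ.symm ▸ ThetaG.isIso_id_fiber P
  haveI := lift_fiber_isIso a δ
  haveI := fib_comp_isIso δ b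
  have hcd : ∀ (g : T₂ ⟶ T₁), d ≫ g = 𝟙 T₁ → can d.left ≫ can g.left = 𝟙 _ := fun g hg => by
    rw [can_comp, ← Over.comp_left, hg, Over.id_left, can_id]
  have hsδ : s ≫ δ = can d.left ≫ sO := by
    obtain ⟨w, -, hw⟩ := existsUnique_lift a (s ≫ δ ≫ a) ((s ≫ δ).base) rfl
    refine (hw (s ≫ δ) ⟨rfl, Category.assoc _ _ _⟩).trans (hw (can d.left ≫ sO) ⟨?_, ?_⟩).symm
    · show d.left ≫ sO.base = PicF.secT f σ hσ T₁ ≫ δ.base
      rw [hδb, hsOb, secT_map]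
    · rw [Category.assoc, hsO, ← Category.assoc, hcd q₁ hd₁, Category.id_comp, hδ, Category.comp_id]
  have hδb' : δ ≫ b = 𝟙 P := by
    haveI := ThetaG.isIso_id_fiber P
    refine hom_ext_rig f σ hσ hA hL s rfl (δ ≫ b) (𝟙 P) ?_ ?_
    · show δ.base ≫ b.base = 𝟙 _
      rw [hδb, hbb, ← PicClLib.XTmap_comp, hd₂, hXid]
    · rw [← Category.assoc, hsδ, Category.assoc, hsb, ← Category.assoc, hcd q₂ hd₂, Category.id_comp,
        Category.comp_id]
  have hdiag : ∀ (R : Pseudofunctor.CoGrothendieck modPF.{u}) (c : R ⟶ O), IsIso c.fiber →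
      (c ≫ a).base = (c ≫ b).base → c ≫ a = c ≫ b := by
    intro R c _ hc
    change c.base ≫ a.base = c.base ≫ b.base at hc
    obtain ⟨w, -, hw⟩ := existsUnique_lift a (c ≫ a) c.base rfl
    have e : c = (c ≫ a) ≫ δ := by
      refine (hw c ⟨rfl, rfl⟩).trans (hw ((c ≫ a) ≫ δ) ⟨?_, ?_⟩).symm
      · refine H.hom_ext ?_ ?_
        · show ((c.base ≫ a.base) ≫ δ.base) ≫ a.base = _
          rw [Category.assoc, show δ.base ≫ a.base = 𝟙 _ from congrArg Pseudofunctor.CoGrothendieck.Hom.base hδ,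
            Category.comp_id]
        · show ((c.base ≫ a.base) ≫ δ.base) ≫ b.base = _
          rw [Category.assoc, show δ.base ≫ b.base = 𝟙 _ from congrArg Pseudofunctor.CoGrothendieck.Hom.base hδb',
            Category.comp_id, hc]
      · rw [Category.assoc, hδ, Category.comp_id]
    conv_rhs => rw [e, Category.assoc, hδb', Category.comp_id]
  -- the triple product
  let T₃ : Over S := AbDual.ovr T₂ (pullback.fst q₂.left q₁.left)
  let k₁₂ : T₃ ⟶ T₂ := AbDual.ovrHom T₂ (pullback.fst q₂.left q₁.left)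
  let k₂₃ : T₃ ⟶ T₂ := Over.homMk (pullback.snd q₂.left q₁.left) (by
    show pullback.snd q₂.left q₁.left ≫ T₂.hom = pullback.fst q₂.left q₁.left ≫ T₂.hom
    calc pullback.snd q₂.left q₁.left ≫ T₂.hom = pullback.snd q₂.left q₁.left ≫ q₁.left ≫ T₁.hom := by rw [Over.w q₁]
      _ = pullback.fst q₂.left q₁.left ≫ q₂.left ≫ T₁.hom := by rw [pullback.condition_assoc]
      _ = pullback.fst q₂.left q₁.left ≫ T₂.hom := by rw [Over.w q₂])
  have hk : k₁₂ ≫ q₂ = k₂₃ ≫ q₁ := Over.OverMorphism.ext pullback.condition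
  have h12u : q₁.left ≫ u = q₂.left ≫ u := pullback.condition
  have hk' : (k₁₂.left ≫ q₁.left) ≫ u = (k₂₃.left ≫ q₂.left) ≫ u := by
    rw [Category.assoc, h12u, ← Category.assoc, Category.assoc k₂₃.left, ← h12u, ← Category.assoc k₂₃.left,
      show k₁₂.left ≫ q₂.left = k₂₃.left ≫ q₁.left from congrArg CommaMorphism.left hk]
  let k₁₃ : T₃ ⟶ T₂ := Over.homMk (pullback.lift (k₁₂.left ≫ q₁.left) (k₂₃.left ≫ q₂.left) hk') (by
    show pullback.lift _ _ hk' ≫ pullback.fst u u ≫ u ≫ T.hom = _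
    rw [pullback.lift_fst_assoc, Category.assoc]
    exact (congrArg (k₁₂.left ≫ ·) (Over.w q₁)).trans (Over.w k₁₂))
  have hk1 : k₁₃ ≫ q₁ = k₁₂ ≫ q₁ := Over.OverMorphism.ext (pullback.lift_fst _ _ _)
  have hk2 : k₁₃ ≫ q₂ = k₂₃ ≫ q₂ := Over.OverMorphism.ext (pullback.lift_snd _ _ _)
  let R₃ : Pseudofunctor.CoGrothendieck modPF.{u} :=
    ⟨PicF.XT f T₃, (Scheme.Modules.pullback (PicF.XTmap f k₁₂)).obj (mod O)⟩
  have hR₃ : PicF.IsInvertible (mod R₃) := PicClLib.isInvertible_pullback _ hO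
  let e₁₂ : R₃ ⟶ O := ⟨PicF.XTmap f k₁₂, 𝟙 _⟩
  haveI : IsIso e₁₂.fiber := inferInstanceAs (IsIso (𝟙 ((Scheme.Modules.pullback (PicF.XTmap f k₁₂)).obj (mod O))))
  haveI := fib_comp_isIso e₁₂ a
  haveI := fib_comp_isIso e₁₂ b
  obtain ⟨e₂₃, ⟨he₂₃b, he₂₃⟩, -⟩ := existsUnique_lift a (e₁₂ ≫ b) (PicF.XTmap f k₂₃) (by
    show PicF.XTmap f k₁₂ ≫ b.base = PicF.XTmap f k₂₃ ≫ PicF.XTmap f q₁
    rw [hbb, ← PicClLib.XTmap_comp, ← PicClLib.XTmap_comp, hk])
  obtain ⟨e₁₃, ⟨he₁₃b, he₁₃⟩, -⟩ := existsUnique_lift a (e₁₂ ≫ a) (PicF.XTmap f k₁₃) (by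
    show PicF.XTmap f k₁₂ ≫ PicF.XTmap f q₁ = PicF.XTmap f k₁₃ ≫ PicF.XTmap f q₁
    rw [← PicClLib.XTmap_comp, ← PicClLib.XTmap_comp, hk1])
  haveI : IsIso (e₂₃ ≫ a).fiber := by rw [he₂₃]; infer_instance
  haveI := lift_fiber_isIso a e₂₃
  haveI : IsIso (e₁₃ ≫ a).fiber := by rw [he₁₃]; infer_instance
  haveI := lift_fiber_isIso a e₁₃
  haveI := fib_comp_isIso e₂₃ b
  haveI := fib_comp_isIso e₁₃ b
  haveI := fib_comp_isIso (can k₁₂.left) sO
  obtain ⟨s₃, ⟨hs₃b, hs₃⟩, -⟩ := existsUnique_lift e₁₂ (can k₁₂.left ≫ sO) (PicF.secT f σ hσ T₃) (by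
    show k₁₂.left ≫ sO.base = PicF.secT f σ hσ T₃ ≫ PicF.XTmap f k₁₂
    rw [hsOb, secT_map])
  haveI : IsIso (s₃ ≫ e₁₂).fiber := by rw [hs₃]; infer_instance
  haveI := lift_fiber_isIso e₁₂ s₃
  have hs23 : s₃ ≫ e₂₃ = can k₂₃.left ≫ sO := by
    obtain ⟨w, -, hw⟩ := existsUnique_lift a (s₃ ≫ e₂₃ ≫ a) ((s₃ ≫ e₂₃).base) rfl
    refine (hw (s₃ ≫ e₂₃) ⟨rfl, Category.assoc _ _ _⟩).trans (hw (can k₂₃.left ≫ sO) ⟨?_, ?_⟩).symm
    · show k₂₃.left ≫ sO.base = s₃.base ≫ e₂₃.base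
      rw [he₂₃b, hsOb, hs₃b, secT_map]
    · rw [he₂₃, Category.assoc, hsO, ← Category.assoc s₃, hs₃, Category.assoc, hsb, ← Category.assoc, can_comp,
        ← Category.assoc, can_comp, ← Over.comp_left, ← Over.comp_left, hk]
  have hs13 : s₃ ≫ e₁₃ = can k₁₃.left ≫ sO := by
    obtain ⟨w, -, hw⟩ := existsUnique_lift a (s₃ ≫ e₁₃ ≫ a) ((s₃ ≫ e₁₃).base) rfl
    refine (hw (s₃ ≫ e₁₃) ⟨rfl, Category.assoc _ _ _⟩).trans (hw (can k₁₃.left ≫ sO) ⟨?_, ?_⟩).symm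
    · show k₁₃.left ≫ sO.base = s₃.base ≫ e₁₃.base
      rw [he₁₃b, hsOb, hs₃b, secT_map]
    · rw [he₁₃, Category.assoc, hsO, ← Category.assoc s₃, hs₃, Category.assoc, hsO, ← Category.assoc, can_comp,
        ← Category.assoc, can_comp, ← Over.comp_left, ← Over.comp_left, hk1]
  have hkey : e₂₃ ≫ b = e₁₃ ≫ b := by
    refine hom_ext_rig f σ hσ hA hR₃ s₃ hs₃b (e₂₃ ≫ b) (e₁₃ ≫ b) ?_ ?_
    · show e₂₃.base ≫ b.base = e₁₃.base ≫ b.base
      rw [he₂₃b, he₁₃b, hbb, ← PicClLib.XTmap_comp, ← PicClLib.XTmap_comp, hk2]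
    · rw [← Category.assoc, hs23, ← Category.assoc, hs13, Category.assoc, hsb, Category.assoc, hsb,
        ← Category.assoc, can_comp, ← Category.assoc, can_comp, ← Over.comp_left, ← Over.comp_left, hk2]
  have H₃ : IsPullback (PicF.XTmap f k₁₂) (PicF.XTmap f k₂₃) (PicF.XTmap f q₂) (PicF.XTmap f q₁) :=
    isPullback_XTmap₂ f (IsPullback.of_hasPullback q₂.left q₁.left)
  have htrans : ∀ (R : Pseudofunctor.CoGrothendieck modPF.{u}) (z₁ z₂ z₃ : R ⟶ O), IsIso z₁.fiber → IsIso z₂.fiber →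
      IsIso z₃.fiber → z₁ ≫ b = z₂ ≫ a → z₁ ≫ a = z₃ ≫ a → (z₂ ≫ b).base = (z₃ ≫ b).base → z₂ ≫ b = z₃ ≫ b := by
    intro R z₁ z₂ z₃ _ _ _ h12 h13 hbase
    have e12 : z₁.base ≫ PicF.XTmap f q₂ = z₂.base ≫ PicF.XTmap f q₁ := by
      rw [← hbb]
      exact congrArg Pseudofunctor.CoGrothendieck.Hom.base h12
    let m : R.base ⟶ R₃.base := H₃.lift z₁.base z₂.base e12
    obtain ⟨e, ⟨heb, he⟩, -⟩ := existsUnique_lift e₁₂ z₁ m (H₃.lift_fst _ _ _).symm
    have hz2 : z₂ = e ≫ e₂₃ := by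
      obtain ⟨w, -, hw⟩ := existsUnique_lift a (z₂ ≫ a) z₂.base rfl
      refine (hw z₂ ⟨rfl, rfl⟩).trans (hw (e ≫ e₂₃) ⟨?_, ?_⟩).symm
      · show e.base ≫ e₂₃.base = z₂.base
        rw [heb, he₂₃b]
        exact H₃.lift_snd _ _ _
      · rw [Category.assoc, he₂₃, ← Category.assoc, he, h12]
    have hz3 : z₃ = e ≫ e₁₃ := by
      obtain ⟨w, -, hw⟩ := existsUnique_lift a (z₃ ≫ a) z₃.base rfl
      refine (hw z₃ ⟨rfl, rfl⟩).trans (hw (e ≫ e₁₃) ⟨?_, ?_⟩).symm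
      · refine H.hom_ext ?_ ?_
        · show (e.base ≫ e₁₃.base) ≫ PicF.XTmap f q₁ = z₃.base ≫ PicF.XTmap f q₁
          rw [heb, he₁₃b, Category.assoc, ← PicClLib.XTmap_comp, hk1, PicClLib.XTmap_comp,
            H₃.lift_fst_assoc]
          exact congrArg Pseudofunctor.CoGrothendieck.Hom.base h13
        · rw [hbb]
          show (e.base ≫ e₁₃.base) ≫ PicF.XTmap f q₂ = z₃.base ≫ PicF.XTmap f q₂
          rw [heb, he₁₃b, Category.assoc, ← PicClLib.XTmap_comp, hk2, PicClLib.XTmap_comp,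
            H₃.lift_snd_assoc, ← hbb]
          exact hbase
      · rw [Category.assoc, he₁₃, ← Category.assoc, he, h13]
    rw [hz2, hz3, Category.assoc, hkey, Category.assoc]
  haveI : Flat (PicF.XTmap f π₀) :=
    MorphismProperty.of_isPullback (isPullback_XTmap f π₀).flip ‹Flat u›
  haveI : LocallyOfFinitePresentation (PicF.XTmap f π₀) :=
    MorphismProperty.of_isPullback (isPullback_XTmap f π₀).flip ‹LocallyOfFinitePresentation u›
  haveI : Surjective (PicF.XTmap f π₀) :=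
    MorphismProperty.of_isPullback (isPullback_XTmap f π₀).flip ‹Surjective u›
  obtain ⟨M, hM, π, hπb, hπ⟩ := EffFppf.exists_eff_desc (PicF.XTmap f π₀) a b H hdiag htrans hL
  have hML : PicF.pullCl (PicF.XTmap f π₀) (PicF.cl M) = PicF.cl L := by
    rw [← hπb]; exact pullCl_of_hom π
  -- correct by the pullback of the restriction along the section
  let n := PicF.pullCl (PicF.secT f σ hσ T) (PicF.cl M)
  have hn : PicF.IsInvertibleCl n := PicClLib.isInvertibleCl_pullCl _ ⟨M, rfl, hM⟩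
  obtain ⟨⟨n', hn'⟩, hnn⟩ := H23.PicMul.exists_inv ⟨n, hn⟩
  replace hnn : n' * n = 1 := hnn
  have hun : PicF.pullCl π₀.left n' = 1 := by
    have h1 : PicF.pullCl π₀.left n = 1 := by
      show PicF.pullCl π₀.left (PicF.pullCl _ (PicF.cl M)) = 1
      rw [PicClLib.pullCl_comp, ← secT_map, ← PicClLib.pullCl_comp, hML]
      exact hrig
    have h2 := congrArg (PicF.pullCl π₀.left) hnn
    rwa [H23.PicMul.pullCl_mul, h1, mul_one, H23.PicMul.pullCl_one] at h2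
  refine ⟨⟨PicF.cl M * PicF.pullCl (PicF.XTproj f T) n',
    H23.PicMul.isInvertibleCl_mul ⟨M, rfl, hM⟩ (PicClLib.isInvertibleCl_pullCl _ hn'), ?_⟩, ?_⟩
  · show PicF.pullCl (PicF.secT f σ hσ T) _ = 1
    rw [H23.PicMul.pullCl_mul, PicClLib.pullCl_comp, secT_proj, PicClLib.pullCl_id, mul_comm]
    exact hnn
  · show PicF.pullCl (PicF.XTmap f π₀) _ = PicF.cl L
    rw [H23.PicMul.pullCl_mul, hML, PicClLib.pullCl_comp, (isPullback_XTmap f π₀).w, ← PicClLib.pullCl_comp, hun,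
      H23.PicMul.pullCl_one, mul_one]

end Groth.Agent.PicFRel.RigDescent
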