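import Groth.Agent.PicFRel.UnivH0
import Groth.Agent.S14419
import Groth.Agent.PnCoh.Chow.Proper
import Mathlib.AlgebraicGeometry.Morphisms.Finite

/-!
# Proper flat families with integral fibres over a variety over an algebraically closed field
-/

universe u

open CategoryTheory CategoryTheory.Limits AlgebraicGeometry TopologicalSpace

set_option backward.isDefEq.respectTransparency false
set_option backward.isDefEq.respectTransparency.types false
set_option linter.style.haveILetI false

namespace Groth.Agent.PicFRel.AlgClosedFamily

variable {k : Type u} [Field k] [IsAlgClosed k] {X Y : Scheme.{u}} (g : Y ⟶ Spec (CommRingCat.of k))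
  [LocallyOfFiniteType g]

include g in
/-- The residue field of a closed point is algebraically closed. -/
theorem isAlgClosed_residueField {y : Y} (hy : IsClosed ({y} : Set Y)) : IsAlgClosed (Y.residueField y) := by
  haveI : JacobsonSpace Y := LocallyOfFiniteType.jacobsonSpace g
  haveI : LocallyOfFiniteType (Y.fromSpecResidueField y) :=
    isClosed_singleton_iff_locallyOfFiniteType.1 hy
  obtain ⟨ψ, hψ⟩ := Spec.map_surjective (Y.fromSpecResidueField y ≫ g)
  have hft : ψ.hom.FiniteType := by
    rw [← HasRingHomProperty.Spec_iff (P := @LocallyOfFiniteType), hψ]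
    infer_instance
  letI := ψ.hom.toAlgebra
  haveI : Algebra.FiniteType k (Y.residueField y) := hft
  haveI : Module.Finite k (Y.residueField y) := finite_of_finite_type_of_isJacobsonRing k _
  exact IsAlgClosed.of_ringEquiv k (Y.residueField y)
    (RingEquiv.ofBijective (algebraMap k (Y.residueField y))
      (IsAlgClosed.algebraMap_bijective_of_isIntegral (k := k)))

include g in
/-- All fibres have only constant functions. -/
theorem constFibres (f : X ⟶ Y) [IsProper f] [Flat f] (hint : ∀ y : Y, IsIntegral (f.fiber y)) :
    H23.RigidApply.ConstFibres f := by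
  haveI : IsLocallyNoetherian Y := LocallyOfFiniteType.isLocallyNoetherian g
  haveI : JacobsonSpace Y := LocallyOfFiniteType.jacobsonSpace g
  have hclosed : ∀ y : Y, IsClosed ({y} : Set Y) →
      Function.Bijective (pullback.snd f (Y.fromSpecResidueField y)).appTop := by
    intro y hy
    haveI := isAlgClosed_residueField g hy
    let v : pullback f (Y.fromSpecResidueField y) ⟶ Spec (CommRingCat.of (Y.residueField y)) :=
      pullback.snd f (Y.fromSpecResidueField y)
    haveI : IsIntegral (pullback f (Y.fromSpecResidueField y)) := hint y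
    haveI : Nonempty ↥(Spec (CommRingCat.of (Y.residueField y))) :=
      inferInstanceAs (Nonempty (PrimeSpectrum (Y.residueField y)))
    have hfin : v.appTop.hom.Finite := finite_appTop_of_universallyClosed (Y.residueField y) v
    let φ : CommRingCat.of (Y.residueField y) ⟶ Γ(pullback f (Y.fromSpecResidueField y), ⊤) :=
      (Scheme.ΓSpecIso _).inv ≫ v.appTop
    have hφ : φ.hom.Finite := hfin.comp (RingHom.Finite.of_surjective _
      (ConcreteCategory.bijective_of_isIso (Scheme.ΓSpecIso (CommRingCat.of (Y.residueField y))).inv).2)
    let F := Γ(pullback f (Y.fromSpecResidueField y), ⊤)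
    letI : Field F := (isField_of_universallyClosed (Y.residueField y) v).toField
    letI := φ.hom.toAlgebra
    haveI : Module.Finite (Y.residueField y) F := hφ
    exact UnivH0.bijective_appTop_of_toGlobal v
      (IsAlgClosed.algebraMap_bijective_of_isIntegral (k := Y.residueField y) (K := F))
  choose U hy hU using fun (y : Y) (h : IsClosed ({y} : Set Y)) =>
    UnivH0.exists_nhd_constant f y (hclosed y h)
  intro z
  by_contra hz
  let O : Y.Opens := ⨆ (y : Y) (h : IsClosed ({y} : Set Y)), U y h
  have hne : ((O : Set Y)ᶜ).Nonempty := ⟨z, fun h => hz <| by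
    obtain ⟨y, h⟩ := Opens.mem_iSup.1 h
    obtain ⟨hy', h⟩ := Opens.mem_iSup.1 h
    exact hU y hy' z h⟩
  obtain ⟨y, hyO, hyc⟩ := nonempty_inter_closedPoints hne O.isOpen.isClosed_compl.isLocallyClosed
  exact hyO (Opens.mem_iSup.2 ⟨y, Opens.mem_iSup.2 ⟨hyc, hy y hyc⟩⟩)

/-- The structure morphism of projective space over any base is proper. -/
theorem isProper_toBase (n : ℕ) (S : Scheme.{u}) : IsProper (CohB1.ProjSpaceOver.toBase n S) :=
  MorphismProperty.pullback_snd _ _ (PnCoh.Chow.isProper_toSpec n (ULift.{u} ℤ))

end Groth.Agent.PicFRel.AlgClosedFamily
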