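import Groth.Agent.H23.SeesawGlobal
import Groth.Agent.QCoh.UnitPush
import Groth.Agent.S16759

/-!
# Functions of the base changes near a fibre with constant functions

For a proper flat morphism with Noetherian affine base, if the functions of the fibre over a point
are constants then, near the point, the functions of every base change are the functions of the base.
-/

universe u

set_option backward.isDefEq.respectTransparency false
set_option backward.isDefEq.respectTransparency.types false
set_option linter.style.haveILetI false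

open CategoryTheory CategoryTheory.Limits AlgebraicGeometry TopologicalSpace Opposite

namespace Groth.Agent.PicFRel.UnivH0

open Groth.Agent.InvX Groth.Agent.H23 Groth.Agent.H23.TrivBasic

/-- A frame on the whole scheme identifies functions and sections. -/
theorem bijective_smul_frame {X : Scheme.{u}} {L : X.Modules} {e : Γ(L, ⊤)} (he : IsFrame e) :
    Function.Bijective fun r : Γ(X, ⊤) => r • e := by
  have := he ⊤ le_rfl
  simpa only [AModX.res_self] using this

section Affine

variable {A : Type u} [CommRing A] {X : Scheme.{u}} [X.Over (Spec (CommRingCat.of A))]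
  [IsNoetherianRing A] [IsProper (X ↘ Spec (CommRingCat.of A))] [Flat (X ↘ Spec (CommRingCat.of A))]

set_option quotPrecheck false in
local notation "π" => (X ↘ Spec (CommRingCat.of A))

/-- Near a point whose fibre has only constant functions, every base change has only functions
from its base. -/
theorem exists_away_bijective (x : PrimeSpectrum A) (h0 : Seesaw.FibreH0 X x) :
    ∃ a : A, a ∉ x.asIdeal ∧ ∀ (B : Type u) [CommRing B] [Algebra A B], IsUnit (algebraMap A B a) →
      ∀ (X' : Scheme.{u}) (φ : X' ⟶ X) (pB : X' ⟶ Spec (CommRingCat.of B)),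
        IsPullback φ pB π (Seesaw.specAlg A B) → Function.Bijective (Coh.toGlobal pB) := by
  have hO : PicF.IsInvertible (Coh.structureModule X) := Triv.isInvertible ⟨Iso.refl _⟩
  obtain ⟨Q, hfin, e, hQ⟩ := Seesaw.exists_rep (A := A) (Coh.structureModule X) hO
  have := hfin
  let one : Γ(Coh.structureModule X, ⊤) := (1 : Γ(X, ⊤))
  have hone : IsFrame one := isFrame_one ⊤
  let v : Q →ₗ[A] A := e.symm one
  have key : ∀ (B : Type u) [CommRing B] [Algebra A B] (X' : Scheme.{u}) (φ : X' ⟶ X)
      (pB : X' ⟶ Spec (CommRingCat.of B)), IsPullback φ pB π (Seesaw.specAlg A B) →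
      ∃ eB : (Q →ₗ[A] B) → Γ(X', ⊤), Function.Bijective eB ∧
        ∀ b : B, eB (LinearMap.mulLeft A b ∘ₗ Algebra.linearMap A B ∘ₗ v) = Coh.toGlobal pB b := by
    intro B _ _ X' φ pB hsq
    obtain ⟨eB, he1, he2⟩ := hQ B X' φ pB hsq
    have hfr : IsFrame (U := (⊤ : X'.Opens))
        (show Γ((Scheme.Modules.pullback φ).obj (Coh.structureModule X), ⊤) from pullElt φ one) :=
      isFrame_pullElt φ hone
    let r := Equiv.ofBijective _ (bijective_smul_frame hfr)
    refine ⟨r.symm ∘ eB, r.symm.bijective.comp eB.bijective, fun b => ?_⟩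
    show r.symm (eB _) = _
    refine (Equiv.symm_apply_eq r).2 ?_
    rw [he1, he2, AddEquiv.apply_symm_apply]
    rfl
  let k := x.asIdeal.ResidueField
  obtain ⟨eK, hK, hK1⟩ := key k _ _ _ (IsPullback.of_hasPullback π _)
  have hline := Seesaw.toGlobal_bijective (K := k) _ h0
  let gv : Q →ₗ[A] k := Algebra.linearMap A k ∘ₗ v
  have hgv : ∀ g : Q →ₗ[A] k, ∃ c : k, g = c • gv := by
    intro g
    obtain ⟨c, hc⟩ := hline.2 (eK g)
    exact ⟨c, hK.1 (by
      rw [← hc, ← hK1 c]
      congr 1)⟩
  have hgv0 : gv ≠ 0 := by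
    intro h
    refine zero_ne_one (hline.1 ?_ : (0 : k) = 1)
    rw [← hK1 0, ← hK1 1]
    congr 1
    ext q
    simp [show Algebra.linearMap A k ∘ₗ v = 0 from h]
  have h1 : ∀ g g' : Q →ₗ[A] k, g ≠ 0 → ∃ c : k, g' = c • g := by
    intro g g' hg
    obtain ⟨c, rfl⟩ := hgv g
    obtain ⟨c', rfl⟩ := hgv g'
    have hc : c ≠ 0 := fun h => hg (by rw [h, zero_smul])
    exact ⟨c' * c⁻¹, by rw [smul_smul, mul_assoc, inv_mul_cancel₀ hc, mul_one]⟩
  obtain ⟨q₀, c, hc, hq⟩ := SeesawMod.exists_generator x (SeesawMod.fibreRank_eq_one x ⟨gv, hgv0⟩ h1)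
  choose φq hφq using hq
  have hv : ∀ q, c * v q = φq q * v q₀ := fun q => by
    have := congrArg v (hφq q)
    simpa only [map_smul, smul_eq_mul] using this
  have hvq : v q₀ ∉ x.asIdeal := fun h => hgv0 <| LinearMap.ext fun q => by
    show algebraMap A k (v q) = 0
    rw [Ideal.algebraMap_residueField_eq_zero]
    have hmem : c * v q ∈ x.asIdeal := by rw [hv]; exact x.asIdeal.mul_mem_left _ h
    exact (Ideal.IsPrime.mem_or_mem inferInstance hmem).resolve_left hc
  refine ⟨c * v q₀, fun h => (Ideal.IsPrime.mem_or_mem inferInstance h).elim hc hvq,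
    fun B _ _ hB X' φ pB hsq => ?_⟩
  obtain ⟨eB, heB, heB1⟩ := key B X' φ pB hsq
  rw [map_mul, IsUnit.mul_iff] at hB
  have hphi : Function.Bijective fun b : B => LinearMap.mulLeft A b ∘ₗ Algebra.linearMap A B ∘ₗ v := by
    refine ⟨fun b b' h => ?_, fun g => ?_⟩
    · exact hB.2.mul_right_cancel (by simpa using LinearMap.congr_fun h q₀)
    · obtain ⟨u, hu⟩ := hB.2
      refine ⟨g q₀ * (u⁻¹ : Bˣ), LinearMap.ext fun q => hB.1.mul_left_cancel ?_⟩
      have hg : algebraMap A B c * g q = algebraMap A B (φq q) * g q₀ := by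
        have := congrArg g (hφq q)
        simpa only [map_smul, Algebra.smul_def] using this
      show algebraMap A B c * (g q₀ * (u⁻¹ : Bˣ) * algebraMap A B (v q)) = algebraMap A B c * g q
      rw [hg, mul_left_comm, ← map_mul, hv, map_mul, ← hu, mul_comm (algebraMap A B (φq q)) (g q₀)]
      calc g q₀ * ↑u⁻¹ * (algebraMap A B (φq q) * ↑u)
          = g q₀ * algebraMap A B (φq q) * (↑u⁻¹ * ↑u) := by ring
        _ = g q₀ * algebraMap A B (φq q) := by rw [Units.inv_mul, mul_one]
  exact (funext fun b => (heB1 b).symm : ⇑(Coh.toGlobal pB) = eB ∘ fun b : B =>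
    LinearMap.mulLeft A b ∘ₗ Algebra.linearMap A B ∘ₗ v) ▸ heB.comp hphi

end Affine

/-- Bijectivity on sections is local on the base. -/
theorem bijective_app_of_isBasis {P T : Scheme.{u}} (p : P ⟶ T) {Bs : Set T.Opens} (hB : Opens.IsBasis Bs)
    (h : ∀ W ∈ Bs, Function.Bijective (p.app W)) (W : T.Opens) : Function.Bijective (p.app W) := by
  let u : Coh.structureModule T ⟶ (Scheme.Modules.pushforward p).obj (Coh.structureModule P) :=
    SheafOfModules.unitToPushforwardObjUnit p.toRingCatSheafHom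
  haveI : IsIso u := Groth.Agent.QCoh.isIso_of_isBasis u hB fun V hV => h V hV
  exact ((ConcreteCategory.isIso_iff_bijective _).1 (Scheme.Modules.Hom.isIso_iff_isIso_app.1 this W) :)

/-- Functions over an open subscheme of the base, through the restricted morphism. -/
theorem bijective_app_of_morphismRestrict {P T : Scheme.{u}} (p : P ⟶ T) (W : T.Opens)
    (h : Function.Bijective (p ∣_ W).appTop) : Function.Bijective (p.app W) := by
  have h1 : IsIso ((p ∣_ W).app ⊤) := (ConcreteCategory.isIso_iff_bijective _).2 h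
  rw [morphismRestrict_app] at h1
  have h3 : IsIso (P.presheaf.map (eqToHom (image_morphismRestrict_preimage p W ⊤)).op) := inferInstance
  have h2 : IsIso (p.app (W.ι ''ᵁ ⊤)) := @IsIso.of_isIso_comp_right _ _ _ _ _ _ _ h3 h1
  rw [W.ι_image_top] at h2
  exact (ConcreteCategory.isIso_iff_bijective _).1 h2

/-- Bijectivity of the map to global functions, read on `appTop`. -/
theorem bijective_appTop_of_toGlobal {B : Type u} [CommRing B] {V : Scheme.{u}}
    (v : V ⟶ Spec (CommRingCat.of B)) (h : Function.Bijective (Coh.toGlobal v)) :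
    Function.Bijective v.appTop := by
  have h2 := h.comp (ConcreteCategory.bijective_of_isIso (Scheme.ΓSpecIso (CommRingCat.of B)).hom)
  refine (funext fun z => ?_ : ⇑v.appTop =
    ⇑(Coh.toGlobal v) ∘ ⇑(Scheme.ΓSpecIso (CommRingCat.of B)).hom) ▸ h2
  show _ = v.appTop ((Scheme.ΓSpecIso (CommRingCat.of B)).inv ((Scheme.ΓSpecIso (CommRingCat.of B)).hom z))
  rw [Iso.hom_inv_id_apply]

section Global

variable {X Y : Scheme.{u}} (f : X ⟶ Y)

/-- Constant functions on the fibre give constant functions over every field point above it. -/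
theorem fieldH0_of_fibre [QuasiCompact f] [QuasiSeparated f] (y : Y)
    (h : Function.Bijective (pullback.snd f (Y.fromSpecResidueField y)).appTop) :
    SeesawGlobal.FieldH0 f y := by
  intro K _ k hk
  subst hk
  let φ := Scheme.descResidueField (Scheme.stalkClosedPointTo k)
  let a := Y.fromSpecResidueField (k (IsLocalRing.closedPoint K))
  have hfac : Spec.map φ ≫ a = k := Scheme.descResidueField_stalkClosedPointTo_fromSpecResidueField K Y k
  let e : pullback f k ≅ pullback (pullback.snd f a) (Spec.map φ) :=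
    pullback.congrHom rfl hfac.symm ≪≫ (pullbackLeftPullbackSndIso f a (Spec.map φ)).symm
  have he : pullback.snd f k = e.hom ≫ pullback.snd (pullback.snd f a) (Spec.map φ) := by
    simp [e, pullback.congrHom, pullback.map, pullback.lift_snd, pullbackLeftPullbackSndIso_inv_snd_snd]
  have hv := Rigid.bijective_app_snd_of_bijective (pullback.snd f a) (Spec.map φ) h
  rw [he, Scheme.Hom.comp_appTop]
  exact (SeesawGlobal.bijective_appTop_iso e).comp (hv ⊤)

/-- Near a point whose fibre has only constant functions, every base change has only functions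
from its base, on every open. -/
theorem exists_nhd [IsProper f] [Flat f] [IsLocallyNoetherian Y] (y : Y)
    (h : Function.Bijective (pullback.snd f (Y.fromSpecResidueField y)).appTop) :
    ∃ U : Y.Opens, y ∈ U ∧ ∀ (T : Scheme.{u}) (g : T ⟶ Y) (W : T.Opens), IsAffineOpen W →
      (∀ t ∈ W, g t ∈ U) → Function.Bijective ((pullback.snd f g).app W) := by
  have hy := fieldH0_of_fibre f y h
  obtain ⟨A, _, _, g₀, _, x, rfl⟩ := SeesawGlobal.exists_chart y
  obtain ⟨a, ha, hb⟩ := exists_away_bijective (X := SeesawGlobal.chart f A g₀) x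
    (SeesawGlobal.fibreH0_chart f A g₀ hy)
  refine ⟨g₀ ''ᵁ PrimeSpectrum.basicOpen a, ⟨x, ha, rfl⟩, fun T g W hW hg => ?_⟩
  refine bijective_app_of_morphismRestrict _ W ?_
  have hr : Set.range (W.ι ≫ g) ⊆ Set.range g₀ := by
    rintro _ ⟨w, rfl⟩
    obtain ⟨z, -, hz⟩ := hg _ w.2
    exact ⟨z, hz⟩
  have hW' : IsAffineOpen W := hW
  let k : Spec Γ(T, W) ⟶ Spec (CommRingCat.of A) :=
    hW'.isoSpec.inv ≫ IsOpenImmersion.lift g₀ (W.ι ≫ g) hr
  obtain ⟨ψ, hψ⟩ := Spec.map_surjective k
  letI : Algebra A Γ(T, W) := ψ.hom.toAlgebra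
  have hk : hW'.isoSpec.hom ≫ Seesaw.specAlg A Γ(T, W) ≫ g₀ = W.ι ≫ g := by
    show hW'.isoSpec.hom ≫ Spec.map ψ ≫ g₀ = _
    rw [hψ, ← Category.assoc, Iso.hom_inv_id_assoc, IsOpenImmersion.lift_fac]
  have hunit : IsUnit (algebraMap A Γ(T, W) a) := by
    refine by_contra fun hu => ?_
    obtain ⟨m, hm, hum⟩ := exists_max_ideal_of_mem_nonunits hu
    let q : ↥(Spec Γ(T, W)) := ⟨m, hm.isPrime⟩
    obtain ⟨z, hz, hz'⟩ := hg (W.ι (hW'.isoSpec.inv q)) (hW'.isoSpec.inv q).2
    have : g₀ (Spec.map ψ q) = g (W.ι (hW'.isoSpec.inv q)) := by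
      have := congr($hk (hW'.isoSpec.inv q))
      simp only [Scheme.Hom.comp_apply] at this
      rwa [show hW'.isoSpec.hom (hW'.isoSpec.inv q) = q from congr($(hW'.isoSpec.inv_hom_id) q)] at this
    rw [← hz'] at this
    rw [← g₀.isOpenEmbedding.injective this] at hz
    exact hz hum
  let P := pullback f g
  let f' : P ⟶ T := pullback.snd f g
  let pB : (f' ⁻¹ᵁ W : Scheme.{u}) ⟶ Spec (CommRingCat.of Γ(T, W)) := (f' ∣_ W) ≫ hW'.isoSpec.hom
  let φ : (f' ⁻¹ᵁ W : Scheme.{u}) ⟶ SeesawGlobal.chart f A g₀ :=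
    pullback.lift ((f' ⁻¹ᵁ W).ι ≫ pullback.fst f g) (pB ≫ Seesaw.specAlg A Γ(T, W)) (by
      simp only [pB, Category.assoc, hk, morphismRestrict_ι_assoc, f', pullback.condition])
  have hbig : IsPullback (φ ≫ pullback.fst f g₀) pB f (Seesaw.specAlg A Γ(T, W) ≫ g₀) := by
    have h1 : IsPullback (φ ≫ pullback.fst f g₀) (f' ∣_ W) f (W.ι ≫ g) := by
      rw [pullback.lift_fst]
      exact (isPullback_morphismRestrict f' W).flip.paste_horiz (IsPullback.of_hasPullback f g)
    exact h1.of_iso (Iso.refl _) (Iso.refl _) hW'.isoSpec (Iso.refl _) (by simp) (by simp [pB])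
      (by simp) (by simp [hk])
  have hsq : IsPullback φ pB (pullback.snd f g₀) (Seesaw.specAlg A Γ(T, W)) :=
    IsPullback.of_right hbig (pullback.lift_snd _ _ _) (IsPullback.of_hasPullback f g₀)
  have := bijective_appTop_of_toGlobal pB (hb Γ(T, W) hunit _ φ pB hsq)
  rw [Scheme.Hom.comp_appTop] at this
  have hi : Function.Bijective hW'.isoSpec.hom.appTop := SeesawGlobal.bijective_appTop_iso hW'.isoSpec
  exact (Function.Bijective.of_comp_iff _ hi).1 this

/-- When all fibres have only constant functions, so do all base changes. -/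
theorem bijective_app [IsProper f] [Flat f] [IsLocallyNoetherian Y]
    (h : RigidApply.ConstFibres f) (T : Scheme.{u}) (g : T ⟶ Y) (W : T.Opens) :
    Function.Bijective ((pullback.snd f g).app W) := by
  choose U hy hU using fun y : Y => exists_nhd f y (h y)
  refine bijective_app_of_isBasis _ (Bs := {V : T.Opens | IsAffineOpen V ∧ ∃ y, V ≤ g ⁻¹ᵁ U y}) ?_
    (fun V ⟨hV, y, hVy⟩ => hU y T g V hV fun t ht => hVy ht) W
  refine Opens.isBasis_iff_nbhd.2 fun {V x} hx => ?_
  obtain ⟨_, ⟨O, hO, rfl⟩, hxO, hle⟩ := T.isBasis_affineOpens.exists_subset_of_mem_open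
    (show x ∈ (V ⊓ g ⁻¹ᵁ U (g x) : T.Opens) from ⟨hx, hy _⟩) (V ⊓ g ⁻¹ᵁ U (g x)).isOpen
  exact ⟨O, ⟨hO, g x, fun t ht => (hle ht).2⟩, hxO, fun t ht => (hle ht).1⟩

/-- The points with constant functions on the fibre form an open set. -/
theorem exists_nhd_constant [IsProper f] [Flat f] [IsLocallyNoetherian Y] (y : Y)
    (h : Function.Bijective (pullback.snd f (Y.fromSpecResidueField y)).appTop) :
    ∃ U : Y.Opens, y ∈ U ∧ ∀ z ∈ U,
      Function.Bijective (pullback.snd f (Y.fromSpecResidueField z)).appTop := by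
  obtain ⟨U, hy, hU⟩ := exists_nhd f y h
  exact ⟨U, hy, fun z hz => hU _ _ ⊤ (isAffineOpen_top _) fun t _ => by
    rwa [Scheme.fromSpecResidueField_apply]⟩

end Global

end Groth.Agent.PicFRel.UnivH0
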