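import Groth.Agent.H23.CocycleMod
import Groth.Agent.InvX.Pullback
import Groth.Agent.InvX.GenLocusPull
import Groth.Agent.ResSurf.TwistPull
import Mathlib.AlgebraicGeometry.AffineTransitionLimit

/-!
# Invertible modules on limits come from a stage

For a cofiltered limit of quasi-compact quasi-separated schemes with affine transition maps every
invertible module on the limit is the pullback of an invertible module on some stage.
-/

set_option autoImplicit false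
set_option backward.isDefEq.respectTransparency false
set_option backward.isDefEq.respectTransparency.types false
set_option linter.style.haveILetI false

universe u

open CategoryTheory CategoryTheory.Limits AlgebraicGeometry TopologicalSpace Opposite

namespace Groth.Agent.PicFRel.InvApprox

open Groth.Agent.InvX

variable {I : Type u} [SmallCategory I] [IsCofiltered I] {D : I ⥤ Scheme.{u}} {c : Cone D}
  [∀ {i j : I} (f : i ⟶ j), IsAffineHom (D.map f)] [∀ i, CompactSpace (D.obj i)]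
  [∀ i, QuasiSeparatedSpace (D.obj i)]

omit [∀ i, CompactSpace (D.obj i)] in
/-- Sections over quasi-compact opens of the limit come from stages. -/
theorem exists_stage (hc : IsLimit c) {i : I} {W : (D.obj i).Opens} (hW : IsCompact (W : Set (D.obj i)))
    (s : Γ(c.pt, c.π.app i ⁻¹ᵁ W)) :
    ∃ (j : Over i) (t : Γ(D.obj j.left, D.map j.hom ⁻¹ᵁ W)),
      (c.π.app j.left).appLE (D.map j.hom ⁻¹ᵁ W) (c.π.app i ⁻¹ᵁ W)
        (by rw [← Scheme.Hom.comp_preimage, c.w]) t = s := by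
  have (j : Over i) : CompactSpace ↥((opensDiagram D i W).obj j) :=
    isCompact_iff_compactSpace.mp (QuasiCompact.isCompact_preimage (f := D.map j.hom) _ W.2 hW)
  have (j : Over i) : QuasiSeparatedSpace ↥((opensDiagram D i W).obj j) :=
    (isQuasiSeparated_iff_quasiSeparatedSpace _ (D.map _ ⁻¹ᵁ _).2).mp (.of_quasiSeparatedSpace _)
  obtain ⟨j, t, ht⟩ := exists_appTop_π_eq_of_isLimit _ _ (isLimitOpensCone D c hc i W)
    ((c.π.app i ⁻¹ᵁ W).topIso.inv s)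
  refine ⟨j, (D.map j.hom ⁻¹ᵁ W).topIso.hom t, ?_⟩
  have := congrArg (fun x => (c.π.app i ⁻¹ᵁ W).topIso.hom x) ht.symm
  refine Eq.trans ?_ (this.trans ?_)
  · simp only [← ConcreteCategory.comp_apply]
    refine ConcreteCategory.congr_hom (?_ :
      (D.map j.hom ⁻¹ᵁ W).topIso.hom ≫ (c.π.app j.left).appLE (D.map j.hom ⁻¹ᵁ W) (c.π.app i ⁻¹ᵁ W)
          (by rw [← Scheme.Hom.comp_preimage, c.w]) =
        ((opensCone D c i W).π.app j).appTop ≫ (c.π.app i ⁻¹ᵁ W).topIso.hom) t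
    simp [Scheme.Hom.app_eq_appLE, Scheme.Hom.resLE_appLE, Scheme.Opens.topIso]
  · show ((c.π.app i ⁻¹ᵁ W).topIso.inv ≫ (c.π.app i ⁻¹ᵁ W).topIso.hom) s = s
    rw [Iso.inv_hom_id]; rfl

section Stages

variable {i : I}

omit [IsCofiltered I] [∀ {i j : I} (f : i ⟶ j), IsAffineHom (D.map f)] [∀ i, CompactSpace (D.obj i)]
  [∀ i, QuasiSeparatedSpace (D.obj i)] in
theorem le_push {W : (D.obj i).Opens} {j j' : Over i} (φ : j' ⟶ j) :
    D.map j'.hom ⁻¹ᵁ W ≤ D.map φ.left ⁻¹ᵁ (D.map j.hom ⁻¹ᵁ W) := by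
  rw [← Scheme.Hom.comp_preimage, ← D.map_comp, Over.w φ]

omit [IsCofiltered I] [∀ {i j : I} (f : i ⟶ j), IsAffineHom (D.map f)] [∀ i, CompactSpace (D.obj i)]
  [∀ i, QuasiSeparatedSpace (D.obj i)] in
theorem le_lim {W : (D.obj i).Opens} (j : Over i) :
    c.π.app i ⁻¹ᵁ W ≤ c.π.app j.left ⁻¹ᵁ (D.map j.hom ⁻¹ᵁ W) := by
  rw [← Scheme.Hom.comp_preimage, c.w]

/-- Transition on the functions over an open of the first stage. -/
noncomputable def push {W : (D.obj i).Opens} {j j' : Over i} (φ : j' ⟶ j) :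
    Γ(D.obj j.left, D.map j.hom ⁻¹ᵁ W) →+* Γ(D.obj j'.left, D.map j'.hom ⁻¹ᵁ W) :=
  ((D.map φ.left).appLE (D.map j.hom ⁻¹ᵁ W) (D.map j'.hom ⁻¹ᵁ W) (le_push φ)).hom

/-- Functions of a stage on the limit. -/
noncomputable def toLim (c : Cone D) {W : (D.obj i).Opens} (j : Over i) :
    Γ(D.obj j.left, D.map j.hom ⁻¹ᵁ W) →+* Γ(c.pt, c.π.app i ⁻¹ᵁ W) :=
  ((c.π.app j.left).appLE (D.map j.hom ⁻¹ᵁ W) (c.π.app i ⁻¹ᵁ W) (le_lim j)).hom

omit [IsCofiltered I] [∀ {i j : I} (f : i ⟶ j), IsAffineHom (D.map f)] [∀ i, CompactSpace (D.obj i)]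
  [∀ i, QuasiSeparatedSpace (D.obj i)] in
theorem push_comp {W : (D.obj i).Opens} {j j' j'' : Over i} (φ : j' ⟶ j) (ψ : j'' ⟶ j')
    (x : Γ(D.obj j.left, D.map j.hom ⁻¹ᵁ W)) : push ψ (push φ x) = push (ψ ≫ φ) x := by
  simp only [push, ← ConcreteCategory.comp_apply]
  refine ConcreteCategory.congr_hom (?_ : _ = (D.map (ψ ≫ φ).left).appLE _ _ (le_push (ψ ≫ φ))) x
  rw [Scheme.Hom.appLE_comp_appLE]
  congr 1
  rw [Over.comp_left, D.map_comp]

omit [IsCofiltered I] [∀ {i j : I} (f : i ⟶ j), IsAffineHom (D.map f)] [∀ i, CompactSpace (D.obj i)]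
  [∀ i, QuasiSeparatedSpace (D.obj i)] in
theorem toLim_push (c : Cone D) {W : (D.obj i).Opens} {j j' : Over i} (φ : j' ⟶ j)
    (x : Γ(D.obj j.left, D.map j.hom ⁻¹ᵁ W)) : toLim c j' (push φ x) = toLim c j x := by
  show ((toLim c j').comp (push φ)) x = toLim c j x
  refine RingHom.congr_fun ?_ x
  simp only [toLim, push, ← CommRingCat.hom_comp, Scheme.Hom.appLE_comp_appLE]
  congr 2
  exact c.w φ.left

omit [IsCofiltered I] [∀ {i j : I} (f : i ⟶ j), IsAffineHom (D.map f)] [∀ i, CompactSpace (D.obj i)]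
  [∀ i, QuasiSeparatedSpace (D.obj i)] in
theorem push_res {W W' : (D.obj i).Opens} (h : W' ≤ W) {j j' : Over i} (φ : j' ⟶ j)
    (x : Γ(D.obj j.left, D.map j.hom ⁻¹ᵁ W)) :
    AModX.resR (show D.map j'.hom ⁻¹ᵁ W' ≤ D.map j'.hom ⁻¹ᵁ W from fun _ hz => h hz) (push φ x) =
      push φ (AModX.resR (show D.map j.hom ⁻¹ᵁ W' ≤ D.map j.hom ⁻¹ᵁ W from fun _ hz => h hz) x) := by
  simp only [push, AModX.resR, ← ConcreteCategory.comp_apply]
  refine ConcreteCategory.congr_hom ?_ x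
  rw [Scheme.Hom.appLE_map, Scheme.Hom.map_appLE]

omit [IsCofiltered I] [∀ {i j : I} (f : i ⟶ j), IsAffineHom (D.map f)] [∀ i, CompactSpace (D.obj i)]
  [∀ i, QuasiSeparatedSpace (D.obj i)] in
theorem toLim_res (c : Cone D) {W W' : (D.obj i).Opens} (h : W' ≤ W) (j : Over i)
    (x : Γ(D.obj j.left, D.map j.hom ⁻¹ᵁ W)) :
    AModX.resR (show c.π.app i ⁻¹ᵁ W' ≤ c.π.app i ⁻¹ᵁ W from fun _ hz => h hz) (toLim c j x) =
      toLim c j (AModX.resR (show D.map j.hom ⁻¹ᵁ W' ≤ D.map j.hom ⁻¹ᵁ W from fun _ hz => h hz) x) := by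
  show ((AModX.resR _).comp (toLim c j)) x = ((toLim c j).comp (AModX.resR _)) x
  refine RingHom.congr_fun ?_ x
  simp only [toLim, AModX.resR, ← CommRingCat.hom_comp, Scheme.Hom.map_appLE]
  erw [Scheme.Hom.appLE_map]

omit [∀ i, CompactSpace (D.obj i)] [∀ i, QuasiSeparatedSpace (D.obj i)] in
/-- Equal on the limit, hence equal at a later stage. -/
theorem exists_push_eq (hc : IsLimit c) {W : (D.obj i).Opens} (hW : IsCompact (W : Set (D.obj i)))
    (j : Over i) (x y : Γ(D.obj j.left, D.map j.hom ⁻¹ᵁ W)) (h : toLim c j x = toLim c j y) :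
    ∃ (j' : Over i) (φ : j' ⟶ j), push φ x = push φ y := by
  have hWj : IsCompact (X := D.obj j.left) (D.map j.hom ⁻¹ᵁ W) :=
    QuasiCompact.isCompact_preimage (f := D.map j.hom) _ W.2 hW
  have hEq : (c.π.app j.left).app (D.map j.hom ⁻¹ᵁ W) x = (c.π.app j.left).app (D.map j.hom ⁻¹ᵁ W) y := by
    have hle : c.π.app j.left ⁻¹ᵁ (D.map j.hom ⁻¹ᵁ W) ≤ c.π.app i ⁻¹ᵁ W := by
      rw [← Scheme.Hom.comp_preimage, c.w]
    have := congrArg (c.pt.presheaf.map (homOfLE hle).op).hom h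
    simp only [toLim, ← RingHom.comp_apply, ← CommRingCat.hom_comp] at this
    erw [Scheme.Hom.appLE_map] at this
    rw [Scheme.Hom.app_eq_appLE]
    exact this
  obtain ⟨k, g, hg⟩ := exists_app_map_eq_map_of_isLimit D c hc hWj x y hEq
  refine ⟨Over.mk (g ≫ j.hom), Over.homMk g rfl, ?_⟩
  have := congrArg ((D.obj k).presheaf.map (homOfLE (le_push (W := W) (Over.homMk g rfl :
    Over.mk (g ≫ j.hom) ⟶ j))).op).hom hg
  simp only [Scheme.Hom.app_eq_appLE] at this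
  have e : ∀ w, push (W := W) (Over.homMk g rfl : Over.mk (g ≫ j.hom) ⟶ j) w =
      ((D.obj k).presheaf.map (homOfLE (le_push (W := W) (Over.homMk g rfl :
        Over.mk (g ≫ j.hom) ⟶ j))).op).hom ((D.map g).appLE (D.map j.hom ⁻¹ᵁ W) _ le_rfl w) := by
    intro w
    show _ = (((D.obj k).presheaf.map _).hom.comp ((D.map g).appLE _ _ _).hom) w
    rw [← CommRingCat.hom_comp, Scheme.Hom.appLE_map]
    rfl
  rw [e, e]
  exact this

omit [∀ {i j : I} (f : i ⟶ j), IsAffineHom (D.map f)] [∀ i, CompactSpace (D.obj i)]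
  [∀ i, QuasiSeparatedSpace (D.obj i)] in
/-- Finitely many stages are dominated by one. -/
theorem exists_dominating {κ : Type*} [Finite κ] (j : κ → Over i) :
    ∃ j' : Over i, ∀ a, Nonempty (j' ⟶ j a) := by
  classical
  cases nonempty_fintype κ
  obtain ⟨j', hj'⟩ := IsCofiltered.inf_objs_exists (Finset.univ.image j)
  exact ⟨j', fun a => hj' (Finset.mem_image_of_mem j (Finset.mem_univ a))⟩

omit [∀ {i j : I} (f : i ⟶ j), IsAffineHom (D.map f)] [∀ i, CompactSpace (D.obj i)]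
  [∀ i, QuasiSeparatedSpace (D.obj i)] in
/-- Finitely many stages over one are dominated compatibly. -/
theorem exists_dominating_over {κ : Type u} [Finite κ] {J : Over i} (j : κ → Over i)
    (φ : ∀ a, j a ⟶ J) : ∃ (K : Over i) (θ : K ⟶ J), ∀ a, ∃ ψ : K ⟶ j a, ψ ≫ φ a = θ := by
  classical
  cases nonempty_fintype κ
  suffices ∀ s : Finset κ, ∃ (K : Over i) (θ : K ⟶ J), ∀ a ∈ s, ∃ ψ : K ⟶ j a, ψ ≫ φ a = θ by
    obtain ⟨K, θ, h⟩ := this Finset.univ
    exact ⟨K, θ, fun a => h a (Finset.mem_univ a)⟩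
  intro s
  induction s using Finset.induction with
  | empty => exact ⟨J, 𝟙 J, fun a ha => absurd ha (Finset.notMem_empty a)⟩
  | insert b s hb ih =>
    obtain ⟨K, θ, h⟩ := ih
    obtain ⟨K', u, v, huv⟩ := IsCofiltered.cospan θ (φ b)
    refine ⟨K', u ≫ θ, fun a ha => ?_⟩
    rcases Finset.mem_insert.1 ha with rfl | ha
    · exact ⟨v, huv.symm⟩
    · obtain ⟨ψ, hψ⟩ := h a ha
      exact ⟨u ≫ ψ, by rw [Category.assoc, hψ]⟩

end Stages

omit [∀ i, CompactSpace (D.obj i)] in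
/-- The transition functions of the limit come from a cocycle on a stage. -/
theorem exists_cocycle (hc : IsLimit c) {i : I} {κ : Type u} [Finite κ] (V : κ → (D.obj i).Opens)
    (hV : ∀ a, IsCompact (V a : Set (D.obj i)))
    (g : ∀ a b, (Γ(c.pt, c.π.app i ⁻¹ᵁ (V a ⊓ V b)))ˣ)
    (hg : ∀ a b d,
      AModX.resR (show c.π.app i ⁻¹ᵁ (V a ⊓ V b ⊓ V d) ≤ c.π.app i ⁻¹ᵁ (V a ⊓ V d) from
          fun _ hz => ⟨hz.1.1, hz.2⟩) (g a d : Γ(c.pt, c.π.app i ⁻¹ᵁ (V a ⊓ V d))) =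
        AModX.resR (show c.π.app i ⁻¹ᵁ (V a ⊓ V b ⊓ V d) ≤ c.π.app i ⁻¹ᵁ (V b ⊓ V d) from
            fun _ hz => ⟨hz.1.2, hz.2⟩) (g b d : Γ(c.pt, c.π.app i ⁻¹ᵁ (V b ⊓ V d))) *
          AModX.resR (show c.π.app i ⁻¹ᵁ (V a ⊓ V b ⊓ V d) ≤ c.π.app i ⁻¹ᵁ (V a ⊓ V b) from
            fun _ hz => hz.1) (g a b : Γ(c.pt, c.π.app i ⁻¹ᵁ (V a ⊓ V b)))) :
    ∃ (j : Over i) (t : H23.CocycleMod.Cocycle fun a => D.map j.hom ⁻¹ᵁ V a),
      ∀ a b, toLim c (W := V a ⊓ V b) j (t.g a b).val =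
        (g a b : Γ(c.pt, c.π.app i ⁻¹ᵁ (V a ⊓ V b))) := by
  have hV2 : ∀ a b, IsCompact ((V a ⊓ V b : (D.obj i).Opens) : Set (D.obj i)) := fun a b =>
    QuasiSeparatedSpace.inter_isCompact _ _ (V a).2 (hV a) (V b).2 (hV b)
  choose j₁ t₁ ht₁ using fun p : κ × κ => exists_stage hc (hV2 p.1 p.2) (g p.1 p.2 : Γ(c.pt, _))
  choose j₂ t₂ ht₂ using fun p : κ × κ =>
    exists_stage hc (hV2 p.1 p.2) ((g p.1 p.2)⁻¹ : (Γ(c.pt, c.π.app i ⁻¹ᵁ (V p.1 ⊓ V p.2)))ˣ).val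
  obtain ⟨J, hJ⟩ := exists_dominating (Sum.elim j₁ j₂)
  let A : ∀ p : κ × κ, Γ(D.obj J.left, D.map J.hom ⁻¹ᵁ (V p.1 ⊓ V p.2)) := fun p =>
    push (hJ (.inl p)).some (t₁ p)
  let B : ∀ p : κ × κ, Γ(D.obj J.left, D.map J.hom ⁻¹ᵁ (V p.1 ⊓ V p.2)) := fun p =>
    push (hJ (.inr p)).some (t₂ p)
  have hA : ∀ p : κ × κ, toLim c J (A p) = (g p.1 p.2 : Γ(c.pt, _)) := fun p =>
    (toLim_push c _ _).trans (ht₁ p)
  have hB : ∀ p : κ × κ, toLim c J (B p) = ((g p.1 p.2)⁻¹ : (Γ(c.pt, c.π.app i ⁻¹ᵁ (V p.1 ⊓ V p.2)))ˣ).val :=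
    fun p => (toLim_push c _ _).trans (ht₂ p)
  choose j₃ φ₃ h₃ using fun p : κ × κ => exists_push_eq hc (hV2 p.1 p.2) J (A p * B p) 1 (by
    rw [map_mul, hA, hB, map_one, Units.mul_inv])
  have hT : ∀ a b d, IsCompact ((V a ⊓ V b ⊓ V d : (D.obj i).Opens) : Set (D.obj i)) := fun a b d =>
    QuasiSeparatedSpace.inter_isCompact _ _ (V a ⊓ V b).2 (hV2 a b) (V d).2 (hV d)
  choose j₄ φ₄ h₄ using fun p : κ × κ × κ => exists_push_eq hc (hT p.1 p.2.1 p.2.2) J
    (AModX.resR (show D.map J.hom ⁻¹ᵁ (V p.1 ⊓ V p.2.1 ⊓ V p.2.2) ≤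
        D.map J.hom ⁻¹ᵁ (V p.1 ⊓ V p.2.2) from fun _ hz => ⟨hz.1.1, hz.2⟩) (A (p.1, p.2.2)))
    (AModX.resR (show D.map J.hom ⁻¹ᵁ (V p.1 ⊓ V p.2.1 ⊓ V p.2.2) ≤
        D.map J.hom ⁻¹ᵁ (V p.2.1 ⊓ V p.2.2) from fun _ hz => ⟨hz.1.2, hz.2⟩) (A (p.2.1, p.2.2)) *
      AModX.resR (show D.map J.hom ⁻¹ᵁ (V p.1 ⊓ V p.2.1 ⊓ V p.2.2) ≤
        D.map J.hom ⁻¹ᵁ (V p.1 ⊓ V p.2.1) from fun _ hz => hz.1) (A (p.1, p.2.1))) (by
    rw [map_mul, ← toLim_res c (le_inf (inf_le_left.trans inf_le_left) inf_le_right),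
      ← toLim_res c (le_inf (inf_le_left.trans inf_le_right) inf_le_right),
      ← toLim_res c inf_le_left]
    exact (congrArg _ (hA (p.1, p.2.2))).trans ((hg p.1 p.2.1 p.2.2).trans
      (congrArg₂ (· * ·) (congrArg _ (hA (p.2.1, p.2.2)).symm) (congrArg _ (hA (p.1, p.2.1)).symm))))
  obtain ⟨K, φ, hK⟩ := exists_dominating_over (J := J) (Sum.elim j₃ j₄) (fun x => match x with
    | .inl p => φ₃ p
    | .inr p => φ₄ p)
  have hK₃ : ∀ p, ∃ ψ : K ⟶ j₃ p, ψ ≫ φ₃ p = φ := fun p => hK (.inl p)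
  have hK₄ : ∀ p, ∃ ψ : K ⟶ j₄ p, ψ ≫ φ₄ p = φ := fun p => hK (.inr p)
  choose ψ₃ hψ₃ using hK₃
  choose ψ₄ hψ₄ using hK₄
  refine ⟨K, ⟨fun a b => Units.mkOfMulEqOne (push φ (A (a, b))) (push φ (B (a, b))) ?_,
    fun a b d W ha hb hd => ?_⟩, fun a b => ?_⟩
  · refine (map_mul (push φ) _ _).symm.trans ?_
    rw [← hψ₃ (a, b), ← push_comp, h₃ (a, b), push_comp, map_one]
  · have h := congrArg (push (ψ₄ (a, b, d))) (h₄ (a, b, d))
    rw [push_comp, push_comp, hψ₄ (a, b, d)] at h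
    rw [map_mul, ← push_res, ← push_res, ← push_res] at h
    have hW : W ≤ D.map K.hom ⁻¹ᵁ (V a ⊓ V b ⊓ V d) := le_inf (le_inf ha hb) hd
    have := congrArg (AModX.resR hW) h
    rw [map_mul, AModX.resR_resR, AModX.resR_resR, AModX.resR_resR] at this
    exact this
    all_goals
      first
        | exact inf_le_left
        | exact le_inf (inf_le_left.trans inf_le_left) inf_le_right
        | exact le_inf (inf_le_left.trans inf_le_right) inf_le_right
  · exact (toLim_push c _ _).trans (hA (a, b))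

omit [IsCofiltered I] [∀ {i j : I} (f : i ⟶ j), IsAffineHom (D.map f)] [∀ i, CompactSpace (D.obj i)]
  [∀ i, QuasiSeparatedSpace (D.obj i)] in
/-- Comparison of two families of frames with the same transition functions. -/
theorem nonempty_iso_of_transition {X : Scheme.{u}} {M N : X.Modules} {κ : Type u} (U : κ → X.Opens)
    (hcov : ∀ x, ∃ a, x ∈ U a) (e : ∀ a, Γ(M, U a)) (n : ∀ a, Γ(N, U a))
    (he : ∀ a, IsFrame (e a)) (hn : ∀ a, IsFrame (n a)) (g : ∀ a b, Γ(X, U a ⊓ U b))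
    (heg : ∀ a b, AModX.res M (inf_le_left : U a ⊓ U b ≤ U a) (e a) =
      g a b • AModX.res M inf_le_right (e b))
    (hng : ∀ a b, AModX.res N (inf_le_left : U a ⊓ U b ≤ U a) (n a) =
      g a b • AModX.res N inf_le_right (n b)) :
    Nonempty (M ≅ N) := by
  refine ResSurf.nonempty_iso_of_frames' U hcov e n he hn fun a b W ha hb k hk => ?_
  have h1 := congrArg (AModX.res M (le_inf hb ha : W ≤ U b ⊓ U a)) (heg b a)
  have h2 := congrArg (AModX.res N (le_inf hb ha : W ≤ U b ⊓ U a)) (hng b a)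
  rw [AModX.res_smul, AModX.res_res, AModX.res_res] at h1 h2
  rw [hk] at h1
  rw [(he a).coord_unique ha h1]
  exact h2

omit [IsCofiltered I] [∀ {i j : I} (f : i ⟶ j), IsAffineHom (D.map f)] [∀ i, CompactSpace (D.obj i)]
  [∀ i, QuasiSeparatedSpace (D.obj i)] in
/-- An invertible module with frames over a cover has a cocycle of units as transition functions. -/
theorem exists_transition {X : Scheme.{u}} {L : X.Modules} {κ : Type*} (U : κ → X.Opens)
    (e : ∀ a, Γ(L, U a)) (he : ∀ a, IsFrame (e a)) :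
    ∃ g : ∀ a b, (Γ(X, U a ⊓ U b))ˣ,
      (∀ a b, AModX.res L (inf_le_left : U a ⊓ U b ≤ U a) (e a) =
        (g a b : Γ(X, U a ⊓ U b)) • AModX.res L inf_le_right (e b)) ∧
      ∀ a b d (W : X.Opens) (ha : W ≤ U a) (hb : W ≤ U b) (hd : W ≤ U d),
        AModX.resR (le_inf ha hd) (g a d : Γ(X, U a ⊓ U d)) =
          AModX.resR (le_inf hb hd) (g b d : Γ(X, U b ⊓ U d)) *
            AModX.resR (le_inf ha hb) (g a b : Γ(X, U a ⊓ U b)) := by
  have ex := fun a b => (he b).exists_coord (inf_le_right : U a ⊓ U b ≤ U b)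
    (AModX.res L inf_le_left (e a))
  choose g hg using ex
  have key : ∀ a b (W : X.Opens) (ha : W ≤ U a) (hb : W ≤ U b),
      AModX.res L ha (e a) = AModX.resR (le_inf ha hb) (g a b) • AModX.res L hb (e b) := fun a b W ha hb => by
    have := congrArg (AModX.res L (le_inf ha hb : W ≤ U a ⊓ U b)) (hg a b)
    rw [AModX.res_smul, AModX.res_res, AModX.res_res] at this
    exact this
  have hu : ∀ a b, IsUnit (g a b) := fun a b => by
    refine IsUnit.of_mul_eq_one (AModX.resR (le_inf inf_le_right inf_le_left) (g b a))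
      ((he a).coord_unique (inf_le_left : U a ⊓ U b ≤ U a) ?_)
    rw [mul_smul, ← key b a _ inf_le_right inf_le_left, ← hg a b, one_smul]
  refine ⟨fun a b => (hu a b).unit, fun a b => hg a b, fun a b d W ha hb hd => ?_⟩
  refine (he d).coord_unique hd ?_
  simp only [IsUnit.unit_spec]
  rw [← key a d W ha hd, mul_comm, mul_smul, ← key b d W hb hd, ← key a b W ha hb]

/-- Every invertible module on the limit comes from an invertible module on a stage. -/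
theorem exists_invertible_stage (hc : IsLimit c) (L : c.pt.Modules) (hL : PicF.IsInvertible L) :
    ∃ (i : I) (M : (D.obj i).Modules), PicF.IsInvertible M ∧
      Nonempty ((Scheme.Modules.pullback (c.π.app i)).obj M ≅ L) := by
  let 𝒥 := { W : c.pt.Opens // IsAffineOpen W ∧ ∃ e : Γ(L, W), IsFrame e }
  have hcov : IsOpenCover fun W : 𝒥 => W.1 := by
    refine top_le_iff.1 fun x _ => ?_
    obtain ⟨U, hx, e, he⟩ := exists_frame hL x
    obtain ⟨W, hW, hxW, hWU⟩ := Opens.isBasis_iff_nbhd.mp c.pt.isBasis_affineOpens hx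
    exact Opens.mem_iSup.2 ⟨⟨W, hW, _, he.res hWU⟩, hxW⟩
  obtain ⟨i, s, V, hV, hV'⟩ :=
    Scheme.exists_isOpenCover_and_isAffine D c hc (fun W : 𝒥 => W.1) hcov fun W => W.2.1
  have hVU : ∀ a, c.π.app i ⁻¹ᵁ V a ≤ a.1.1 := fun a => (hV' a).2.ge
  let e : ∀ a : s, Γ(L, c.π.app i ⁻¹ᵁ V a) := fun a => AModX.res L (hVU a) a.1.2.2.choose
  have he : ∀ a, IsFrame (e a) := fun a => a.1.2.2.choose_spec.res _
  obtain ⟨g, hg, hg3⟩ := exists_transition (fun a => c.π.app i ⁻¹ᵁ V a) e he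
  obtain ⟨j, t, ht⟩ := exists_cocycle hc V (fun a => (hV' a).1.isCompact)
    (fun a b => g a b) fun a b d =>
      hg3 a b d (c.π.app i ⁻¹ᵁ (V a ⊓ V b ⊓ V d))
        ((c.π.app i).preimage_mono (inf_le_left.trans inf_le_left))
        ((c.π.app i).preimage_mono (inf_le_left.trans inf_le_right))
        ((c.π.app i).preimage_mono inf_le_right)
  have hcovj : iSup (fun a => D.map j.hom ⁻¹ᵁ V a) = ⊤ := by
    rw [← Scheme.Hom.preimage_iSup, hV.iSup_eq_top]
    rfl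
  refine ⟨j.left, H23.CocycleMod.mod t, H23.CocycleMod.isInvertible t hcovj,
    nonempty_iso_of_transition (fun a => c.π.app i ⁻¹ᵁ V a) (fun x => ?_)
      (fun a => AModX.res _ (le_lim j) (pullElt (c.π.app j.left) (H23.CocycleMod.frame t a)))
      e (fun a => (isFrame_pullElt _ (H23.CocycleMod.isFrame_frame t a)).res _) he
      (fun a b => (g a b).val) (fun a b => ?_) hg⟩
  · obtain ⟨a, ha⟩ := hV.exists_mem (c.π.app i x)
    exact ⟨a, ha⟩
  have hle : c.π.app i ⁻¹ᵁ V a ⊓ c.π.app i ⁻¹ᵁ V b ≤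
      c.π.app j.left ⁻¹ᵁ (D.map j.hom ⁻¹ᵁ V a ⊓ D.map j.hom ⁻¹ᵁ V b) :=
    le_inf (inf_le_left.trans (le_lim j)) (inf_le_right.trans (le_lim j))
  have h := congrArg (fun z => AModX.res _ hle (pullElt (c.π.app j.left) z))
    (H23.CocycleMod.res_frame t a b)
  simp only [pullElt_smul, ← res_pullElt] at h
  rw [AModX.res_smul, AModX.res_res, AModX.res_res] at h
  rw [AModX.res_res, AModX.res_res]
  refine h.trans (congrArg (· • _) ?_)
  rw [← ht a b]
  show (((c.π.app j.left).app _) ≫ c.pt.presheaf.map (homOfLE hle).op) _ = _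
  rw [Scheme.Hom.app_eq_appLE]
  erw [Scheme.Hom.appLE_map]
  rfl

end Groth.Agent.PicFRel.InvApprox
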