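import Groth.Agent.PicFRel.CurveDivLocal
import Groth.Agent.FlatX.RelCartier
import Groth.Prelude.Def_Mor2
import Mathlib.AlgebraicGeometry.Morphisms.Smooth
import Mathlib.AlgebraicGeometry.Morphisms.QuasiFinite
import Mathlib.AlgebraicGeometry.Morphisms.FinitePresentation

/-!
# Relative effective divisors on smooth relative curves
-/

set_option autoImplicit false

universe u

open CategoryTheory AlgebraicGeometry Groth.Agent.FlatX
open scoped nonZeroDivisors

namespace Groth.Agent.PicFRel.CurveDiv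

variable {X S : Scheme.{u}} (f : X ⟶ S) (I : X.IdealSheafData)

lemma appLE_iff_quotApp (Q : ∀ {A B : Type u} [CommRing A] [CommRing B], (A →+* B) → Prop)
    (hQ : RingHom.RespectsIso Q) (W : S.affineOpens) (U : X.affineOpens)
    (e : U.1 ≤ f ⁻¹ᵁ W.1) :
    Q ((I.subschemeι ≫ f).appLE W.1 (I.subschemeι ⁻¹ᵁ U.1) (fun _ hy => e hy)).hom ↔
      Q (quotApp f I W U e) := by
  let ψ := (RingHom.quotientKerEquivOfSurjective (I.subschemeι_app_surjective U))
  let E := (Ideal.quotEquivOfEq (I.ker_subschemeι_app U)).symm.trans ψ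
  have h1 : ((I.subschemeι ≫ f).appLE W.1 (I.subschemeι ⁻¹ᵁ U.1) (fun _ hy => e hy)).hom =
      E.toRingHom.comp (quotApp f I W U e) := by
    rw [show (I.subschemeι ≫ f).appLE W.1 (I.subschemeι ⁻¹ᵁ U.1) (fun _ hy => e hy) =
      f.appLE W.1 U.1 e ≫ I.subschemeι.app U.1 by
        rw [Scheme.Hom.app_eq_appLE, Scheme.Hom.appLE_comp_appLE]]
    ext y
    rfl
  rw [h1]
  refine ⟨fun h => ?_, fun h => hQ.1 _ E h⟩
  have h' := hQ.1 _ E.symm h
  convert h' using 1
  ext y
  exact (E.symm_apply_apply _).symm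

lemma quotApp_of (P : MorphismProperty Scheme.{u})
    (Q : ∀ {A B : Type u} [CommRing A] [CommRing B], (A →+* B) → Prop)
    [HasRingHomProperty P Q] (h : P (I.subschemeι ≫ f)) (W : S.affineOpens) (U : X.affineOpens)
    (e : U.1 ≤ f ⁻¹ᵁ W.1) : Q (quotApp f I W U e) :=
  (appLE_iff_quotApp f I Q (HasRingHomProperty.isLocal_ringHomProperty P).respectsIso W U e).mp
    (HasRingHomProperty.appLE P _ h W ⟨_, U.2.preimage I.subschemeι⟩ _)

lemma of_quotApp (P : MorphismProperty Scheme.{u})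
    (Q : ∀ {A B : Type u} [CommRing A] [CommRing B], (A →+* B) → Prop)
    [HasRingHomProperty P Q] (hQs : RingHom.StableUnderCompositionWithLocalizationAwaySource Q)
    (h : ∀ x : X, ∃ (W : S.affineOpens) (U : X.affineOpens) (e : U.1 ≤ f ⁻¹ᵁ W.1),
      x ∈ U.1 ∧ Q (quotApp f I W U e)) : P (I.subschemeι ≫ f) := by
  have hQ := HasRingHomProperty.isLocal_ringHomProperty P (Q := Q)
  rw [HasRingHomProperty.iff_exists_appLE (P := P) hQs]
  intro d
  obtain ⟨W, U, e, hdU, hq⟩ := h (I.subschemeι d)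
  exact ⟨W, ⟨_, U.2.preimage I.subschemeι⟩, hdU, fun _ hy => e hy,
    (appLE_iff_quotApp f I Q hQ.respectsIso W U e).mpr hq⟩

/-- An affine chart on which `f` is standard smooth of relative dimension one. -/
def IsChart (W : S.affineOpens) (U : X.affineOpens) (e : U.1 ≤ f ⁻¹ᵁ W.1) : Prop :=
  RingHom.IsStandardSmoothOfRelativeDimension 1 (f.appLE W.1 U.1 e).hom

lemma exists_chart [SmoothOfRelativeDimension 1 f] (x : X) :
    ∃ (W : S.affineOpens) (U : X.affineOpens) (e : U.1 ≤ f ⁻¹ᵁ W.1), x ∈ U.1 ∧ IsChart f W U e := by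
  obtain ⟨W, hW, U, hU, hxU, e, h⟩ :=
    SmoothOfRelativeDimension.exists_isStandardSmoothOfRelativeDimension (n := 1) (f := f) x
  exact ⟨⟨W, hW⟩, ⟨U, hU⟩, e, hxU, h⟩

variable {f} in
lemma IsChart.basicOpen {W : S.affineOpens} {U : X.affineOpens} {e : U.1 ≤ f ⁻¹ᵁ W.1}
    (h : IsChart f W U e) (r : Γ(X, U.1)) :
    IsChart f W (X.affineBasicOpen r) ((X.basicOpen_le r).trans e) := by
  have := U.2.isLocalization_basicOpen r
  have hloc : RingHom.IsStandardSmoothOfRelativeDimension 0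
      (algebraMap Γ(X, U.1) Γ(X, X.basicOpen r)) :=
    RingHom.IsStandardSmoothOfRelativeDimension.algebraMap_isLocalizationAway r
  have := RingHom.IsStandardSmoothOfRelativeDimension.comp hloc h
  rw [zero_add] at this
  unfold IsChart
  rw [show f.appLE W.1 (X.affineBasicOpen r).1 ((X.basicOpen_le r).trans e) =
    f.appLE W.1 U.1 e ≫ X.presheaf.map (homOfLE (X.basicOpen_le r)).op from
    (Scheme.Hom.appLE_map _ _ _).symm]
  exact this

variable {f I}

lemma ideal_fg {W : S.affineOpens} {U : X.affineOpens} {e : U.1 ≤ f ⁻¹ᵁ W.1} (hU : IsChart f W U e)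
    (h : LocallyOfFinitePresentation (I.subschemeι ≫ f)) : (I.ideal U).FG := by
  have h1 := quotApp_of f I @LocallyOfFinitePresentation RingHom.FinitePresentation h W U e
  let : Algebra Γ(S, W.1) Γ(X, U.1) := (f.appLE W.1 U.1 e).hom.toAlgebra
  have : Algebra.IsStandardSmoothOfRelativeDimension 1 Γ(S, W.1) Γ(X, U.1) := hU
  have : Algebra.IsStandardSmooth Γ(S, W.1) Γ(X, U.1) :=
    Algebra.IsStandardSmoothOfRelativeDimension.isStandardSmooth 1
  have : Algebra.FinitePresentation Γ(S, W.1) (Γ(X, U.1) ⧸ I.ideal U) :=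
    RingHom.finitePresentation_algebraMap.mp h1
  have := Algebra.FinitePresentation.ker_fG_of_surjective (Ideal.Quotient.mkₐ Γ(S, W.1) (I.ideal U))
    Ideal.Quotient.mk_surjective
  erw [Ideal.mk_ker] at this
  exact this

/-- Near every point the ideal of a flat quasi-finite subscheme of a smooth relative curve has one
regular generator. -/
theorem isEffCartierIdeal [SmoothOfRelativeDimension 1 f]
    (hq : LocallyQuasiFinite (I.subschemeι ≫ f)) (hf : Flat (I.subschemeι ≫ f))
    (hp : LocallyOfFinitePresentation (I.subschemeι ≫ f)) : BlowUp.IsEffCartierIdeal I := by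
  intro x
  obtain ⟨W, U, e, hxU, hU⟩ := exists_chart f x
  have key : ∀ {V : X.affineOpens} {eV : V.1 ≤ f ⁻¹ᵁ W.1}, IsChart f W V eV →
      ∀ g, I.ideal V = Ideal.span {g} → g ∈ nonZeroDivisors Γ(X, V.1) := by
    intro V eV hV g hg
    let : Algebra Γ(S, W.1) Γ(X, V.1) := (f.appLE W.1 V.1 eV).hom.toAlgebra
    have : Algebra.IsStandardSmoothOfRelativeDimension 1 Γ(S, W.1) Γ(X, V.1) := hV
    have : Module.Flat Γ(S, W.1) (Γ(X, V.1) ⧸ Ideal.span {g}) := hg ▸
      RingHom.flat_algebraMap_iff.mp (quotApp_of f I @Flat RingHom.Flat hf W V eV)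
    have : Algebra.QuasiFinite Γ(S, W.1) (Γ(X, V.1) ⧸ Ideal.span {g}) := hg ▸
      RingHom.quasiFinite_algebraMap.mp
        (quotApp_of f I @LocallyQuasiFinite RingHom.QuasiFinite hq W V eV)
    exact mem_nonZeroDivisors_of_span (A := Γ(S, W.1)) g
  let : Algebra Γ(S, W.1) Γ(X, U.1) := (f.appLE W.1 U.1 e).hom.toAlgebra
  have : Algebra.IsStandardSmoothOfRelativeDimension 1 Γ(S, W.1) Γ(X, U.1) := hU
  have : Module.Flat Γ(S, W.1) (Γ(X, U.1) ⧸ I.ideal U) :=
    RingHom.flat_algebraMap_iff.mp (quotApp_of f I @Flat RingHom.Flat hf W U e)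
  have : Algebra.QuasiFinite Γ(S, W.1) (Γ(X, U.1) ⧸ I.ideal U) :=
    RingHom.quasiFinite_algebraMap.mp
      (quotApp_of f I @LocallyQuasiFinite RingHom.QuasiFinite hq W U e)
  obtain ⟨h, hh, g, hg, hgen⟩ := exists_local_gen (A := Γ(S, W.1)) (I.ideal U) (ideal_fg hU hp)
    (U.2.primeIdealOf ⟨x, hxU⟩).asIdeal
  have := U.2.isLocalization_basicOpen h
  have hxh : x ∈ X.basicOpen h := by
    rw [Scheme.mem_basicOpen X h x hxU]
    let := (X.presheaf.germ U.1 x hxU).hom.toAlgebra
    have := U.2.isLocalization_stalk ⟨x, hxU⟩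
    exact (IsLocalization.AtPrime.isUnit_to_map_iff (X.presheaf.stalk x)
      (U.2.primeIdealOf ⟨x, hxU⟩).asIdeal h).2 hh
  have hIV : I.ideal (X.affineBasicOpen h) =
      Ideal.span {algebraMap Γ(X, U.1) Γ(X, X.basicOpen h) g} := by
    refine (I.map_ideal_basicOpen U h).symm.trans (le_antisymm ?_ ?_)
    · refine Ideal.map_le_iff_le_comap.2 fun i hi => ?_
      obtain ⟨b, hb⟩ := hgen i hi
      rw [Ideal.mem_comap, ← Ideal.unit_mul_mem_iff_mem _
        (IsLocalization.map_units Γ(X, X.basicOpen h) (⟨h, Submonoid.mem_powers h⟩ : Submonoid.powers h))]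
      refine Ideal.mem_span_singleton.2 ⟨algebraMap _ _ b, ?_⟩
      show algebraMap Γ(X, U.1) Γ(X, X.basicOpen h) h * algebraMap Γ(X, U.1) Γ(X, X.basicOpen h) i = _
      rw [← map_mul, hb, map_mul, mul_comm]
    · exact Ideal.span_le.2 (Set.singleton_subset_iff.2 (Ideal.mem_map_of_mem _ hg))
  exact ⟨X.affineBasicOpen h, hxh, _, key (hU.basicOpen h) _ hIV, hIV⟩

/-- A flat effective Cartier divisor on a smooth relative curve is quasi-finite and finitely
presented over the base. -/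
theorem quasiFinite_and_fp [SmoothOfRelativeDimension 1 f]
    (hc : BlowUp.IsEffCartierIdeal I) (hf : Flat (I.subschemeι ≫ f)) :
    LocallyQuasiFinite (I.subschemeι ≫ f) ∧ LocallyOfFinitePresentation (I.subschemeι ≫ f) := by
  have key : ∀ x : X, ∃ (W : S.affineOpens) (U : X.affineOpens) (e : U.1 ≤ f ⁻¹ᵁ W.1),
      x ∈ U.1 ∧ (quotApp f I W U e).QuasiFinite ∧ (quotApp f I W U e).FinitePresentation := by
    intro x
    obtain ⟨W, U, e, hxU, hU⟩ := exists_chart f x
    obtain ⟨V, hxV, -, hV⟩ := exists_locGen hc (O := U.1) hxU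
    obtain ⟨a, a', ha, hxa⟩ := exists_basicOpen_le_affine_inter U.2 V.2 x ⟨hxU, hxV⟩
    have hab : X.affineBasicOpen a = X.affineBasicOpen a' := Subtype.ext ha
    obtain ⟨g, hg, hIg⟩ : LocGen I (X.affineBasicOpen a) := hab ▸ LocGen.basicOpen hV a'
    let eV := (X.basicOpen_le a).trans e
    let : Algebra Γ(S, W.1) Γ(X, (X.affineBasicOpen a).1) :=
      (f.appLE W.1 (X.affineBasicOpen a).1 eV).hom.toAlgebra
    have : Algebra.IsStandardSmoothOfRelativeDimension 1 Γ(S, W.1) Γ(X, (X.affineBasicOpen a).1) :=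
      hU.basicOpen a
    have : Algebra.IsStandardSmooth Γ(S, W.1) Γ(X, (X.affineBasicOpen a).1) :=
      Algebra.IsStandardSmoothOfRelativeDimension.isStandardSmooth 1
    have : Module.Flat Γ(S, W.1) (Γ(X, (X.affineBasicOpen a).1) ⧸ Ideal.span {g}) := hIg ▸
      RingHom.flat_algebraMap_iff.mp (quotApp_of f I @Flat RingHom.Flat hf W _ eV)
    refine ⟨W, X.affineBasicOpen a, eV, hxa, ?_, ?_⟩
    · exact RingHom.quasiFinite_algebraMap.mpr (hIg.symm ▸ quasiFinite_of_flat (A := Γ(S, W.1)) g hg)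
    · exact RingHom.finitePresentation_algebraMap.mpr
        (Algebra.FinitePresentation.quotient (hIg.symm ▸ Submodule.fg_span_singleton g))
  constructor
  · exact of_quotApp f I @LocallyQuasiFinite RingHom.QuasiFinite
      (RingHom.QuasiFinite.stableUnderComposition.stableUnderCompositionWithLocalizationAway
        RingHom.QuasiFinite.holdsForLocalizationAway).left fun x =>
      let ⟨W, U, e, hx, h, _⟩ := key x; ⟨W, U, e, hx, h⟩
  · exact of_quotApp f I @LocallyOfFinitePresentation RingHom.FinitePresentation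
      (RingHom.finitePresentation_stableUnderComposition.stableUnderCompositionWithLocalizationAway
        RingHom.finitePresentation_holdsForLocalizationAway).left fun x =>
      let ⟨W, U, e, hx, _, h⟩ := key x; ⟨W, U, e, hx, h⟩

theorem of_isFinLocFree [SmoothOfRelativeDimension 1 f]
    (h : Mor2.IsFinLocFree (I.subschemeι ≫ f)) :
    BlowUp.IsEffCartierIdeal I ∧ Flat (I.subschemeι ≫ f) := by
  obtain ⟨h1, h2, h3⟩ := h
  exact ⟨isEffCartierIdeal inferInstance h2 h3, h2⟩

end Groth.Agent.PicFRel.CurveDiv
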