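import Groth.Agent.PicFRel.InvApprox
import Groth.Agent.LimSm.Model
import Groth.Agent.LimSm.Flat
import Groth.Agent.ConsPropLib.CoreProper
import Groth.Agent.MorLib.BaseChangeLim

/-!
# Noetherian models of proper flat families with an invertible module

A proper flat morphism of finite presentation onto an affine scheme together with an invertible
module is the base change of such a pair over a Noetherian affine scheme.
-/

set_option autoImplicit false
set_option backward.isDefEq.respectTransparency false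
set_option backward.isDefEq.respectTransparency.types false
set_option linter.style.haveILetI false

universe u

open CategoryTheory CategoryTheory.Limits AlgebraicGeometry

namespace Groth.Agent.PicFRel.ProperModel

open Groth.Agent.MorLib Groth.Agent.ConsPropLib

/-- Noetherian model of a proper flat family with an invertible module. -/
theorem exists_model {X S : Scheme.{u}} [IsAffine S] (f : X ⟶ S) [IsProper f] [Flat f]
    [LocallyOfFinitePresentation f] (L : X.Modules) (hL : PicF.IsInvertible L) :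
    ∃ (S₀ X₀ : Scheme.{u}) (π : S ⟶ S₀) (f₀ : X₀ ⟶ S₀) (q : X ⟶ X₀) (L₀ : X₀.Modules),
      IsNoetherian S₀ ∧ IsAffine S₀ ∧ IsProper f₀ ∧ Flat f₀ ∧ IsPullback q f f₀ π ∧
        PicF.IsInvertible L₀ ∧ Nonempty ((Scheme.Modules.pullback q).obj L₀ ≅ L) := by
  obtain ⟨I, _, _, D, c, hc, e, hA, hN⟩ := exists_noetherian_limit S
  haveI := hA
  haveI : ∀ {i j : I} (f : i ⟶ j), IsAffineHom (D.map f) := fun f => isAffineHom_of_isAffine _
  let fc : X ⟶ c.pt := f ≫ e.inv
  haveI : IsProper fc := inferInstanceAs (IsProper (f ≫ e.inv))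
  haveI : Flat fc := inferInstanceAs (Flat (f ≫ e.inv))
  haveI : LocallyOfFinitePresentation fc := inferInstanceAs (LocallyOfFinitePresentation (f ≫ e.inv))
  obtain ⟨m, X₁, fm, gm, hm⟩ := hasModel hc fc
  haveI := hm.qc
  haveI := hm.qs
  haveI := hm.lfp
  obtain ⟨a, φa, ha⟩ := Desc.descend D c hc m (P := @IsProper) (Q := @LocallyOfFinitePresentation)
    core_isProper fm hm.lfp (Desc.of_two @IsProper hm.sq (IsPullback.of_hasPullback _ _) inferInstance)
  obtain ⟨b, φb, hb⟩ := Desc.descend D c hc m (P := @Flat) (Q := @LocallyOfFinitePresentation)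
    LimSm.core_flat fm hm.lfp (Desc.of_two @Flat hm.sq (IsPullback.of_hasPullback _ _) inferInstance)
  obtain ⟨k, α, β, -⟩ := IsCofilteredOrEmpty.cone_objs a b
  obtain ⟨i, γ, hγ⟩ : ∃ (i : I) (γ : i ⟶ k), γ ≫ α ≫ φa = γ ≫ β ≫ φb :=
    IsCofilteredOrEmpty.cone_maps (α ≫ φa) (β ≫ φb)
  haveI : ∀ j, CompactSpace (D.obj j) := fun j => inferInstance
  let xi := pullback.snd fm (D.map (γ ≫ α ≫ φa))
  have hM := hm.pushed (γ ≫ α ≫ φa)
  haveI : IsProper xi := Desc.of_factor @IsProper ha (a := D.map (γ ≫ α))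
    (by rw [← D.map_comp, Category.assoc]) (IsPullback.of_hasPullback _ _)
  haveI : Flat xi := Desc.of_factor @Flat hb (a := D.map (γ ≫ β))
    (by rw [← D.map_comp, Category.assoc, hγ]) (IsPullback.of_hasPullback _ _)
  haveI : CompactSpace ↥(pullback fm (D.map (γ ≫ α ≫ φa))) :=
    QuasiCompact.compactSpace_of_compactSpace xi
  haveI : QuasiSeparatedSpace ↥(pullback fm (D.map (γ ≫ α ≫ φa))) :=
    quasiSeparatedSpace_of_quasiSeparated xi
  obtain ⟨j, L₀, hL₀, ⟨ψ⟩⟩ := InvApprox.exists_invertible_stage (D := BC.diag D xi)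
    (c := BC.cone D xi hM.sq) (BC.isLimitCone D xi hM.sq hc) L hL
  exact ⟨D.obj j.left, _, e.inv ≫ c.π.app j.left, pullback.snd xi (D.map j.hom), _, L₀, hN _, hA _,
    MorphismProperty.pullback_snd _ _ inferInstance, MorphismProperty.pullback_snd _ _ inferInstance,
    (BC.isPullback_proj D xi hM.sq j).of_iso (Iso.refl _) (Iso.refl _) e (Iso.refl _)
      (by simp [BC.cone]) (by simp [fc]) (by simp) (by simp), hL₀, ⟨ψ⟩⟩

end Groth.Agent.PicFRel.ProperModel
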