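import Groth.Agent.HilbDLib.Diagonal
import Groth.Agent.DescLib.IdealDescent
import Mathlib.AlgebraicGeometry.Sites.Representability
import Mathlib.AlgebraicGeometry.Morphisms.FlatRank

/-!
# The Hilbert functor of points as a Zariski sheaf on all schemes
-/

set_option autoImplicit false
set_option linter.style.haveILetI false
set_option backward.isDefEq.respectTransparency false
set_option backward.isDefEq.respectTransparency.types false

universe u

open CategoryTheory CategoryTheory.Limits AlgebraicGeometry Opposite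

namespace Groth.Agent.PicFRel.HilbFam

section finLocFree

variable {P Q T T' : Scheme.{u}} {p : P ⟶ T} {fst : Q ⟶ P} {snd : Q ⟶ T'} {c : T' ⟶ T}

lemma isPullback_comap (H : IsPullback fst snd p c) (I : P.IdealSheafData) :
    IsPullback ((I.comapIso fst).hom ≫ pullback.snd fst I.subschemeι)
      ((I.comap fst).subschemeι ≫ snd) (I.subschemeι ≫ p) c := by
  refine IsPullback.paste_vert (IsPullback.of_iso (IsPullback.of_hasPullback fst I.subschemeι).flip
    (I.comapIso fst).symm (Iso.refl _) (Iso.refl _) (Iso.refl _) ?_ ?_ ?_ ?_) H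
  · simp only [Iso.symm_hom, Iso.refl_hom, Category.comp_id, Iso.inv_hom_id_assoc]
  · simp only [Iso.symm_hom, Iso.refl_hom, Category.comp_id,
      Scheme.IdealSheafData.comapIso_inv_subschemeι]
  · simp only [Iso.refl_hom, Category.comp_id, Category.id_comp]
  · simp only [Iso.refl_hom, Category.comp_id, Category.id_comp]

lemma finLocFreeOfDeg_comap (H : IsPullback fst snd p c) {d : ℕ} (I : P.IdealSheafData)
    (h : Mor2.IsFinLocFreeOfDeg d (I.subschemeι ≫ p)) :
    Mor2.IsFinLocFreeOfDeg d ((I.comap fst).subschemeι ≫ snd) := by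
  obtain ⟨⟨h1, h2, h3⟩, h4⟩ := h
  have G := isPullback_comap H I
  refine ⟨⟨MorphismProperty.of_isPullback (P := @IsFinite) G h1,
    MorphismProperty.of_isPullback (P := @Flat) G h2,
    MorphismProperty.of_isPullback (P := @LocallyOfFinitePresentation) G h3⟩, fun t => ?_⟩
  rw [Scheme.Hom.finrank_of_isPullback _ _ _ _ G]
  exact h4 _

lemma finLocFreeOfDeg_of_cover {d : ℕ} (p : P ⟶ T) (I : P.IdealSheafData) (𝒰 : T.OpenCover)
    {Q : 𝒰.I₀ → Scheme.{u}} (fst : ∀ i, Q i ⟶ P) (snd : ∀ i, Q i ⟶ 𝒰.X i)
    (H : ∀ i, IsPullback (fst i) (snd i) p (𝒰.f i))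
    (h : ∀ i, Mor2.IsFinLocFreeOfDeg d ((I.comap (fst i)).subschemeι ≫ snd i)) :
    Mor2.IsFinLocFreeOfDeg d (I.subschemeι ≫ p) := by
  let g := I.subschemeι ≫ p
  have e : ∀ i, pullback.snd g (𝒰.f i) =
      (isPullback_comap (H i) I).isoPullback.inv ≫ ((I.comap (fst i)).subschemeι ≫ snd i) :=
    fun i => (isPullback_comap (H i) I).isoPullback_inv_snd.symm
  have h1 : IsFinite g := IsZariskiLocalAtTarget.of_openCover (P := @IsFinite.{u}) 𝒰 fun i => by
    have := (h i).1.1
    show IsFinite (pullback.snd g (𝒰.f i))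
    rw [e]; infer_instance
  have h2 : Flat g := IsZariskiLocalAtTarget.of_openCover (P := @Flat.{u}) 𝒰 fun i => by
    have := (h i).1.2.1
    show Flat (pullback.snd g (𝒰.f i))
    rw [e]; infer_instance
  have h3 : LocallyOfFinitePresentation g :=
    IsZariskiLocalAtTarget.of_openCover (P := @LocallyOfFinitePresentation.{u}) 𝒰 fun i => by
      have := (h i).1.2.2
      show LocallyOfFinitePresentation (pullback.snd g (𝒰.f i))
      rw [e]; infer_instance
  refine ⟨⟨h1, h2, h3⟩, fun t => ?_⟩
  obtain ⟨i, y, rfl⟩ := 𝒰.exists_eq t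
  rw [← Scheme.Hom.finrank_of_isPullback _ _ g (𝒰.f i) (isPullback_comap (H i) I)]
  exact (h i).2 y

end finLocFree

variable {X S : Scheme.{u}} (f : X ⟶ S) (d : ℕ)

/-- A map `T ⟶ S` with a closed subscheme of `X ×_S T` finite locally free of degree `d`. -/
structure Fam (T : Scheme.{u}) where
  /-- the base point -/
  a : T ⟶ S
  /-- the ideal of the family -/
  I : (pullback f a).IdealSheafData
  h : Mor2.IsFinLocFreeOfDeg d (I.subschemeι ≫ pullback.snd f a)

variable {f d}

lemma Fam.comap_congr {T : Scheme.{u}} {x y : Fam f d T} (h : x = y) {Q : Scheme.{u}}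
    (u : Q ⟶ pullback f x.a) (v : Q ⟶ pullback f y.a)
    (h1 : u ≫ pullback.fst f x.a = v ≫ pullback.fst f y.a)
    (h2 : u ≫ pullback.snd f x.a = v ≫ pullback.snd f y.a) : x.I.comap u = y.I.comap v := by
  subst h
  rw [pullback.hom_ext h1 h2]

lemma Fam.ext' {T : Scheme.{u}} {x y : Fam f d T} (ha : x.a = y.a)
    (u : pullback f y.a ⟶ pullback f x.a)
    (h1 : u ≫ pullback.fst f x.a = pullback.fst f y.a)
    (h2 : u ≫ pullback.snd f x.a = pullback.snd f y.a) (hI : x.I.comap u = y.I) : x = y := by
  obtain ⟨a, I, h⟩ := x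
  obtain ⟨a', I', h'⟩ := y
  cases ha
  obtain rfl : u = 𝟙 _ := pullback.hom_ext (by rw [h1]; exact (Category.id_comp _).symm)
    (by rw [h2]; exact (Category.id_comp _).symm)
  rw [Scheme.IdealSheafData.comap_id] at hI
  dsimp only at hI
  cases hI
  rfl

/-- The map of fibre products along `c`. -/
noncomputable abbrev pm {T T' : Scheme.{u}} (c : T' ⟶ T) (a : T ⟶ S) :
    pullback f (c ≫ a) ⟶ pullback f a :=
  pullback.lift (pullback.fst f (c ≫ a)) (pullback.snd f (c ≫ a) ≫ c)
    (by rw [pullback.condition, Category.assoc])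

lemma isPullback_pm {T T' : Scheme.{u}} (c : T' ⟶ T) (a : T ⟶ S) :
    IsPullback (pm (f := f) c a) (pullback.snd f (c ≫ a)) (pullback.snd f a) c := by
  refine IsPullback.of_right ?_ (pullback.lift_snd _ _ _) (IsPullback.of_hasPullback f a).flip.flip
  rw [pullback.lift_fst]
  exact IsPullback.of_hasPullback f (c ≫ a)

variable (f d) in
/-- Base change of families. -/
noncomputable def mapFam {T T' : Scheme.{u}} (c : T' ⟶ T) (x : Fam f d T) : Fam f d T' :=
  ⟨c ≫ x.a, x.I.comap (pm c x.a), finLocFreeOfDeg_comap (isPullback_pm c x.a) x.I x.h⟩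

lemma mapFam_id {T : Scheme.{u}} (x : Fam f d T) : mapFam f d (𝟙 T) x = x := by
  refine Fam.ext' (Category.id_comp x.a)
    (pullback.lift (pullback.fst f x.a) (pullback.snd f x.a)
      (pullback.condition.trans (congrArg (_ ≫ ·) (Category.id_comp x.a).symm)))
    (pullback.lift_fst _ _ _) (pullback.lift_snd _ _ _) ?_
  simp only [mapFam, ← Scheme.IdealSheafData.comap_comp]
  conv_rhs => rw [← Scheme.IdealSheafData.comap_id x.I]
  congr 1
  apply pullback.hom_ext <;> simp [pm]

lemma mapFam_comp {T T' T'' : Scheme.{u}} (c : T' ⟶ T) (c' : T'' ⟶ T') (x : Fam f d T) :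
    mapFam f d (c' ≫ c) x = mapFam f d c' (mapFam f d c x) := by
  refine Fam.ext' (Category.assoc c' c x.a)
    (pullback.lift (pullback.fst f _) (pullback.snd f _)
      (pullback.condition.trans (congrArg (_ ≫ ·) (Category.assoc c' c x.a).symm)))
    (pullback.lift_fst _ _ _) (pullback.lift_snd _ _ _) ?_
  simp only [mapFam, ← Scheme.IdealSheafData.comap_comp]
  congr 1
  apply pullback.hom_ext <;> simp [pm]

variable (f d) in
/-- The functor of families. -/
noncomputable def functor : Scheme.{u}ᵒᵖ ⥤ Type u where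
  obj T := Fam f d T.unop
  map c := ↾(mapFam f d c.unop)
  map_id T := by
    ext x
    exact mapFam_id x
  map_comp c c' := by
    ext x
    exact mapFam_comp c.unop c'.unop x

theorem isSheaf_functor : Presieve.IsSheaf Scheme.zariskiTopology (functor f d) := by
  rw [Precoverage.isSheaf_toGrothendieck_iff_of_isStableUnderBaseChange]
  intro T R hR x hx
  obtain ⟨(𝒰 : T.OpenCover), rfl⟩ := Scheme.exists_cover_of_mem_pretopology hR
  let ξ : ∀ i, Fam f d (𝒰.X i) := fun i => x (𝒰.f i) (.mk i)
  have hc : ∀ i j, mapFam f d (pullback.fst (𝒰.f i) (𝒰.f j)) (ξ i) =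
      mapFam f d (pullback.snd (𝒰.f i) (𝒰.f j)) (ξ j) := fun i j =>
    hx _ _ (.mk i) (.mk j) pullback.condition
  let a : T ⟶ S := 𝒰.glueMorphisms (fun i => (ξ i).a) fun i j => congrArg Fam.a (hc i j)
  have ha : ∀ i, 𝒰.f i ≫ a = (ξ i).a := fun i => Scheme.Cover.ι_glueMorphisms 𝒰 _ _ i
  let q : ∀ i, pullback f (ξ i).a ⟶ pullback f a := fun i =>
    pullback.lift (pullback.fst f _) (pullback.snd f _ ≫ 𝒰.f i)
      (by rw [pullback.condition, Category.assoc, ha])
  have hq : ∀ i, IsPullback (q i) (pullback.snd f (ξ i).a) (pullback.snd f a) (𝒰.f i) := fun i => by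
    refine IsPullback.of_right ?_ (pullback.lift_snd _ _ _) (IsPullback.of_hasPullback f a).flip.flip
    rw [pullback.lift_fst, ha]
    exact IsPullback.of_hasPullback f (ξ i).a
  have hqf : ∀ i, q i ≫ pullback.fst f a = pullback.fst f (ξ i).a := fun i =>
    pullback.lift_fst _ _ _
  have hqo : ∀ i, IsOpenImmersion (q i) := fun i =>
    MorphismProperty.of_isPullback (P := @IsOpenImmersion) (hq i).flip inferInstance
  have hcov : Presieve.ofArrows (fun i => pullback f (ξ i).a) q ∈
      Scheme.fpqcPrecoverage (pullback f a) := by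
    refine Scheme.zariskiPrecoverage_le_fpqcPrecoverage _ ?_
    refine (Scheme.ofArrows_mem_precoverage_iff _).2 ⟨fun z => ?_, hqo⟩
    obtain ⟨i, y, hy⟩ := 𝒰.exists_eq (pullback.snd f a z)
    obtain ⟨w, hw, -⟩ := Scheme.exists_preimage_of_isPullback (hq i) z y hy.symm
    exact ⟨i, w, hw⟩
  have hov : ∀ i j, (ξ i).I.comap (pullback.fst (q i) (q j)) =
      (ξ j).I.comap (pullback.snd (q i) (q j)) := by
    intro i j
    let P := pullback (q i) (q j)
    let t : P ⟶ pullback (𝒰.f i) (𝒰.f j) :=
      pullback.lift (pullback.fst (q i) (q j) ≫ pullback.snd f (ξ i).a)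
        (pullback.snd (q i) (q j) ≫ pullback.snd f (ξ j).a) (by
          rw [Category.assoc, Category.assoc, ← (hq i).w, ← (hq j).w, pullback.condition_assoc])
    have hfst : pullback.fst (q i) (q j) ≫ pullback.fst f (ξ i).a =
        pullback.snd (q i) (q j) ≫ pullback.fst f (ξ j).a := by
      rw [← hqf i, ← hqf j, pullback.condition_assoc]
    let u : P ⟶ pullback f (pullback.fst (𝒰.f i) (𝒰.f j) ≫ (ξ i).a) :=
      pullback.lift (pullback.fst (q i) (q j) ≫ pullback.fst f (ξ i).a) t
        (by rw [Category.assoc, pullback.condition, ← Category.assoc t, pullback.lift_fst,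
          Category.assoc])
    let v : P ⟶ pullback f (pullback.snd (𝒰.f i) (𝒰.f j) ≫ (ξ j).a) :=
      pullback.lift (pullback.snd (q i) (q j) ≫ pullback.fst f (ξ j).a) t
        (by rw [Category.assoc, pullback.condition, ← Category.assoc t, pullback.lift_snd,
          Category.assoc])
    have := Fam.comap_congr (hc i j) u v
      (by simp only [mapFam, u, v, pullback.lift_fst, hfst])
      (by simp only [mapFam, u, v, pullback.lift_snd])
    simp only [mapFam, ← Scheme.IdealSheafData.comap_comp] at this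
    convert this using 2
    · apply pullback.hom_ext <;> simp [u, pm, t]
    · apply pullback.hom_ext <;> simp [v, pm, t]
  choose idx yidx hidx using fun t : T => 𝒰.exists_eq t
  have hcov' : Presieve.ofArrows (fun t : T => pullback f (ξ (idx t)).a) (fun t => q (idx t)) ∈
      Scheme.fpqcPrecoverage (pullback f a) := by
    refine Scheme.zariskiPrecoverage_le_fpqcPrecoverage _ ?_
    refine (Scheme.ofArrows_mem_precoverage_iff _).2 ⟨fun z => ?_, fun t => hqo _⟩
    obtain ⟨w, hw, -⟩ := Scheme.exists_preimage_of_isPullback (hq (idx (pullback.snd f a z))) z _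
      (hidx (pullback.snd f a z)).symm
    exact ⟨_, w, hw⟩
  obtain ⟨I, hI', huniq⟩ := DescLib.existsUnique_descend_fpqc (fun t => q (idx t)) hcov'
    (fun t => (ξ (idx t)).I) fun s t => hov _ _
  have hI : ∀ i, I.comap (q i) = (ξ i).I := fun i => by
    have := fun t => hqo (idx t)
    refine DescLib.eq_of_flat_family (fun t : T => pullback.fst (q i) (q (idx t))) (fun z => ?_)
      fun t => ?_
    · obtain ⟨w, hw, -⟩ := Scheme.exists_preimage_of_isPullback
        (hq (idx (pullback.snd f a (q i z)))) (q i z) _ (hidx (pullback.snd f a (q i z))).symm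
      obtain ⟨w', hw', -⟩ := Scheme.Pullback.exists_preimage_pullback (f := q i)
        (g := q (idx (pullback.snd f a (q i z)))) z w hw.symm
      exact ⟨_, w', hw'⟩
    · rw [hov i (idx t), ← hI' t, ← Scheme.IdealSheafData.comap_comp,
        ← Scheme.IdealSheafData.comap_comp, pullback.condition]
  have hd : Mor2.IsFinLocFreeOfDeg d (I.subschemeι ≫ pullback.snd f a) :=
    finLocFreeOfDeg_of_cover _ I 𝒰 q _ hq fun i => by rw [hI]; exact (ξ i).h
  refine ⟨⟨a, I, hd⟩, ?_, ?_⟩
  · rintro T' c ⟨i⟩
    refine Fam.ext' (ha i)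
      (pullback.lift (pullback.fst f _) (pullback.snd f _)
        (pullback.condition.trans (congrArg (_ ≫ ·) (ha i).symm)))
      (pullback.lift_fst _ _ _) (pullback.lift_snd _ _ _) ?_
    show (I.comap (pm (𝒰.f i) a)).comap _ = (ξ i).I
    rw [← Scheme.IdealSheafData.comap_comp, ← hI i]
    congr 1
    apply pullback.hom_ext
    · simp only [q, pm, Category.assoc, pullback.lift_fst]
      exact pullback.lift_fst _ _ _
    · simp only [q, pm, Category.assoc, pullback.lift_snd]
      exact (Category.assoc _ _ _).symm.trans (congrArg (· ≫ 𝒰.f i) (pullback.lift_snd _ _ _))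
  · intro y hy
    have hy' : ∀ i, mapFam f d (𝒰.f i) y = ξ i := fun i => hy (𝒰.f i) (.mk i)
    have hay : y.a = a := 𝒰.hom_ext _ _ fun i => (congrArg Fam.a (hy' i)).trans (ha i).symm
    let u : pullback f a ⟶ pullback f y.a := pullback.lift (pullback.fst f _) (pullback.snd f _)
      (pullback.condition.trans (congrArg (_ ≫ ·) hay.symm))
    refine Fam.ext' hay u (pullback.lift_fst _ _ _) (pullback.lift_snd _ _ _) ?_
    refine huniq _ fun t => ?_
    generalize idx t = i
    let v : pullback f (ξ i).a ⟶ pullback f (𝒰.f i ≫ y.a) :=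
      pullback.lift (pullback.fst f _) (pullback.snd f _)
        (pullback.condition.trans (congrArg (_ ≫ ·) (congrArg Fam.a (hy' i)).symm))
    have := Fam.comap_congr (hy' i) v (𝟙 _)
      (by simp [mapFam, v]) (by simp [mapFam, v])
    rw [Scheme.IdealSheafData.comap_id] at this
    simp only [mapFam, ← Scheme.IdealSheafData.comap_comp] at this ⊢
    rw [← this]
    congr 1
    apply pullback.hom_ext <;> simp [q, u, v, pm]

/-- The sheaf of families. -/
noncomputable def sheaf (f : X ⟶ S) (d : ℕ) : Sheaf Scheme.zariskiTopology.{u} (Type u) :=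
  ⟨functor f d, (isSheaf_iff_isSheaf_of_type _ _).2 isSheaf_functor⟩

/-- A representing scheme for families gives a universal object. -/
theorem representable_of_isRepresentable (h : (functor f d).IsRepresentable) :
    HilbD.Representable f d := by
  obtain ⟨H, ⟨r⟩⟩ := h
  let z : Fam f d H := r.homEquiv (𝟙 H)
  refine ⟨Over.mk z.a, ⟨z.I, z.h⟩, fun T Z => ?_⟩
  let ξ : Fam f d T.left := ⟨T.hom, Z.1, Z.2⟩
  have key : ∀ c : T.left ⟶ H, r.homEquiv c = mapFam f d c z := fun c => by
    have := r.homEquiv_comp c (𝟙 H)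
    rwa [Category.comp_id] at this
  obtain ⟨c, hc⟩ := r.homEquiv.surjective ξ
  have hc' : mapFam f d c z = ξ := (key c).symm.trans hc
  have hmap : ∀ (g : T ⟶ Over.mk z.a), ∀ w : pullback f T.hom ⟶ pullback f (g.left ≫ z.a),
      w ≫ pullback.fst f _ = pullback.fst f T.hom → w ≫ pullback.snd f _ = pullback.snd f T.hom →
      (mapFam f d g.left z).I.comap w = HilbD.pull f g z.I := by
    intro g w h1 h2
    rw [HilbDLib.pull_eq_comap]
    show (z.I.comap _).comap w = _
    rw [← Scheme.IdealSheafData.comap_comp]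
    congr 1
    apply pullback.hom_ext
    · simp [pm, h1, PicF.XTmap, pullback.map]
    · simp [pm, reassoc_of% h2, PicF.XTmap, pullback.map]
  let g₀ : T ⟶ Over.mk z.a := Over.homMk c (congrArg Fam.a hc')
  refine ⟨g₀, ?_, fun g hg => ?_⟩
  · let w : pullback f T.hom ⟶ pullback f (c ≫ z.a) := pullback.lift (pullback.fst f _)
      (pullback.snd f _) (pullback.condition.trans (congrArg (_ ≫ ·) (congrArg Fam.a hc').symm))
    show HilbD.pull f g₀ z.I = Z.1
    rw [← hmap g₀ w (pullback.lift_fst _ _ _) (pullback.lift_snd _ _ _)]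
    have := Fam.comap_congr hc' w (𝟙 (pullback f T.hom))
      (by simp [w, mapFam, ξ]) (by simp [w, mapFam, ξ])
    rw [Scheme.IdealSheafData.comap_id] at this
    exact this
  · refine Over.OverMorphism.ext ?_
    apply r.homEquiv.injective
    show r.homEquiv g.left = r.homEquiv c
    rw [hc, key]
    refine Fam.ext' (Over.w g)
      (pullback.lift (pullback.fst f _) (pullback.snd f _)
        (pullback.condition.trans (congrArg (_ ≫ ·) (Over.w g).symm)))
      (pullback.lift_fst _ _ _) (pullback.lift_snd _ _ _) ?_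
    rw [hmap g _ (pullback.lift_fst _ _ _) (pullback.lift_snd _ _ _)]
    exact hg

end Groth.Agent.PicFRel.HilbFam
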