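import Groth.Agent.PicFRel.HilbRing
import Groth.Agent.PicFRel.HilbFam
import Groth.Agent.HilbDLib.ClosedSub
import Mathlib.RingTheory.LocalRing.Module
import Mathlib.RingTheory.Support

/-!
# Charts of the Hilbert functor of points
-/

set_option autoImplicit false
set_option linter.style.haveILetI false
set_option backward.isDefEq.respectTransparency false
set_option backward.isDefEq.respectTransparency.types false

universe u

open CategoryTheory CategoryTheory.Limits AlgebraicGeometry TensorProduct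

namespace Groth.Agent.PicFRel.HilbChart

open HilbFam HilbRing

variable {X S : Scheme.{u}} {f : X ⟶ S} {d : ℕ}

lemma isPullback_of_eq {T T' : Scheme.{u}} (c : T' ⟶ T) (a : T ⟶ S) {a' : T' ⟶ S} (ha : a' = c ≫ a)
    (w : pullback f a' ⟶ pullback f a) (h1 : w ≫ pullback.fst f a = pullback.fst f a')
    (h2 : w ≫ pullback.snd f a = pullback.snd f a' ≫ c) :
    IsPullback w (pullback.snd f a') (pullback.snd f a) c := by
  subst ha
  obtain rfl : w = pm c a := pullback.hom_ext (h1.trans (pullback.lift_fst _ _ _).symm)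
    (h2.trans (pullback.lift_snd _ _ _).symm)
  exact isPullback_pm c a

lemma ker_comap_of_isPullback {P Z Q Y : Scheme.{u}} (s' : P ⟶ Q) (h : P ⟶ Z) (g : Q ⟶ Y)
    (s : Z ⟶ Y) [IsClosedImmersion s] (H : IsPullback s' h g s) : s.ker.comap g = s'.ker := by
  rw [← Scheme.IdealSheafData.ker_fst_of_isClosedImmersion, ← H.isoPullback_hom_fst,
    Scheme.Hom.ker_comp_of_isIso]

lemma specMap_appTop_apply {R T : CommRingCat.{u}} (φ : R ⟶ T) (x : R) :
    (Spec.map φ).appTop ((Scheme.ΓSpecIso R).inv x) = (Scheme.ΓSpecIso T).inv (φ x) :=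
  congr($(Scheme.ΓSpecIso_inv_naturality φ) x).symm

variable (f d) in
/-- A chart: affine opens `U ⊆ f⁻¹V` and `d` functions on `U`. -/
structure Chart where
  /-- open of the base -/
  V : S.affineOpens
  /-- open of the source -/
  U : X.affineOpens
  e : U.1 ≤ f ⁻¹ᵁ V.1
  /-- the functions -/
  b : Fin d → Γ(X, U.1)

variable (V : S.affineOpens) (U : X.affineOpens) (e : U.1 ≤ f ⁻¹ᵁ V.1)

/-- The ring map of a chart. -/
noncomputable abbrev eta : Γ(S, V.1) →+* Γ(X, U.1) := (f.appLE V.1 U.1 e).hom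

variable {C : Type u} [CommRing C] (ψ : Γ(S, V.1) →+* C) {D : Type u} [CommRing D] (j : C →+* D)
  (β : Γ(X, U.1) →+* D)

/-- The point of the base. -/
noncomputable def aOf : Spec (CommRingCat.of C) ⟶ S :=
  Spec.map (CommRingCat.ofHom ψ) ≫ V.2.fromSpec

/-- The map to `X`. -/
noncomputable def gOf : Spec (CommRingCat.of D) ⟶ X :=
  Spec.map (CommRingCat.ofHom β) ≫ U.2.fromSpec

lemma cond (w : β.comp (eta V U e) = j.comp ψ) :
    gOf U β ≫ f = Spec.map (CommRingCat.ofHom j) ≫ aOf V ψ := by
  rw [gOf, aOf, Category.assoc, ← IsAffineOpen.SpecMap_appLE_fromSpec f V.2 U.2 e,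
    ← Spec.map_comp_assoc, ← Spec.map_comp_assoc]
  congr 2
  ext1
  exact w

/-- The family as a morphism into the fibre product. -/
noncomputable def lOf (w : β.comp (eta V U e) = j.comp ψ) :
    Spec (CommRingCat.of D) ⟶ pullback f (aOf V ψ) :=
  pullback.lift (gOf U β) (Spec.map (CommRingCat.ofHom j)) (cond V U e ψ j β w)

variable (w : β.comp (eta V U e) = j.comp ψ)

lemma lOf_fst : lOf V U e ψ j β w ≫ pullback.fst f (aOf V ψ) = gOf U β := pullback.lift_fst _ _ _

lemma lOf_snd :
    lOf V U e ψ j β w ≫ pullback.snd f (aOf V ψ) = Spec.map (CommRingCat.ofHom j) :=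
  pullback.lift_snd _ _ _

/-- Base change of the data. -/
lemma isPullback_lOf {C' : Type u} [CommRing C'] [Algebra C C'] [Algebra C D]
    (hj : algebraMap C D = j)
    (w' : ((Algebra.TensorProduct.includeRight (R := C) (A := C') (B := D)).toRingHom.comp β).comp
        (eta V U e) =
      (Algebra.TensorProduct.includeLeftRingHom (R := C) (A := C') (B := D)).comp
        ((algebraMap C C').comp ψ))
    (m : pullback f (aOf V ((algebraMap C C').comp ψ)) ⟶ pullback f (aOf V ψ))
    (h1 : m ≫ pullback.fst f _ = pullback.fst f _)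
    (h2 : m ≫ pullback.snd f _ = pullback.snd f _ ≫ Spec.map (CommRingCat.ofHom (algebraMap C C'))) :
    IsPullback
      (lOf V U e ((algebraMap C C').comp ψ) Algebra.TensorProduct.includeLeftRingHom
        ((Algebra.TensorProduct.includeRight (R := C) (A := C') (B := D)).toRingHom.comp β) w')
      (Spec.map (CommRingCat.ofHom
        (Algebra.TensorProduct.includeRight (R := C) (A := C') (B := D)).toRingHom))
      m (lOf V U e ψ j β w) := by
  have ha : aOf V ((algebraMap C C').comp ψ) =
      Spec.map (CommRingCat.ofHom (algebraMap C C')) ≫ aOf V ψ := by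
    rw [aOf, aOf, ← Spec.map_comp_assoc]; rfl
  have hR := (isPullback_of_eq _ _ ha m h1 h2).flip
  have hout : IsPullback (Spec.map (CommRingCat.ofHom
      (Algebra.TensorProduct.includeLeftRingHom (R := C) (A := C') (B := D))))
      (Spec.map (CommRingCat.ofHom
        (Algebra.TensorProduct.includeRight (R := C) (A := C') (B := D)).toRingHom))
      (Spec.map (CommRingCat.ofHom (algebraMap C C'))) (Spec.map (CommRingCat.ofHom j)) := by
    subst hj
    exact isPullback_SpecMap_of_isPushout _ _ _ _ (CommRingCat.isPushout_tensorProduct C C' D)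
  refine IsPullback.of_right ?_ ?_ hR
  · rw [lOf_snd, lOf_snd]; exact hout
  · apply pullback.hom_ext
    · simp only [Category.assoc, h1, lOf_fst]
      rw [gOf, gOf, ← Spec.map_comp_assoc]
      rfl
    · simp only [Category.assoc, h2, lOf_snd, reassoc_of% (lOf_snd V U e ((algebraMap C C').comp ψ)
        Algebra.TensorProduct.includeLeftRingHom
        ((Algebra.TensorProduct.includeRight (R := C) (A := C') (B := D)).toRingHom.comp β) w')]
      exact hout.w

variable [IsSeparated f] (b : Fin d → Γ(X, U.1))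

lemma isClosedImmersion_lOf (hfin : j.Finite) (hspan : Function.Surjective (comb b j β)) :
    IsClosedImmersion (lOf V U e ψ j β w) := by
  have : IsFinite (Spec.map (CommRingCat.ofHom j)) := (IsFinite.SpecMap_iff _).mpr hfin
  have : IsFinite (lOf V U e ψ j β w ≫ pullback.snd f (aOf V ψ)) := by
    rw [lOf_snd]; infer_instance
  have : IsFinite (lOf V U e ψ j β w) := .of_comp _ (pullback.snd f (aOf V ψ))
  have : Mono (lOf V U e ψ j β w) := by
    refine ⟨fun {W} u v h => ext_of_isAffine ?_⟩
    have h1 := h =≫ pullback.fst f _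
    have h2 := h =≫ pullback.snd f _
    simp only [Category.assoc, lOf_fst, lOf_snd] at h1 h2
    rw [gOf, ← Category.assoc, ← Category.assoc, cancel_mono] at h1
    let ι := (Scheme.ΓSpecIso (CommRingCat.of D)).inv
    have e1 : ∀ x, u.appTop (ι (β x)) = v.appTop (ι (β x)) := fun x => by
      have := congrArg Scheme.Hom.appTop h1
      rw [Scheme.Hom.comp_appTop, Scheme.Hom.comp_appTop] at this
      have := congr($(this) ((Scheme.ΓSpecIso Γ(X, U.1)).inv x))
      rw [CommRingCat.comp_apply, CommRingCat.comp_apply] at this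
      erw [specMap_appTop_apply] at this
      exact this
    have e2 : ∀ x, u.appTop (ι (j x)) = v.appTop (ι (j x)) := fun x => by
      have := congrArg Scheme.Hom.appTop h2
      rw [Scheme.Hom.comp_appTop, Scheme.Hom.comp_appTop] at this
      have := congr($(this) ((Scheme.ΓSpecIso (CommRingCat.of C)).inv x))
      rw [CommRingCat.comp_apply, CommRingCat.comp_apply] at this
      erw [specMap_appTop_apply] at this
      exact this
    ext z
    obtain ⟨y, rfl⟩ : ∃ y, ι y = z := ⟨(Scheme.ΓSpecIso (CommRingCat.of D)).hom z,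
      CommRingCat.inv_hom_apply _ _⟩
    obtain ⟨v', rfl⟩ := hspan y
    simp only [comb, map_sum, map_mul, e1, e2]
  exact IsClosedImmersion.iff_isFinite_and_mono _ |>.mpr ⟨inferInstance, inferInstance⟩

/-- A point of a chart gives finite free rank `d` structure. -/
lemma finite_and_rank (hbij : Function.Bijective (comb b j β)) :
    j.Finite ∧ j.Flat ∧ (CommRingCat.ofHom j).hom.FinitePresentation ∧ ∀ x, j.finrank x = d := by
  let : Algebra C D := j.toAlgebra
  let L : (Fin d → C) ≃ₗ[C] D := LinearEquiv.ofBijective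
    { toFun := comb b j β
      map_add' := fun v v' => by
        simp only [comb, Pi.add_apply, map_add, add_mul, Finset.sum_add_distrib]
      map_smul' := fun c v => by
        simp only [comb, Pi.smul_apply, smul_eq_mul, map_mul, RingHom.id_apply, mul_assoc]
        rw [Algebra.smul_def, Finset.mul_sum]
        rfl } hbij
  have : Module.Free C D := .of_equiv L
  have hfin : Module.Finite C D := .equiv L
  have : Module.FinitePresentation C D := Module.finitePresentation_of_projective C D
  refine ⟨hfin, RingHom.flat_algebraMap_iff.mpr inferInstance,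
    RingHom.finitePresentation_algebraMap.mpr
      (Algebra.FinitePresentation.of_finitePresentation C D), fun x => ?_⟩
  rcases subsingleton_or_nontrivial C with hC | hC
  · exact (x.isPrime.ne_top (Subsingleton.elim _ _)).elim
  · show Module.rankAtStalk (R := C) D x = d
    rw [Module.rankAtStalk_eq_finrank_of_free]
    rw [← L.finrank_eq]
    simp

lemma finLocFreeOfDeg_lOf (hbij : Function.Bijective (comb b j β)) :
    Mor2.IsFinLocFreeOfDeg d ((lOf V U e ψ j β w).ker.subschemeι ≫ pullback.snd f (aOf V ψ)) := by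
  obtain ⟨h1, h2, h3, h4⟩ := finite_and_rank U j β b hbij
  have := isClosedImmersion_lOf V U e ψ j β w b h1 hbij.2
  rw [HilbDLib.finLocFreeOfDeg_ker, lOf_snd]
  refine ⟨⟨(IsFinite.SpecMap_iff _).mpr h1, Flat.SpecMap_iff.mpr h2,
    HasRingHomProperty.Spec_iff.mpr h3⟩, fun x => ?_⟩
  rw [Scheme.Hom.finrank_SpecMap_eq_finrank h1 h2]
  exact h4 x

variable {V U} (f) in
/-- The family of a point of a chart. -/
noncomputable def famOf {V : S.affineOpens} {U : X.affineOpens} (e : U.1 ≤ f ⁻¹ᵁ V.1)
    {b : Fin d → Γ(X, U.1)} (P : Pt (eta V U e) b C) : Fam f d (Spec (CommRingCat.of C)) :=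
  ⟨aOf V P.ψ, (lOf V U e P.ψ P.j P.β P.w).ker, finLocFreeOfDeg_lOf V U e _ _ _ P.w b P.bij⟩

variable {V U e b}

lemma isClosedImmersion_pt (P : Pt (eta V U e) b C) :
    IsClosedImmersion (lOf V U e P.ψ P.j P.β P.w) :=
  isClosedImmersion_lOf V U e _ _ _ P.w b (finite_and_rank U P.j P.β b P.bij).1 P.bij.2

theorem famOf_map (P : Pt (eta V U e) b C) {C' : Type u} [CommRing C'] (χ : C →+* C') :
    mapFam f d (Spec.map (CommRingCat.ofHom χ)) (famOf f e P) = famOf f e (P.map χ) := by
  have ha : Spec.map (CommRingCat.ofHom χ) ≫ aOf V P.ψ = aOf V (χ.comp P.ψ) := by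
    rw [aOf, aOf, ← Spec.map_comp_assoc]; rfl
  let u : pullback f (aOf V (χ.comp P.ψ)) ⟶
      pullback f (Spec.map (CommRingCat.ofHom χ) ≫ aOf V P.ψ) :=
    pullback.lift (pullback.fst f _) (pullback.snd f _)
      (pullback.condition.trans (congrArg (_ ≫ ·) ha.symm))
  refine Fam.ext' ha u (pullback.lift_fst _ _ _) (pullback.lift_snd _ _ _) ?_
  show ((lOf V U e P.ψ P.j P.β P.w).ker.comap (pm _ _)).comap u = _
  rw [← Scheme.IdealSheafData.comap_comp]
  have := isClosedImmersion_pt P
  let := χ.toAlgebra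
  let := P.j.toAlgebra
  exact ker_comap_of_isPullback _ _ _ _ (isPullback_lOf V U e P.ψ P.j P.β P.w (C' := C') rfl
    (P.w_map (C' := C') rfl) (u ≫ pm _ _)
    (by simp only [u, pm, Category.assoc, pullback.lift_fst]; rfl)
    (by simp only [u, pm, Category.assoc, pullback.lift_snd, pullback.lift_snd_assoc]; rfl))

omit [IsSeparated f] in
/-- Comparing two closed subschemes: an inclusion gives a map of rings. -/
lemma exists_hom_of_le {D' : Type u} [CommRing D'] (j' : C →+* D') (β' : Γ(X, U.1) →+* D')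
    (w' : β'.comp (eta V U e) = j'.comp ψ) [IsClosedImmersion (lOf V U e ψ j β w)]
    [IsClosedImmersion (lOf V U e ψ j' β' w')]
    (h : (lOf V U e ψ j β w).ker ≤ (lOf V U e ψ j' β' w').ker) :
    ∃ θ : D →+* D', θ.comp j = j' ∧ θ.comp β = β' ∧ Function.Surjective θ := by
  let l := lOf V U e ψ j β w
  let l' := lOf V U e ψ j' β' w'
  let t := IsClosedImmersion.lift l l' h
  have ht : t ≫ l = l' := IsClosedImmersion.lift_fac l l' h
  have : IsClosedImmersion (t ≫ l) := ht ▸ inferInstance
  have : IsClosedImmersion t := .of_comp t l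
  obtain ⟨φ, hφ⟩ : ∃ φ, Spec.map φ = t := ⟨Spec.preimage t, Spec.map_preimage t⟩
  refine ⟨φ.hom, ?_, ?_, ?_⟩
  · have := ht =≫ pullback.snd f _
    simp only [l, l', Category.assoc, lOf_snd, ← hφ, ← Spec.map_comp] at this
    exact congrArg CommRingCat.Hom.hom (Spec.map_inj.mp this)
  · have := ht =≫ pullback.fst f _
    simp only [l, l', Category.assoc, lOf_fst, gOf, ← hφ] at this
    rw [← Category.assoc, cancel_mono, ← Spec.map_comp] at this
    exact congrArg CommRingCat.Hom.hom (Spec.map_inj.mp this)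
  · have : IsClosedImmersion (Spec.map φ) := hφ ▸ inferInstance
    have := (IsClosedImmersion.isAffine_surjective_of_isAffine (Spec.map φ)).2
    intro y
    obtain ⟨z, hz⟩ := this ((Scheme.ΓSpecIso (CommRingCat.of D')).inv y)
    refine ⟨(Scheme.ΓSpecIso (CommRingCat.of D)).hom z, ?_⟩
    have := congr((Scheme.ΓSpecIso (CommRingCat.of D')).hom $hz)
    rw [← CommRingCat.comp_apply (Spec.map φ).appTop, Scheme.ΓSpecIso_naturality] at this
    rw [CommRingCat.hom_inv_apply] at this
    exact this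

/-- Two points with the same family have the same classifying map. -/
theorem classify_eq (P P' : Pt (eta V U e) b C) (h : famOf f e P = famOf f e P') :
    P.classify = P'.classify := by
  have ha : aOf V P.ψ = aOf V P'.ψ := congrArg Fam.a h
  have hψ : P.ψ = P'.ψ := by
    rw [aOf, aOf, cancel_mono] at ha
    exact congrArg CommRingCat.Hom.hom (Spec.map_inj.mp ha)
  obtain ⟨ψ₀, D₀, j₀, β₀, w₀, bij₀⟩ := P
  dsimp only at hψ
  subst hψ
  have := isClosedImmersion_pt (⟨P'.ψ, D₀, j₀, β₀, w₀, bij₀⟩ : Pt (eta V U e) b C)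
  have := isClosedImmersion_pt P'
  have hk := Fam.comap_congr h (𝟙 _) (𝟙 _) rfl rfl
  simp only [famOf, Scheme.IdealSheafData.comap_id] at hk
  obtain ⟨θ, hj, hβ, -⟩ := exists_hom_of_le P'.ψ j₀ β₀ w₀ P'.j P'.β P'.w hk.le
  exact Pt.classify_congr _ P' rfl θ hj hβ

omit [IsSeparated f] in
/-- A closed subscheme inside a chart as ring data. -/
theorem exists_data (ξ : Fam f d (Spec (CommRingCat.of C))) (ha : ξ.a = aOf V ψ)
    (hU : ∀ z ∈ ξ.I.support, pullback.fst f ξ.a z ∈ U.1) :
    ∃ (D : CommRingCat.{u}) (j : C →+* D) (β : Γ(X, U.1) →+* D)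
      (w : β.comp (eta V U e) = j.comp ψ) (u : pullback f (aOf V ψ) ⟶ pullback f ξ.a),
      u ≫ pullback.fst f ξ.a = pullback.fst f _ ∧ u ≫ pullback.snd f ξ.a = pullback.snd f _ ∧
      IsClosedImmersion (lOf V U e ψ j β w) ∧ ξ.I.comap u = (lOf V U e ψ j β w).ker ∧
      j.Finite ∧ j.Flat ∧ ∀ x, j.finrank x = d := by
  obtain ⟨⟨hfin, hfl, -⟩, hrk⟩ := ξ.h
  let g := ξ.I.subschemeι ≫ pullback.snd f ξ.a
  have : IsAffine ξ.I.subscheme := isAffine_of_isAffineHom g
  let D := Γ(ξ.I.subscheme, ⊤)
  let Z := ξ.I.subscheme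
  obtain ⟨φ, hφ⟩ : ∃ φ, Spec.map φ = Z.isoSpec.inv ≫ g := ⟨_, Spec.map_preimage _⟩
  have hr : Set.range (ξ.I.subschemeι ≫ pullback.fst f ξ.a) ⊆ Set.range U.2.fromSpec := by
    rintro _ ⟨z, rfl⟩
    rw [U.2.range_fromSpec]
    exact hU _ (ξ.I.range_subschemeι.le ⟨z, rfl⟩)
  obtain ⟨γ, hγ⟩ : ∃ γ, Spec.map γ = Z.isoSpec.inv ≫
      IsOpenImmersion.lift U.2.fromSpec _ hr := ⟨_, Spec.map_preimage _⟩
  have hgO : gOf U γ.hom = Z.isoSpec.inv ≫ ξ.I.subschemeι ≫ pullback.fst f ξ.a := by
    rw [gOf, CommRingCat.ofHom_hom, hγ, Category.assoc, IsOpenImmersion.lift_fac]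
  have hw : (γ.hom).comp (eta V U e) = (φ.hom).comp ψ := by
    have : Spec.map (f.appLE V.1 U.1 e ≫ γ) = Spec.map (CommRingCat.ofHom ψ ≫ φ) := by
      rw [← cancel_mono V.2.fromSpec, Spec.map_comp_assoc, Spec.map_comp_assoc,
        IsAffineOpen.SpecMap_appLE_fromSpec f V.2 U.2 e]
      calc Spec.map γ ≫ U.2.fromSpec ≫ f = gOf U γ.hom ≫ f := by
            rw [gOf, CommRingCat.ofHom_hom, Category.assoc]
        _ = Spec.map φ ≫ aOf V ψ := by
            rw [hgO, hφ, ← ha]
            simp only [g, Category.assoc, pullback.condition]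
        _ = _ := rfl
    exact congrArg CommRingCat.Hom.hom (Spec.map_inj.mp this)
  let u : pullback f (aOf V ψ) ⟶ pullback f ξ.a :=
    pullback.lift (pullback.fst f _) (pullback.snd f _)
      (pullback.condition.trans (congrArg (_ ≫ ·) ha.symm))
  let u' : pullback f ξ.a ⟶ pullback f (aOf V ψ) :=
    pullback.lift (pullback.fst f _) (pullback.snd f _)
      (pullback.condition.trans (congrArg (_ ≫ ·) ha))
  have huu' : u ≫ u' = 𝟙 _ := by apply pullback.hom_ext <;> simp [u, u']
  have hu'u : u' ≫ u = 𝟙 _ := by apply pullback.hom_ext <;> simp [u, u']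
  have : IsIso u := ⟨u', huu', hu'u⟩
  let l := lOf V U e ψ φ.hom γ.hom hw
  have hl : l ≫ u = Z.isoSpec.inv ≫ ξ.I.subschemeι := by
    apply pullback.hom_ext
    · simp only [l, u, Category.assoc, pullback.lift_fst, lOf_fst, hgO]
    · simp only [l, u, Category.assoc, pullback.lift_snd, lOf_snd, CommRingCat.ofHom_hom, hφ, g]
  have : IsClosedImmersion (l ≫ u) := hl ▸ inferInstance
  have hlc : IsClosedImmersion l := .of_comp l u
  have hφfin : IsFinite (Spec.map φ) := hφ ▸ (inferInstance : IsFinite (_ ≫ g))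
  have hφfl : Flat (Spec.map φ) := hφ ▸ (inferInstance : Flat (_ ≫ g))
  refine ⟨D, φ.hom, γ.hom, hw, u, pullback.lift_fst _ _ _, pullback.lift_snd _ _ _, hlc, ?_,
    (IsFinite.SpecMap_iff _).mp hφfin, Flat.SpecMap_iff.mp hφfl, fun x => ?_⟩
  · have hk : (l ≫ u).ker = ξ.I := by
      rw [hl, Scheme.Hom.ker_comp_of_isIso, Scheme.IdealSheafData.ker_subschemeι]
    refine (congrArg (Scheme.IdealSheafData.comap · u) hk.symm).trans ?_
    exact ker_comap_of_isPullback l (𝟙 _) u (l ≫ u) (IsPullback.of_vert_isIso ⟨by simp⟩)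
  · have := congrFun (Scheme.Hom.finrank_SpecMap_eq_finrank ((IsFinite.SpecMap_iff _).mp hφfin)
      (Flat.SpecMap_iff.mp hφfl)) x
    rw [← this, hφ, Scheme.Hom.finrank_comp_left_of_isIso]
    exact hrk x

end Groth.Agent.PicFRel.HilbChart
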