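import Groth.Agent.ExistEasy.PP.PullSec
import Groth.Agent.ThetaPow.ZeroIdeal
import Groth.Agent.JacTheta.Pic
import Groth.Agent.H23.TrivBasic
import Groth.Agent.ResSurf.PullIdeal
import Groth.Agent.H23.EndInv
import Groth.Agent.S8914

/-!
# Sections of invertible modules and their divisors
-/

set_option autoImplicit false
set_option linter.style.haveILetI false
set_option backward.isDefEq.respectTransparency false
set_option backward.isDefEq.respectTransparency.types false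

universe u

open CategoryTheory AlgebraicGeometry TopologicalSpace Opposite

noncomputable section

namespace Groth.Agent.PicFRel.DivSect

open Groth.Agent Groth.Agent.InvX Groth.Agent.JacTheta
open scoped Groth.Agent.H23.PicMul

variable {X Y W : Scheme.{u}} {L M : X.Modules}

/-- The pullback of a global section. -/
abbrev pullTop (q : Y ⟶ X) (s : Γ(L, ⊤)) : Γ((Scheme.Modules.pullback q).obj L, ⊤) :=
  InvX.pullElt q s

theorem pullTop_eq (q : Y ⟶ X) (s : Γ(L, ⊤)) :
    pullTop q s = QCoh.pullSec q L (le_refl (⊤ : Y.Opens)) s :=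
  (AModX.res_self (pullTop q s)).symm

theorem pullTop_comp (p : W ⟶ Y) (q : Y ⟶ X) (s : Γ(L, ⊤)) :
    ((Scheme.Modules.pullbackComp p q).hom.app L).app ⊤ (pullTop p (pullTop q s)) =
      pullTop (p ≫ q) s := by
  rw [pullTop_eq q, pullTop_eq p, pullTop_eq (p ≫ q)]
  exact ExistEasy.pullSec_comp p q L (le_refl (⊤ : Y.Opens)) (le_refl (⊤ : W.Opens)) s

theorem pullTop_comp_inv (p : W ⟶ Y) (q : Y ⟶ X) (s : Γ(L, ⊤)) :
    ((Scheme.Modules.pullbackComp p q).inv.app L).app ⊤ (pullTop (p ≫ q) s) =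
      pullTop p (pullTop q s) := by
  rw [← pullTop_comp p q s]
  show (((Scheme.Modules.pullbackComp p q).hom.app L) ≫
    ((Scheme.Modules.pullbackComp p q).inv.app L)).app ⊤ (pullTop p (pullTop q s)) = _
  rw [Iso.hom_inv_id_app]
  rfl

theorem pullTop_congr {q q' : Y ⟶ X} (h : q = q') (s : Γ(L, ⊤)) :
    ((Scheme.Modules.pullbackCongr h).hom.app L).app ⊤ (pullTop q s) = pullTop q' s := by
  subst h
  simp [Scheme.Modules.pullbackCongr]

theorem pullTop_natural (q : Y ⟶ X) (φ : L ⟶ M) (s : Γ(L, ⊤)) :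
    ((Scheme.Modules.pullback q).map φ).app ⊤ (pullTop q s) = pullTop q (φ.app ⊤ s) := by
  rw [pullTop_eq q, pullTop_eq q]
  exact ExistEasy.pullSec_natural q φ _ s

theorem pullTop_smul (q : Y ⟶ X) (c : Γ(X, ⊤)) (s : Γ(L, ⊤)) :
    pullTop q (c • s) = q.appTop c • pullTop q s :=
  H23.EndInv.pullElt_smul q c s

theorem res_pullTop (q : Y ⟶ X) (s : Γ(L, ⊤)) (U : X.Opens) :
    AModX.res _ (le_top : q ⁻¹ᵁ U ≤ ⊤) (pullTop q s) =
      InvX.pullElt q (AModX.res L (le_top : U ≤ ⊤) s) :=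
  InvX.res_pullElt q le_top s

theorem app_injective (φ : L ≅ M) (U : X.Opens) : Function.Injective (φ.hom.app U) := fun a b h => by
  have h' := congrArg (φ.inv.app U) h
  have e : ∀ z, φ.inv.app U (φ.hom.app U z) = z := fun z => by
    show (φ.hom ≫ φ.inv).app U z = z
    rw [φ.hom_inv_id]
    rfl
  rwa [e, e] at h'

/-- The divisor of a section. -/
def Z (s : Γ(L, ⊤)) : X.IdealSheafData := PicF2.zeroScheme L (ofSect s)

theorem sv_ofSect (s : Γ(L, ⊤)) (U : X.Opens) :
    ZeroSchX.sv (ofSect s) U = AModX.res L (le_top : U ≤ ⊤) s := by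
  show (ofSect s).app U (1 : Γ(X, U)) = _
  refine (app_eq_smul (ofSect s) (1 : Γ(X, U))).trans ?_
  rw [one_smul, one_ofSect]

theorem ideal_Z (hL : PicF.IsInvertible L) (s : Γ(L, ⊤)) (U : X.affineOpens) {e : Γ(L, U.1)}
    (he : IsFrame e) {c : Γ(X, U.1)} (hc : AModX.res L (le_top : U.1 ≤ ⊤) s = c • e) :
    (Z s).ideal U = Ideal.span {c} := by
  rw [Z, ZeroSchX.ideal_zeroScheme hL,
    ZeroSchX.zeroIdealOn_eq_span _ he ((sv_ofSect s U.1).trans hc)]

theorem exists_coordinate (hL : PicF.IsInvertible L) (s : Γ(L, ⊤)) {x : X} {O : X.Opens} (hx : x ∈ O) :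
    ∃ (U : X.affineOpens) (e : Γ(L, U.1)) (c : Γ(X, U.1)), x ∈ U.1 ∧ U.1 ≤ O ∧ IsFrame e ∧
      AModX.res L (le_top : U.1 ≤ ⊤) s = c • e := by
  obtain ⟨V, hxV, e₀, he₀⟩ := InvX.exists_frame hL x
  obtain ⟨U, hU, hxU, hUle⟩ :=
    exists_isAffineOpen_mem_and_subset (X := X) (x := x) (U := V ⊓ O) ⟨hxV, hx⟩
  have he := he₀.res (hUle.trans inf_le_left)
  obtain ⟨c, hc⟩ := he.exists_coord le_rfl (AModX.res L (le_top : U ≤ ⊤) s)
  rw [AModX.res_self] at hc
  exact ⟨⟨U, hU⟩, _, c, hxU, hUle.trans inf_le_right, he, hc⟩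

theorem Z_map_iso (hL : PicF.IsInvertible L) (φ : L ≅ M) (s : Γ(L, ⊤)) :
    Z (φ.hom.app ⊤ s) = Z s := by
  have hM : PicF.IsInvertible M := H23.PicMul.isInvertible_of_iso φ hL
  choose U e c hxU _ he hc using fun x : X => exists_coordinate hL s (x := x) (O := ⊤) trivial
  refine Scheme.IdealSheafData.ext_of_iSup_eq_top U
    (top_unique fun x _ => Opens.mem_iSup.2 ⟨x, hxU x⟩) fun x => ?_
  rw [ideal_Z hL s (U x) (he x) (hc x), ideal_Z hM _ (U x) ((he x).map_iso φ)]
  rw [← AModX.app_res φ.hom, hc, Scheme.Modules.Hom.app_smul]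

theorem Z_smul (hL : PicF.IsInvertible L) {r : Γ(X, ⊤)} (hr : IsUnit r) (s : Γ(L, ⊤)) :
    Z (r • s) = Z s := by
  choose U e c hxU _ he hc using fun x : X => exists_coordinate hL s (x := x) (O := ⊤) trivial
  refine Scheme.IdealSheafData.ext_of_iSup_eq_top U
    (top_unique fun x _ => Opens.mem_iSup.2 ⟨x, hxU x⟩) fun x => ?_
  rw [ideal_Z hL s (U x) (he x) (hc x),
    ideal_Z hL (r • s) (U x) (he x) (c := AModX.resR (le_top : (U x).1 ≤ ⊤) r * c x)
      (by rw [AModX.res_smul, hc, mul_smul])]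
  exact Ideal.span_singleton_mul_left_unit (hr.map _) _

theorem comap_Z (hL : PicF.IsInvertible L) (q : Y ⟶ X) (s : Γ(L, ⊤)) :
    (Z s).comap q = Z (pullTop q s) := by
  choose U e c hxU _ he hc using fun y : Y => exists_coordinate hL s (x := q y) (O := ⊤) trivial
  choose V hV hyV hVU using fun y : Y =>
    exists_isAffineOpen_mem_and_subset (X := Y) (x := y) (U := q ⁻¹ᵁ (U y).1) (hxU y)
  refine Scheme.IdealSheafData.ext_of_iSup_eq_top (fun y => ⟨V y, hV y⟩)
    (top_unique fun y _ => Opens.mem_iSup.2 ⟨y, hyV y⟩) fun y => ?_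
  rw [ModPairLib.ideal_comap (Z s) q (U y) ⟨V y, hV y⟩ (hVU y), ideal_Z hL s (U y) (he y) (hc y),
    Ideal.map_span, Set.image_singleton,
    ideal_Z (PicClLib.isInvertible_pullback q hL) _ ⟨V y, hV y⟩ ((isFrame_pullElt q (he y)).res (hVU y))
      (c := q.appLE (U y).1 (V y) (hVU y) (c y))]
  rw [← AModX.res_res (le_top : q ⁻¹ᵁ (U y).1 ≤ ⊤) (hVU y), res_pullTop, hc,
    H23.EndInv.pullElt_smul, AModX.res_smul]
  rfl

/-- A section of an invertible module over an integral scheme vanishing on a nonempty open is zero. -/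
theorem eq_zero_of_res [IsIntegral X] (hL : PicF.IsInvertible L) (s : Γ(L, ⊤)) {V : X.Opens}
    [Nonempty V] (h : AModX.res L (le_top : V ≤ ⊤) s = 0) : s = 0 := by
  refine AModX.eq_of_locally _ _ fun x _ => ?_
  obtain ⟨U, e, c, hxU, -, he, hc⟩ := exists_coordinate hL s (x := x) (O := ⊤) trivial
  refine ⟨U.1, le_top, hxU, ?_⟩
  have hne : Nonempty (U.1 ⊓ V : X.Opens) :=
    (nonempty_preirreducible_inter U.1.isOpen V.isOpen ⟨x, hxU⟩
      (Set.nonempty_coe_sort.1 ‹Nonempty V›)).to_subtype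
  have h1 := congrArg (AModX.res L (inf_le_right : U.1 ⊓ V ≤ V)) h
  rw [AModX.res_res, map_zero, ← AModX.res_res (le_top : U.1 ≤ ⊤) (inf_le_left : U.1 ⊓ V ≤ U.1), hc,
    AModX.res_smul] at h1
  have h2 : AModX.resR (inf_le_left : U.1 ⊓ V ≤ U.1) c = 0 :=
    he.coord_unique inf_le_left (h1.trans (zero_smul _ _).symm)
  rw [hc, map_zero,
    show c = 0 from map_injective_of_isIntegral X (homOfLE (inf_le_left : U.1 ⊓ V ≤ U.1))
      (h2.trans (map_zero _).symm), zero_smul]

theorem ofSect_ne_zero {s : Γ(L, ⊤)} (hs : s ≠ 0) : ofSect s ≠ 0 := fun h => hs <| by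
  rw [← one_ofSect s, h]
  rfl

/-- The class `O(I)` of an effective Cartier divisor. -/
def OD (I : X.IdealSheafData) (hI : BlowUp.IsEffCartierIdeal I) : LB X :=
  (lb (ClSub.idealMod I) ((S8914.result I).2 hI))⁻¹

theorem OD_congr {I J : X.IdealSheafData} (h : I = J) (hI : BlowUp.IsEffCartierIdeal I) :
    OD I hI = OD J (h ▸ hI) := by
  subst h; rfl

theorem pull_OD (q : Y ⟶ X) {I : X.IdealSheafData} (hI : BlowUp.IsEffCartierIdeal I)
    (hI' : BlowUp.IsEffCartierIdeal (I.comap q)) : LB.pull q (OD I hI) = OD (I.comap q) hI' := by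
  rw [OD, map_inv]
  refine congrArg (·⁻¹) (Units.ext ?_)
  rw [LB.pull_val, lb_val, lb_val]
  obtain ⟨e⟩ := ResSurf.PullIdeal.nonempty_pullback_idealMod q I hI hI'
  exact (PicGrp.cl_eq_cl_iff _ _).2 ⟨e⟩

theorem OD_comap (q : Y ⟶ X) {I : X.IdealSheafData} {J : Y.IdealSheafData} (h : J = I.comap q)
    (hI : BlowUp.IsEffCartierIdeal I) (hJ : BlowUp.IsEffCartierIdeal J) :
    OD J hJ = LB.pull q (OD I hI) := by
  subst h
  rw [pull_OD q hI hJ]

theorem cl_mul_eq_one_iff (hL : PicF.IsInvertible L) {I : X.IdealSheafData}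
    (hI : BlowUp.IsEffCartierIdeal I) :
    (OD I hI : PicF.Cl X) = PicF.cl L ↔ PicF.cl L * PicF.cl (ClSub.idealMod I) = 1 := by
  rw [show PicF.cl L = (lb L hL : PicF.Cl X) from (lb_val L hL).symm, Units.val_inj,
    show PicF.cl (ClSub.idealMod I) = (lb _ ((S8914.result I).2 hI) : PicF.Cl X) from (lb_val _ _).symm,
    ← Units.val_mul, Units.val_eq_one, mul_eq_one_iff_eq_inv, OD]
  exact eq_comm

/-- A section of an invertible module whose divisor is effective Cartier defines that class. -/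
theorem OD_Z (hL : PicF.IsInvertible L) (s : Γ(L, ⊤)) (hI : BlowUp.IsEffCartierIdeal (Z s)) :
    (OD (Z s) hI : PicF.Cl X) = PicF.cl L := by
  rw [cl_mul_eq_one_iff hL, mul_comm, ← H23.PicMul.cl_tensor]
  exact H23.PicMul.cl_eq_iff.2 (ThetaPow.nonempty_idealMod_zeroScheme' hL (ofSect s) hI)

/-- Every effective Cartier divisor is the divisor of a section. -/
theorem exists_sect {I : X.IdealSheafData} (hI : BlowUp.IsEffCartierIdeal I) (hL : PicF.IsInvertible L)
    (hcl : (OD I hI : PicF.Cl X) = PicF.cl L) : ∃ s : Γ(L, ⊤), Z s = I := by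
  have h1 := (cl_mul_eq_one_iff hL hI).1 hcl
  rw [← H23.PicMul.cl_tensor] at h1
  obtain ⟨φ⟩ := H23.PicMul.cl_eq_iff.1 h1
  let val : ∀ {U : X.Opens}, Γ(L, U) → Γ(ClSub.idealMod I, U) → Γ(X, U) := fun {U} t k =>
    φ.hom.app U (tmul t k)
  have val_smul : ∀ {U : X.Opens} (r r' : Γ(X, U)) (t : Γ(L, U)) (k : Γ(ClSub.idealMod I, U)),
      val (r • t) (r' • k) = r * (r' * val t k) := fun {U} r r' t k => by
    show (show Γ(X, U) from φ.hom.app U (tmul (r • t) (r' • k))) = _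
    rw [tmul_smul_left, tmul_smul_right, Scheme.Modules.Hom.app_smul, Scheme.Modules.Hom.app_smul]
    rfl
  have val_res : ∀ {U V : X.Opens} (h : V ≤ U) (t : Γ(L, U)) (k : Γ(ClSub.idealMod I, U)),
      val (AModX.res L h t) (AModX.res _ h k) = AModX.resR h (val t k) := fun {U V} h t k => by
    show φ.hom.app V _ = _
    rw [← res_tmul]
    exact AModX.app_res φ.hom h _
  have loc : ∀ x : X, ∃ (U : X.affineOpens) (_ : x ∈ U.1) (e : Γ(L, U.1))
      (k : Γ(ClSub.idealMod I, U.1)) (c : Γ(X, U.1)), IsFrame e ∧ IsFrame k ∧ val e k = 1 ∧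
        I.ideal U = Ideal.span {c} ∧ OmegaSh.idealSect I U.1 k = c := fun x => by
    obtain ⟨U₀, hxU₀, f, hf, hIf⟩ := hI x
    obtain ⟨V₀, hxV₀, e₀, he₀⟩ := InvX.exists_frame hL x
    obtain ⟨b, hbV, hxb⟩ := U₀.2.exists_basicOpen_le (V := V₀) ⟨x, hxV₀⟩ hxU₀
    let U := X.affineBasicOpen b
    let c : Γ(X, U.1) := algebraMap Γ(X, U₀.1) Γ(X, X.basicOpen b) f
    have hIc : I.ideal U = Ideal.span {c} := by
      refine (I.map_ideal_basicOpen U₀ b).symm.trans ?_
      rw [hIf, Ideal.map_span, Set.image_singleton]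
      rfl
    obtain ⟨k, hk⟩ := OmegaLib.exists_of_mem I U c (hIc ▸ Ideal.mem_span_singleton_self c)
    have hkf : IsFrame k := SurfInt.isFrame_of_generator hI hIc hk
    have hUV : U.1 ≤ V₀ := hbV
    let e : Γ(L, U.1) := AModX.res L hUV e₀
    have he : IsFrame e := he₀.res _
    obtain ⟨v, hv⟩ : IsUnit (val e k) := by
      have hf' := (IsFrame.map_iso φ (isFrame_tmul he hkf)) U.1 le_rfl
      obtain ⟨r, hr⟩ := hf'.2 (show Γ(Coh.structureModule X, U.1) from (1 : Γ(X, U.1)))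
      rw [AModX.res_self] at hr
      exact IsUnit.of_mul_eq_one_right r hr
    refine ⟨U, hxb, (↑v⁻¹ : Γ(X, U.1)) • e, k, c, he.isUnit_smul v⁻¹.isUnit, hkf, ?_, hIc, hk⟩
    conv_lhs => rw [← one_smul Γ(X, U.1) k]
    rw [val_smul, one_mul, ← hv, Units.inv_mul]
  choose U hxU e k c he hk hval hIc hsect using loc
  obtain ⟨s, hs, -⟩ := AModX.existsUnique_glue (M := L) (V := ⊤) (fun x => (U x).1) (fun _ => le_top)
    (fun x _ => ⟨x, hxU x⟩) (fun x => c x • e x) fun a b => by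
      let O := (U a).1 ⊓ (U b).1
      have ha : O ≤ (U a).1 := inf_le_left
      have hb : O ≤ (U b).1 := inf_le_right
      obtain ⟨r, hr⟩ := (he a).exists_coord ha (AModX.res L hb (e b))
      obtain ⟨g, hg⟩ := (hk a).exists_coord ha (AModX.res _ hb (k b))
      have hc' : AModX.resR hb (c b) = g * AModX.resR ha (c a) := by
        rw [← hsect a, ← hsect b]
        refine (OmegaLib.idealSect_map I hb (k b)).symm.trans ?_
        refine (congrArg (OmegaSh.idealSect I O) hg).trans ?_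
        rw [OmegaLib.idealSect_smul]
        congr 1
        exact OmegaLib.idealSect_map I ha (k a)
      have hrg : r * g = 1 := by
        have := val_res hb (e b) (k b)
        rw [hr, hg, val_smul, val_res, hval, hval, map_one, map_one, mul_one] at this
        exact this
      rw [AModX.res_smul, AModX.res_smul, hc', hr, smul_smul, mul_right_comm, mul_comm g r, hrg, one_mul]
  refine ⟨s, Scheme.IdealSheafData.ext_of_iSup_eq_top U
    (top_unique fun x _ => Opens.mem_iSup.2 ⟨x, hxU x⟩) fun x => ?_⟩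
  rw [hIc x, ideal_Z hL s (U x) (he x) (hs x)]

end Groth.Agent.PicFRel.DivSect
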