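import Groth.Agent.PicFRel.SectGen
import Groth.Agent.PicFRel.ProperModel
import Groth.Agent.PicFRel.DivSect
import Groth.Agent.JacTheta.Curve
import Groth.Agent.CurveBC.Coh
import Groth.Agent.S0002

/-!
# Points where an invertible module has one section and no first cohomology on the fibre
-/

set_option autoImplicit false
set_option linter.style.haveILetI false
set_option linter.overlappingInstances false
set_option linter.unusedSectionVars false
set_option backward.isDefEq.respectTransparency false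
set_option backward.isDefEq.respectTransparency.types false

universe u

open CategoryTheory CategoryTheory.Limits AlgebraicGeometry TopologicalSpace

noncomputable section

namespace Groth.Agent.PicFRel.PicGood

open Groth.Agent Groth.Agent.JacTheta Groth.Agent.PicFRel.DivSect

variable {Y T : Scheme.{u}}

/-- The dimension of the cohomology of a class on a fibre. -/
def fibHh (p : Y ⟶ T) (t : T) (i : ℕ) (c : PicF.Cl Y) : ℕ :=
  letI : (p.fiber t).Over (Spec (CommRingCat.of (T.residueField t))) := ⟨p.fiberToSpecResidueField t⟩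
  hh (T.residueField t) i (PicF.pullCl (p.fiberι t) c)

/-- One section and no first cohomology on the fibre. -/
def GoodAt (p : Y ⟶ T) (c : PicF.Cl Y) (t : T) : Prop :=
  fibHh p t 0 c = 1 ∧ fibHh p t 1 c = 0

theorem hh_eq_fibHh (p : Y ⟶ T) [QuasiCompact p] [QuasiSeparated p] {c : PicF.Cl Y}
    (hc : PicF.IsInvertibleCl c) (t : T) {K : Type u} [Field K] {Y' : Scheme.{u}} (q : Y' ⟶ Y)
    (p' : Y' ⟶ Spec (CommRingCat.of K)) (x : Spec (CommRingCat.of K) ⟶ T) (hsq : IsPullback q p' p x)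
    (hx : x (IsLocalRing.closedPoint K) = t) (i : ℕ) :
    letI : Y'.Over (Spec (CommRingCat.of K)) := ⟨p'⟩
    hh K i (PicF.pullCl q c) = fibHh p t i c := by
  subst hx
  obtain ⟨φ, hfac⟩ : ∃ φ : T.residueField (x (IsLocalRing.closedPoint K)) ⟶ CommRingCat.of K,
      Spec.map φ ≫ T.fromSpecResidueField (x (IsLocalRing.closedPoint K)) = x :=
    ⟨_, Scheme.descResidueField_stalkClosedPointTo_fromSpecResidueField K T x⟩
  generalize x (IsLocalRing.closedPoint K) = t at φ hfac
  letI : Algebra (T.residueField t) K := φ.hom.toAlgebra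
  letI : Y'.Over (Spec (CommRingCat.of K)) := ⟨p'⟩
  letI : (p.fiber t).Over (Spec (CommRingCat.of (T.residueField t))) := ⟨p.fiberToSpecResidueField t⟩
  haveI : QuasiCompact (p.fiber t ↘ Spec (CommRingCat.of (T.residueField t))) :=
    MorphismProperty.pullback_snd (P := @QuasiCompact) _ _ inferInstance
  haveI : QuasiSeparated (p.fiber t ↘ Spec (CommRingCat.of (T.residueField t))) :=
    MorphismProperty.pullback_snd (P := @QuasiSeparated) _ _ inferInstance
  haveI : CompactSpace (p.fiber t) :=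
    QuasiCompact.compactSpace_of_compactSpace (p.fiber t ↘ Spec (CommRingCat.of (T.residueField t)))
  haveI : QuasiSeparatedSpace (p.fiber t) :=
    quasiSeparatedSpace_of_quasiSeparated
      (p.fiber t ↘ Spec (CommRingCat.of (T.residueField t)))
  let m : Y' ⟶ p.fiber t := pullback.lift q (p' ≫ Spec.map φ) (by rw [Category.assoc, hfac, hsq.w])
  have hm1 : m ≫ p.fiberι t = q := pullback.lift_fst _ _ _
  have hm2 : m ≫ p.fiberToSpecResidueField t = p' ≫ Spec.map φ := pullback.lift_snd _ _ _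
  have hpb : IsPullback m (Y' ↘ Spec (CommRingCat.of K))
      (p.fiber t ↘ Spec (CommRingCat.of (T.residueField t)))
      (Spec.map (CommRingCat.ofHom (algebraMap (T.residueField t) K))) := by
    refine IsPullback.of_right ?_ hm2 (IsPullback.of_hasPullback p (T.fromSpecResidueField t))
    rw [show Spec.map (CommRingCat.ofHom (algebraMap (T.residueField t) K)) ≫
      T.fromSpecResidueField t = x from hfac, show m ≫ pullback.fst p _ = q from hm1]
    exact hsq
  obtain ⟨M, rfl, hM⟩ := hc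
  unfold fibHh
  rw [← hm1, ← PicClLib.pullCl_comp]
  refine Eq.trans ?_ (CurveBC.finrank_hh (T.residueField t) K m hpb
    ((Scheme.Modules.pullback (p.fiberι t)).obj M)
    (ZeroSchX.isQCoh_inv (PicClLib.isInvertible_pullback _ hM)) i)
  rfl

theorem fibHh_of_isPullback (p : Y ⟶ T) [QuasiCompact p] [QuasiSeparated p] {c : PicF.Cl Y}
    (hc : PicF.IsInvertibleCl c) {Y' T' : Scheme.{u}} (p' : Y' ⟶ T') (g : Y' ⟶ Y) (h : T' ⟶ T)
    (hsq : IsPullback g p' p h) (t : T') (i : ℕ) :
    fibHh p' t i (PicF.pullCl g c) = fibHh p (h t) i c := by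
  unfold fibHh
  rw [PicClLib.pullCl_comp]
  exact hh_eq_fibHh p hc (h t) (p'.fiberι t ≫ g) (p'.fiberToSpecResidueField t)
    (T'.fromSpecResidueField t ≫ h)
    ((IsPullback.of_hasPullback p' (T'.fromSpecResidueField t)).paste_horiz hsq)
    ((Scheme.Hom.comp_apply _ h _).trans (congrArg h (Scheme.fromSpecResidueField_apply t _))) i

theorem goodAt_of_isPullback (p : Y ⟶ T) [QuasiCompact p] [QuasiSeparated p] {c : PicF.Cl Y}
    (hc : PicF.IsInvertibleCl c) {Y' T' : Scheme.{u}} (p' : Y' ⟶ T') (g : Y' ⟶ Y) (h : T' ⟶ T)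
    (hsq : IsPullback g p' p h) (t : T') :
    GoodAt p' (PicF.pullCl g c) t ↔ GoodAt p c (h t) := by
  rw [GoodAt, GoodAt, fibHh_of_isPullback p hc p' g h hsq, fibHh_of_isPullback p hc p' g h hsq]

/-- The sections are free on one element over the base ring. -/
def Gen {B : Type u} [CommRing B] (pB : Y ⟶ Spec (CommRingCat.of B)) {L : Y.Modules}
    (s : Γ(L, ⊤)) : Prop :=
  (∀ w : Γ(L, ⊤), ∃ b : B, w = (show Γ(Y, ⊤) from Coh.toGlobal pB b) • s) ∧
    ∀ b : B, (show Γ(Y, ⊤) from Coh.toGlobal pB b) • s = 0 → b = 0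

theorem Gen.map_iso {B : Type u} [CommRing B] {pB : Y ⟶ Spec (CommRingCat.of B)} {L M : Y.Modules}
    {s : Γ(L, ⊤)} (h : Gen pB s) (φ : L ≅ M) : Gen pB (φ.hom.app ⊤ s) := by
  refine ⟨fun w => ?_, fun b hb => h.2 b (app_injective φ ⊤ ?_)⟩
  · obtain ⟨b, hb⟩ := h.1 (φ.inv.app ⊤ w)
    refine ⟨b, ?_⟩
    rw [← Scheme.Modules.Hom.app_smul, ← hb]
    show w = (φ.inv ≫ φ.hom).app ⊤ w
    rw [φ.inv_hom_id]
    rfl
  · rw [Scheme.Modules.Hom.app_smul, hb, map_zero]

/-- Over a field a generating section is nonzero and the space of sections is a line. -/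
theorem Gen.over_field {K : Type u} [Field K] {pK : Y ⟶ Spec (CommRingCat.of K)} {L : Y.Modules}
    {s : Γ(L, ⊤)} (h : Gen pK s) :
    s ≠ 0 ∧ (letI : Y.Over (Spec (CommRingCat.of K)) := ⟨pK⟩; hh K 0 (PicF.cl L) = 1) := by
  refine ⟨fun h0 => one_ne_zero (h.2 1 (by rw [h0, smul_zero])), ?_⟩
  letI : Y.Over (Spec (CommRingCat.of K)) := ⟨pK⟩
  obtain ⟨e₀, he₀⟩ := BcZero.exists_h0Equiv L
  let f : K →ₗ[K] Coh.HH Y L 0 :=
    { toFun := fun b => e₀.symm ((show Γ(Y, ⊤) from Coh.toGlobal pK b) • s)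
      map_add' := fun a b => by
        rw [map_add]
        exact (congrArg e₀.symm (add_smul _ _ s)).trans (map_add e₀.symm _ _)
      map_smul' := fun a b => e₀.injective (by
        rw [RingHom.id_apply, AddEquiv.apply_symm_apply, smul_eq_mul, map_mul]
        refine Eq.trans ?_ (he₀ _ _).symm
        rw [AddEquiv.apply_symm_apply]
        exact mul_smul _ _ s) }
  have hf : Function.Bijective f := by
    refine ⟨(injective_iff_map_eq_zero f).2 fun b hb => h.2 b ?_, fun w => ?_⟩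
    · exact e₀.symm.injective (hb.trans (map_zero _).symm)
    · obtain ⟨b, hb⟩ := h.1 (e₀ w)
      exact ⟨b, e₀.injective ((AddEquiv.apply_symm_apply _ _).trans hb.symm)⟩
  rw [hh_cl, ← (LinearEquiv.ofBijective f hf).finrank_eq, Module.finrank_self]

/-- Near a good point of a proper flat family over an affine base a section generates. -/
theorem exists_section_affine {B : Type u} [CommRing B] {Y : Scheme.{u}}
    (p : Y ⟶ Spec (CommRingCat.of B)) [IsProper p] [Flat p] [LocallyOfFinitePresentation p]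
    {L : Y.Modules} (hL : PicF.IsInvertible L) (t : PrimeSpectrum B) (h : GoodAt p (PicF.cl L) t) :
    ∃ (s : Γ(L, ⊤)) (c : B), c ∉ t.asIdeal ∧ ∀ (B' : Type u) [CommRing B'] [Algebra B B'],
      IsUnit (algebraMap B B' c) → ∀ (Y' : Scheme.{u}) (φ : Y' ⟶ Y) (pB : Y' ⟶ Spec (CommRingCat.of B')),
        IsPullback φ pB p (Spec.map (CommRingCat.ofHom (algebraMap B B'))) →
          Gen pB (pullTop φ s) := by
  obtain ⟨S₀, X₀, π, f₀, q, L₀, hN, hA, hp, hf, hsq, hL₀, ⟨e⟩⟩ := ProperModel.exists_model p L hL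
  let A : Type u := Γ(S₀, ⊤)
  haveI : IsNoetherianRing A := IsLocallyNoetherian.component_noetherian ⟨⊤, isAffineOpen_top S₀⟩
  let f₁ : X₀ ⟶ Spec (CommRingCat.of A) := f₀ ≫ S₀.isoSpec.hom
  let π₁ : Spec (CommRingCat.of B) ⟶ Spec (CommRingCat.of A) := π ≫ S₀.isoSpec.hom
  haveI : IsProper f₁ := inferInstanceAs (IsProper (f₀ ≫ S₀.isoSpec.hom))
  haveI : Flat f₁ := inferInstanceAs (Flat (f₀ ≫ S₀.isoSpec.hom))
  have hsq₁ : IsPullback q p f₁ π₁ :=
    IsPullback.of_iso hsq (Iso.refl _) (Iso.refl _) (Iso.refl _) S₀.isoSpec (by simp) (by simp)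
      (by simp [f₁]) (by simp [π₁])
  obtain ⟨ψ, hψ⟩ := Spec.map_surjective π₁
  letI : X₀.Over (Spec (CommRingCat.of A)) := ⟨f₁⟩
  haveI : IsProper (X₀ ↘ Spec (CommRingCat.of A)) := inferInstanceAs (IsProper f₁)
  haveI : Flat (X₀ ↘ Spec (CommRingCat.of A)) := inferInstanceAs (Flat f₁)
  let x₀ : PrimeSpectrum A := π₁ t
  let k := x₀.asIdeal.ResidueField
  letI : (H23.Seesaw.fibreOf A X₀ x₀).Over (Spec (CommRingCat.of k)) :=
    ⟨pullback.snd (X₀ ↘ Spec (CommRingCat.of A)) (H23.Seesaw.specAlg A k)⟩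
  have hfib : ∀ i, hh k i (PicF.cl ((Scheme.Modules.pullback
      (pullback.fst (X₀ ↘ Spec (CommRingCat.of A)) (H23.Seesaw.specAlg A k))).obj L₀)) =
      fibHh p t i (PicF.cl L) := fun i => by
    rw [show PicF.cl L = PicF.pullCl q (PicF.cl L₀) from ((PicGrp.cl_eq_cl_iff _ _).2 ⟨e⟩).symm,
      fibHh_of_isPullback f₁ ⟨L₀, rfl, hL₀⟩ p q π₁ hsq₁ t i]
    exact hh_eq_fibHh f₁ ⟨L₀, rfl, hL₀⟩ (π₁ t)
      (pullback.fst (X₀ ↘ Spec (CommRingCat.of A)) (H23.Seesaw.specAlg A k))
      (pullback.snd (X₀ ↘ Spec (CommRingCat.of A)) (H23.Seesaw.specAlg A k)) (H23.Seesaw.specAlg A k)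
      (IsPullback.of_hasPullback _ _) (H23.Seesaw.range_specAlg x₀ _) i
  have h1 : SectGen.FibreVanishOne L₀ x₀ := by
    have h1 := (hfib 1).trans h.2
    haveI : IsProper (H23.Seesaw.fibreOf A X₀ x₀ ↘ Spec (CommRingCat.of k)) :=
      MorphismProperty.pullback_snd (P := @IsProper) _ _ ‹_›
    haveI := LocallyOfFiniteType.isLocallyNoetherian (H23.Seesaw.fibreOf A X₀ x₀ ↘ Spec (CommRingCat.of k))
    haveI := S0002.result k (H23.Seesaw.fibreOf A X₀ x₀) _
      (CurveDeg.isCoh_of_isInvertible (PicClLib.isInvertible_pullback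
        (pullback.fst (X₀ ↘ Spec (CommRingCat.of A)) (H23.Seesaw.specAlg A k)) hL₀)) 1
    exact Module.finrank_zero_iff.1 h1
  obtain ⟨s₀, c₀, hc₀, hs₀⟩ := SectGen.exists_section hL₀ x₀ h1 ((hfib 0).trans h.1)
  refine ⟨e.hom.app ⊤ (pullTop q s₀), ψ.hom c₀, fun hmem => hc₀ ?_, fun B' _ _ hu Y' φ pB hsq' => ?_⟩
  · show c₀ ∈ (π₁ t).asIdeal
    rw [← hψ]
    exact hmem
  · letI : Algebra A B' := ((algebraMap B B').comp ψ.hom).toAlgebra
    have h0 := hs₀ B' hu Y' (φ ≫ q) pB (by
      have := hsq'.paste_horiz hsq₁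
      rw [← hψ, ← Spec.map_comp] at this
      exact this)
    have hg : Gen pB (pullTop (φ ≫ q) s₀) := h0
    let Φ : (Scheme.Modules.pullback (φ ≫ q)).obj L₀ ≅ (Scheme.Modules.pullback φ).obj L :=
      ((Scheme.Modules.pullbackComp φ q).app L₀).symm ≪≫ (Scheme.Modules.pullback φ).mapIso e
    convert hg.map_iso Φ using 1
    show _ = ((Scheme.Modules.pullback φ).map e.hom).app ⊤
      (((Scheme.Modules.pullbackComp φ q).inv.app L₀).app ⊤ (pullTop (φ ≫ q) s₀))
    rw [pullTop_comp_inv φ q s₀]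
    exact (pullTop_natural φ e.hom (pullTop q s₀)).symm

/-- Around a good point there is an affine chart with a section generating on it and on all fibres. -/
theorem exists_chart (p : Y ⟶ T) [IsProper p] [Flat p] [LocallyOfFinitePresentation p] {L : Y.Modules}
    (hL : PicF.IsInvertible L) (t : T) (h : GoodAt p (PicF.cl L) t) :
    ∃ (B : Type u) (_ : CommRing B) (j : Spec (CommRingCat.of B) ⟶ T) (_ : IsOpenImmersion j),
      t ∈ Set.range j ∧ ∀ (Y' : Scheme.{u}) (g : Y' ⟶ Y) (p' : Y' ⟶ Spec (CommRingCat.of B)),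
        IsPullback g p' p j → ∃ s : Γ((Scheme.Modules.pullback g).obj L, ⊤),
          Gen p' s ∧ ∀ t' : Spec (CommRingCat.of B),
            fibHh p' t' 0 (PicF.pullCl g (PicF.cl L)) = 1 ∧ pullTop (p'.fiberι t') s ≠ 0 := by
  obtain ⟨W, hW, htW, -⟩ := exists_isAffineOpen_mem_and_subset (X := T) (x := t) (U := ⊤) trivial
  let B₀ : Type u := Γ(T, W)
  let j₀ : Spec (CommRingCat.of B₀) ⟶ T := hW.fromSpec
  obtain ⟨t₀, rfl⟩ : t ∈ Set.range j₀ := hW.range_fromSpec.ge htW
  let p₀ := pullback.snd p j₀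
  let φ₀ := pullback.fst p j₀
  haveI : IsProper p₀ := MorphismProperty.pullback_snd (P := @IsProper) _ _ inferInstance
  haveI : Flat p₀ := MorphismProperty.pullback_snd (P := @Flat) _ _ inferInstance
  haveI : LocallyOfFinitePresentation p₀ :=
    MorphismProperty.pullback_snd (P := @LocallyOfFinitePresentation) _ _ inferInstance
  have hgood : GoodAt p₀ (PicF.cl ((Scheme.Modules.pullback φ₀).obj L)) t₀ :=
    (goodAt_of_isPullback p (c := PicF.cl L) ⟨L, rfl, hL⟩ p₀ φ₀ j₀ (IsPullback.of_hasPullback p j₀) t₀).2 h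
  obtain ⟨s₀, c, hc, hs⟩ := exists_section_affine p₀ (PicClLib.isInvertible_pullback φ₀ hL) t₀ hgood
  let B : Type u := Localization.Away c
  let l : Spec (CommRingCat.of B) ⟶ Spec (CommRingCat.of B₀) :=
    Spec.map (CommRingCat.ofHom (algebraMap B₀ B))
  haveI : IsOpenImmersion l := IsOpenImmersion.of_isLocalization c
  let j : Spec (CommRingCat.of B) ⟶ T := l ≫ j₀
  have hunit : IsUnit (algebraMap B₀ B c) := IsLocalization.Away.algebraMap_isUnit c
  refine ⟨B, inferInstance, j, inferInstance, ?_, fun Y' g p' hsq => ?_⟩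
  · have : t₀ ∈ PrimeSpectrum.basicOpen c := hc
    rw [← SetLike.mem_coe, ← PrimeSpectrum.localization_away_comap_range B c] at this
    obtain ⟨z, hz⟩ := this
    exact ⟨z, (Scheme.Hom.comp_apply l j₀ z).trans (congrArg j₀ hz)⟩
  let m : Y' ⟶ pullback p j₀ := pullback.lift g (p' ≫ l) (by rw [Category.assoc, hsq.w])
  have hm1 : m ≫ φ₀ = g := pullback.lift_fst _ _ _
  have hsqm : IsPullback m p' p₀ l := by
    refine IsPullback.of_right ?_ (pullback.lift_snd _ _ _) (IsPullback.of_hasPullback p j₀)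
    rw [pullback.lift_fst]
    exact hsq
  let Φ : (Scheme.Modules.pullback m).obj ((Scheme.Modules.pullback φ₀).obj L) ≅
      (Scheme.Modules.pullback g).obj L :=
    (Scheme.Modules.pullbackComp m φ₀).app L ≪≫ (Scheme.Modules.pullbackCongr hm1).app L
  refine ⟨Φ.hom.app ⊤ (pullTop m s₀), (hs B hunit _ m _ hsqm).map_iso Φ, fun t' => ?_⟩
  · let K : Type u := (Spec (CommRingCat.of B)).residueField t'
    let pj := p'
    obtain ⟨χ, hχ⟩ := Spec.map_surjective ((Spec (CommRingCat.of B)).fromSpecResidueField t')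
    letI : Algebra B₀ K := (χ.hom.comp (algebraMap B₀ B)).toAlgebra
    have hK : Spec.map (CommRingCat.ofHom (algebraMap B₀ K)) =
        (Spec (CommRingCat.of B)).fromSpecResidueField t' ≫ l := by
      rw [← hχ, ← Spec.map_comp]
      rfl
    have hsqK : IsPullback (pj.fiberι t' ≫ m) (pj.fiberToSpecResidueField t') p₀
        (Spec.map (CommRingCat.ofHom (algebraMap B₀ K))) := by
      rw [hK]
      exact (IsPullback.of_hasPullback pj ((Spec (CommRingCat.of B)).fromSpecResidueField t')).paste_horiz hsqm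
    have hg := hs K (hunit.map χ.hom) _ _ _ hsqK
    let Ψ : (Scheme.Modules.pullback (pj.fiberι t' ≫ m)).obj ((Scheme.Modules.pullback φ₀).obj L) ≅
        (Scheme.Modules.pullback (pj.fiberι t')).obj ((Scheme.Modules.pullback g).obj L) :=
      ((Scheme.Modules.pullbackComp (pj.fiberι t') m).app _).symm ≪≫
        (Scheme.Modules.pullback (pj.fiberι t')).mapIso Φ
    obtain ⟨hne, h1⟩ := Gen.over_field (hg.map_iso Ψ)
    refine ⟨h1, ?_⟩
    intro h0
    refine hne (Eq.trans ?_ h0)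
    show ((Scheme.Modules.pullback (pj.fiberι t')).map Φ.hom).app ⊤
      (((Scheme.Modules.pullbackComp (pj.fiberι t') m).inv.app _).app ⊤ (pullTop (pj.fiberι t' ≫ m) s₀)) = _
    rw [pullTop_comp_inv (pj.fiberι t') m s₀]
    exact pullTop_natural (pj.fiberι t') Φ.hom (pullTop m s₀)

end Groth.Agent.PicFRel.PicGood
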