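import Groth.Agent.PicFRel.CurveDiv
import Groth.Agent.PicFRel.HilbFam
import Groth.Agent.PicFRel.PicGood
import Groth.Agent.Triage.SliceFlat
import Groth.Agent.FibFlat.Stalk
import Groth.Agent.S14700
import Groth.Agent.CurveCohLib.Euler
import Groth.Agent.QCoh.CechStd
import Mathlib.AlgebraicGeometry.ZariskisMainTheorem

/-!
# The divisor of a section which is nonzero on every fibre of a relative curve
-/

set_option autoImplicit false
set_option linter.style.haveILetI false
set_option linter.overlappingInstances false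
set_option linter.unusedSectionVars false
set_option backward.isDefEq.respectTransparency false
set_option backward.isDefEq.respectTransparency.types false

universe u

open CategoryTheory CategoryTheory.Limits AlgebraicGeometry TopologicalSpace

noncomputable section

namespace Groth.Agent.PicFRel.SectDiv

open Groth.Agent Groth.Agent.InvX Groth.Agent.JacTheta Groth.Agent.PicFRel.DivSect
open Groth.Agent.FlatX
open scoped nonZeroDivisors

variable {Y T : Scheme.{u}} (p : Y ⟶ T)

/-- A section whose coordinate vanishes at a point of an integral scheme mapping in pulls back to zero. -/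
theorem eq_zero_of_germ {C : Scheme.{u}} [IsIntegral C] {L : Y.Modules} (hL : PicF.IsInvertible L)
    (s : Γ(L, ⊤)) {U : Y.Opens} {e : Γ(L, U)} (he : IsFrame e) {c : Γ(Y, U)}
    (hc : AModX.res L (le_top : U ≤ ⊤) s = c • e) (j : C ⟶ Y) (w : C) (x : Y) (hw : j w = x)
    (hxU : x ∈ U) (h0 : FibFlat.sm j w x hw (Y.presheaf.germ U x hxU c) = 0) : pullTop j s = 0 := by
  subst hw
  rw [FibFlat.sm_self] at h0
  have h1 : C.presheaf.germ (j ⁻¹ᵁ U) w hxU (j.app U c) = 0 :=
    (j.germ_stalkMap_apply U w hxU c).symm.trans h0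
  haveI : Nonempty (j ⁻¹ᵁ U : C.Opens) := ⟨⟨w, hxU⟩⟩
  refine eq_zero_of_res (PicClLib.isInvertible_pullback j hL) _ (V := j ⁻¹ᵁ U) ?_
  rw [res_pullTop, hc, H23.EndInv.pullElt_smul,
    germ_injective_of_isIntegral C w hxU (h1.trans (map_zero _).symm), zero_smul]

/-- A section nonzero on every fibre has a flat effective Cartier divisor. -/
theorem cartier_and_flat [Flat p] [LocallyOfFinitePresentation p]
    (hint : ∀ t, IsIntegral (p.fiber t)) {L : Y.Modules}
    (hL : PicF.IsInvertible L) (s : Γ(L, ⊤)) (hs : ∀ t, pullTop (p.fiberι t) s ≠ 0) :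
    BlowUp.IsEffCartierIdeal (Z s) ∧ Flat ((Z s).subschemeι ≫ p) := by
  have key : ∀ x : Y, ∃ (W : T.affineOpens) (V : Y.affineOpens) (eV : V.1 ≤ p ⁻¹ᵁ W.1), x ∈ V.1 ∧
      (∃ g ∈ Γ(Y, V.1)⁰, (Z s).ideal V = Ideal.span {g}) ∧
        (quotApp p (Z s) W V eV).Flat := by
    intro x
    obtain ⟨W, hW, hxW, -⟩ := exists_isAffineOpen_mem_and_subset (X := T) (x := p x) (U := ⊤) trivial
    obtain ⟨U, e, c, hxU, hUW, he, hc⟩ := exists_coordinate hL s (x := x) (O := p ⁻¹ᵁ W) hxW
    let α : Γ(T, W) →+* Γ(Y, U.1) := (p.appLE W U.1 hUW).hom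
    letI : Algebra Γ(T, W) Γ(Y, U.1) := α.toAlgebra
    haveI : Module.Flat Γ(T, W) Γ(Y, U.1) :=
      RingHom.flat_algebraMap_iff.mp (HasRingHomProperty.appLE (P := @Flat) p inferInstance ⟨W, hW⟩ U hUW)
    haveI : Algebra.FinitePresentation Γ(T, W) Γ(Y, U.1) :=
      RingHom.finitePresentation_algebraMap.mp
        (HasRingHomProperty.appLE (P := @LocallyOfFinitePresentation) p inferInstance ⟨W, hW⟩ U hUW)
    have hl0 : ∃ h ∉ (U.2.primeIdealOf ⟨x, hxU⟩).asIdeal, ∀ (T' : Type u) [CommRing T']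
        [Algebra Γ(Y, U.1) T'] [Algebra Γ(T, W) T'] [IsScalarTower Γ(T, W) Γ(Y, U.1) T']
        [Module.Flat Γ(Y, U.1) T'], IsUnit (algebraMap Γ(Y, U.1) T' h) →
          (∀ t : T', algebraMap Γ(Y, U.1) T' c * t = 0 → t = 0) ∧
          Module.Flat Γ(T, W) (T' ⧸ Ideal.span {algebraMap Γ(Y, U.1) T' c}) := by
      set Q := (U.2.primeIdealOf ⟨x, hxU⟩).asIdeal with hQdef
      letI : Algebra Γ(Y, U.1) (Y.presheaf.stalk x) := (Y.presheaf.germ U.1 x hxU).hom.toAlgebra
      haveI : IsLocalization.AtPrime (Y.presheaf.stalk x) Q := U.2.isLocalization_stalk ⟨x, hxU⟩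
      by_cases hcQ : c ∈ Q
      swap
      · refine ⟨c, hcQ, fun T' _ _ _ _ _ hu => ⟨fun t ht => hu.mul_right_eq_zero.1 ht, ?_⟩⟩
        rw [Ideal.span_singleton_eq_top.2 hu]
        haveI : Subsingleton (T' ⧸ (⊤ : Ideal T')) := Ideal.Quotient.subsingleton_iff.2 rfl
        infer_instance
      obtain ⟨w, hw⟩ : x ∈ Set.range (p.fiberι (p x)) := by rw [p.range_fiberι]; rfl
      let P : Ideal Γ(T, W) := Q.comap α
      haveI : Q.LiesOver P := ⟨rfl⟩
      let ψ : Γ(Y, U.1) →+* (p.fiber (p x)).presheaf.stalk w :=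
        (FibFlat.sm (p.fiberι (p x)) w x hw).comp (Y.presheaf.germ U.1 x hxU).hom
      have hmax : (IsLocalRing.maximalIdeal (T.presheaf.stalk (p x))).map (FibFlat.sm p x (p x) rfl) =
          (P.map α).map (algebraMap Γ(Y, U.1) (Y.presheaf.stalk x)) := by
        letI : Algebra Γ(T, W) (T.presheaf.stalk (p x)) := (T.presheaf.germ W (p x) hxW).hom.toAlgebra
        haveI := hW.isLocalization_stalk ⟨p x, hxW⟩
        have hnat : (FibFlat.sm p x (p x) rfl).comp (T.presheaf.germ W (p x) hxW).hom =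
            (Y.presheaf.germ U.1 x hxU).hom.comp α := by
          rw [FibFlat.sm_self]
          refine RingHom.ext fun r => ?_
          show (p.stalkMap x).hom (T.presheaf.germ W (p x) hxW r) =
            Y.presheaf.germ U.1 x hxU (p.appLE W U.1 hUW r)
          erw [p.germ_stalkMap_apply]
          rw [Scheme.Hom.appLE, CommRingCat.comp_apply]
          exact (Y.presheaf.germ_res_apply (homOfLE hUW) x hxU (p.app W r)).symm
        have hP : P = (hW.primeIdealOf ⟨p x, hxW⟩).asIdeal := by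
          ext r
          rw [← IsLocalization.AtPrime.to_map_mem_maximal_iff (T.presheaf.stalk (p x))
            (hW.primeIdealOf ⟨p x, hxW⟩).asIdeal r]
          rw [show r ∈ P ↔ α r ∈ Q from Iff.rfl,
            ← IsLocalization.AtPrime.to_map_mem_maximal_iff (Y.presheaf.stalk x) Q (α r)]
          have := RingHom.congr_fun hnat r
          simp only [RingHom.comp_apply] at this
          show Y.presheaf.germ U.1 x hxU (α r) ∈ _ ↔ _
          erw [← this]
          rw [IsLocalRing.mem_maximalIdeal, IsLocalRing.mem_maximalIdeal, mem_nonunits_iff, mem_nonunits_iff]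
          exact not_congr ⟨fun hu => isUnit_of_map_unit (FibFlat.sm p x (p x) rfl) _ hu, fun hu => hu.map _⟩
        rw [← IsLocalization.AtPrime.map_eq_maximalIdeal (hW.primeIdealOf ⟨p x, hxW⟩).asIdeal
          (T.presheaf.stalk (p x)), Ideal.map_map, Ideal.map_map, ← hP]
        exact congrArg (fun φ => Ideal.map φ P) hnat
      have hsat : ∀ a, ψ a = 0 ↔ a ∈ FlatModel.sat P ⊥ Q.primeCompl := fun a => by
        show FibFlat.sm (p.fiberι (p x)) w x hw (algebraMap Γ(Y, U.1) (Y.presheaf.stalk x) a) = 0 ↔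
          ∃ v ∈ Q.primeCompl, v * a ∈ ⊥ ⊔ P.map (algebraMap Γ(T, W) Γ(Y, U.1))
        rw [← RingHom.mem_ker, FibFlat.ker_sm_fiberι, hmax,
          IsLocalization.algebraMap_mem_map_algebraMap_iff Q.primeCompl, bot_sup_eq]
        rfl
      haveI := hint (p x)
      have hψc : ψ c ≠ 0 := fun h0 =>
        hs (p x) (eq_zero_of_germ hL s he hc (p.fiberι (p x)) w x hw hxU h0)
      exact Triage.SliceFlat.exists_slice_one c P Q hcQ fun t ht => by
        rw [← hsat] at ht ⊢
        rw [map_mul] at ht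
        exact (mul_eq_zero.1 ht).resolve_left hψc
    obtain ⟨h, hhQ, hT⟩ := hl0
    let V := Y.affineBasicOpen h
    have hVU : V.1 ≤ U.1 := Y.basicOpen_le h
    haveI := U.2.isLocalization_basicOpen h
    haveI : Module.Flat Γ(Y, U.1) Γ(Y, Y.basicOpen h) :=
      IsLocalization.flat _ (Submonoid.powers h)
    letI : Algebra Γ(T, W) Γ(Y, Y.basicOpen h) :=
      (p.appLE W V.1 (hVU.trans hUW)).hom.toAlgebra
    haveI : IsScalarTower Γ(T, W) Γ(Y, U.1) Γ(Y, Y.basicOpen h) :=
      IsScalarTower.of_algebraMap_eq fun r =>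
        (ConcreteCategory.congr_hom (p.appLE_map hUW (homOfLE hVU).op) r).symm
    obtain ⟨hreg, hflat⟩ := hT Γ(Y, Y.basicOpen h)
      (IsLocalization.Away.algebraMap_isUnit (S := Γ(Y, Y.basicOpen h)) h)
    let g : Γ(Y, V.1) := algebraMap Γ(Y, U.1) Γ(Y, Y.basicOpen h) c
    have hg : (Z s).ideal V = Ideal.span {g} := by
      refine ((Z s).map_ideal_basicOpen U h).symm.trans ?_
      rw [ideal_Z hL s U he hc, Ideal.map_span, Set.image_singleton]
      rfl
    have hxV : x ∈ V.1 := by
      show x ∈ Y.basicOpen h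
      rw [Scheme.mem_basicOpen Y h x hxU]
      let := (Y.presheaf.germ U.1 x hxU).hom.toAlgebra
      have := U.2.isLocalization_stalk ⟨x, hxU⟩
      exact (IsLocalization.AtPrime.isUnit_to_map_iff (Y.presheaf.stalk x)
        (U.2.primeIdealOf ⟨x, hxU⟩).asIdeal h).2 hhQ
    refine ⟨⟨W, hW⟩, V, hVU.trans hUW, hxV,
      ⟨g, mem_nonZeroDivisors_iff_right.2 fun t ht => hreg t (by rwa [mul_comm]), hg⟩, ?_⟩
    show (algebraMap Γ(T, W) (Γ(Y, Y.basicOpen h) ⧸ (Z s).ideal V)).Flat
    refine RingHom.flat_algebraMap_iff.mpr ?_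
    rw [hg]
    exact hflat
  refine ⟨fun x => ?_, CurveDiv.of_quotApp p (Z s) @Flat RingHom.Flat ?_ fun x => ?_⟩
  · obtain ⟨W, V, eV, hx, hg, -⟩ := key x
    exact ⟨V, hx, hg⟩
  · exact (RingHom.Flat.stableUnderComposition.stableUnderCompositionWithLocalizationAway
      RingHom.Flat.holdsForLocalizationAway).left
  · obtain ⟨W, V, eV, hx, -, hflat⟩ := key x
    exact ⟨W, V, eV, hx, hflat⟩

/-- The divisor of a nonzero section on a curve over a field has the degree of the class. -/
theorem finrank_eq_dgr {K : Type u} [Field K] {C : Scheme.{u}} [C.Over (Spec (CommRingCat.of K))]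
    [IsIntegral C] [IsProper (C ↘ Spec (CommRingCat.of K))] [Smooth (C ↘ Spec (CommRingCat.of K))]
    (hdim : topologicalKrullDim C = 1) {L : C.Modules} (hL : PicF.IsInvertible L) (s : Γ(L, ⊤))
    (hI : BlowUp.IsEffCartierIdeal (Z s))
    [IsFinite ((Z s).subschemeι ≫ (C ↘ Spec (CommRingCat.of K)))]
    (t : Spec (CommRingCat.of K)) :
    ((((Z s).subschemeι ≫ (C ↘ Spec (CommRingCat.of K))).finrank t : ℕ) : ℤ) = dgr K (PicF.cl L) := by
  let I := Z s
  haveI : IsNoetherian C := CurveCohLib.isNoetherian_of_proper (k := K) (X := C)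
  letI : I.subscheme.Over (Spec (CommRingCat.of K)) := ⟨I.subschemeι ≫ (C ↘ Spec (CommRingCat.of K))⟩
  haveI : IsFinite (I.subscheme ↘ Spec (CommRingCat.of K)) := ‹_›
  haveI : IsAffine I.subscheme := isAffine_of_isAffineHom (I.subscheme ↘ Spec (CommRingCat.of K))
  have hpush : ∀ i, Nonempty (Coh.HH I.subscheme (Coh.structureModule I.subscheme) i ≃ₗ[K]
      Coh.HH C (ClSub.quotMod I) i) := fun i =>
    PnCoh.exists_linearEquiv_push K I.subschemeι rfl (QCoh.isQCoh_structureModule (X := I.subscheme)) i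
  have hχ : Curv2.euler K C (ClSub.quotMod I) = Module.finrank K (Coh.HH C (ClSub.quotMod I) 0) := by
    rw [CurveCohLib.euler_eq_sum (k := K) (N := 1) fun i hi => ?_]
    · simp
    obtain ⟨i, rfl⟩ : ∃ j, i = j + 1 := ⟨i - 1, by omega⟩
    obtain ⟨e⟩ := hpush (i + 1)
    haveI := QCoh.subsingleton_HH_of_isAffine (QCoh.isQCoh_structureModule (X := I.subscheme)) i
    exact e.symm.toEquiv.subsingleton
  have hdeg : Curv2.euler K C (ClSub.quotMod I) = dgr K (PicF.cl L) := by
    have hinv : PicF.IsInvertible (ClSub.idealMod I) := (S8914.result I).2 hI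
    have h := dgr_inv (k := K) hdim (lb (ClSub.idealMod I) hinv)
    rw [show (((lb (ClSub.idealMod I) hinv)⁻¹ : LB C) : PicF.Cl C) = PicF.cl L from OD_Z hL s hI,
      lb_val, dgr_cl (k := K) (ClSub.idealMod I)] at h
    rw [show Curv2.deg K C (ClSub.idealMod I) 1 = Curv2.euler K C (ClSub.idealMod I) -
      Curv2.euler K C (Coh.structureModule C) by unfold Curv2.deg; simp] at h
    rw [S14700.euler_quotMod K hI, h]
    ring
  rw [← hdeg, hχ]
  norm_cast
  obtain ⟨e⟩ := hpush 0
  letI := GeomField.globalAlgebra K I.subscheme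
  rw [← e.finrank_eq, GeomField.finrank_HH_zero]
  haveI : Module.Finite K Γ(I.subscheme, ⊤) := by
    refine RingHom.finite_algebraMap.1 ?_
    exact (Scheme.Hom.finite_appTop (I.subscheme ↘ Spec (CommRingCat.of K))).comp
      (RingHom.Finite.of_surjective _
        (ConcreteCategory.bijective_of_isIso (Scheme.ΓSpecIso (CommRingCat.of K)).inv).2)
  haveI : IsFinite (Spec.map (CommRingCat.ofHom (algebraMap K Γ(I.subscheme, ⊤)))) :=
    (IsFinite.SpecMap_iff _).2 (RingHom.finite_algebraMap.2 inferInstance)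
  have hsq : IsPullback I.subscheme.isoSpec.hom (I.subscheme ↘ Spec (CommRingCat.of K))
      (Spec.map (CommRingCat.ofHom (algebraMap K Γ(I.subscheme, ⊤)))) (𝟙 _) := by
    refine IsPullback.of_horiz_isIso ⟨?_⟩
    rw [Category.comp_id]
    show I.subscheme.isoSpec.hom ≫ Spec.map ((Scheme.ΓSpecIso (CommRingCat.of K)).inv ≫
      (I.subscheme ↘ Spec (CommRingCat.of K)).appTop) = _
    rw [Spec.map_comp, Scheme.isoSpec_hom_naturality_assoc, Scheme.isoSpec_hom,
      toSpecΓ_SpecMap_ΓSpecIso_inv, Category.comp_id]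
  show (I.subscheme ↘ Spec (CommRingCat.of K)).finrank t = _
  rw [Scheme.Hom.finrank_of_isPullback _ _ _ _ hsq]
  refine (Scheme.Hom.finrank_SpecMap_algebraMap K Γ(I.subscheme, ⊤) _).trans ?_
  exact congrFun (Module.rankAtStalk_eq_finrank_of_free (R := K) (M := Γ(I.subscheme, ⊤))) _

theorem finLocFreeOfDeg [SmoothOfRelativeDimension 1 p] [IsProper p] (hint : ∀ t, IsIntegral (p.fiber t))
    (hdim : ∀ t, topologicalKrullDim (p.fiber t) = 1) {L : Y.Modules}
    (hL : PicF.IsInvertible L) (s : Γ(L, ⊤)) (hs : ∀ t, pullTop (p.fiberι t) s ≠ 0) :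
    BlowUp.IsEffCartierIdeal (Z s) ∧ Mor2.IsFinLocFree ((Z s).subschemeι ≫ p) ∧
      ∀ t, letI : (p.fiber t).Over (Spec (CommRingCat.of (T.residueField t))) := ⟨p.fiberToSpecResidueField t⟩
        haveI := hint t
        haveI : IsProper (p.fiber t ↘ Spec (CommRingCat.of (T.residueField t))) :=
          MorphismProperty.pullback_snd (P := @IsProper) _ _ inferInstance
        ((((Z s).subschemeι ≫ p).finrank t : ℕ) : ℤ) =
          dgr (T.residueField t) (PicF.pullCl (p.fiberι t) (PicF.cl L)) := by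
  haveI : Smooth p := SmoothOfRelativeDimension.smooth 1 p
  obtain ⟨hI, hflat⟩ := cartier_and_flat p hint hL s hs
  obtain ⟨hq, hfp⟩ := CurveDiv.quasiFinite_and_fp (f := p) (I := Z s) hI hflat
  haveI := hq
  haveI : IsProper ((Z s).subschemeι ≫ p) := inferInstance
  haveI : IsFinite ((Z s).subschemeι ≫ p) := IsFinite.of_isProper_of_locallyQuasiFinite _
  refine ⟨hI, ⟨inferInstance, hflat, hfp⟩, fun t => ?_⟩
  letI : (p.fiber t).Over (Spec (CommRingCat.of (T.residueField t))) := ⟨p.fiberToSpecResidueField t⟩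
  haveI := hint t
  haveI : IsProper (p.fiber t ↘ Spec (CommRingCat.of (T.residueField t))) :=
    MorphismProperty.pullback_snd (P := @IsProper) _ _ inferInstance
  haveI : Smooth (p.fiber t ↘ Spec (CommRingCat.of (T.residueField t))) :=
    MorphismProperty.pullback_snd (P := @Smooth) _ _ inferInstance
  have hsq : IsPullback (p.fiberι t) (p.fiber t ↘ Spec (CommRingCat.of (T.residueField t))) p
      (T.fromSpecResidueField t) := IsPullback.of_hasPullback p (T.fromSpecResidueField t)
  have key : ∀ J : (p.fiber t).IdealSheafData, J = (Z s).comap (p.fiberι t) →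
      IsFinite (J.subschemeι ≫ (p.fiber t ↘ Spec (CommRingCat.of (T.residueField t)))) ∧
        (J.subschemeι ≫ (p.fiber t ↘ Spec (CommRingCat.of (T.residueField t)))).finrank
          (IsLocalRing.closedPoint _) = ((Z s).subschemeι ≫ p).finrank t := by
    rintro J rfl
    have G := HilbFam.isPullback_comap hsq (Z s)
    refine ⟨MorphismProperty.of_isPullback (P := @IsFinite) G inferInstance, ?_⟩
    rw [Scheme.Hom.finrank_of_isPullback _ _ _ _ G]
    exact congrArg _ (Scheme.fromSpecResidueField_apply t _)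
  obtain ⟨hfin, hrank⟩ := key _ (comap_Z hL (p.fiberι t) s).symm
  haveI := hfin
  have h1 := finrank_eq_dgr (K := (T.residueField t : Type u)) (hdim t) (PicClLib.isInvertible_pullback (p.fiberι t) hL)
    (pullTop (p.fiberι t) s)
    (ThetaPow.isEffCartier_zeroScheme (PicClLib.isInvertible_pullback (p.fiberι t) hL) _
      (ofSect_ne_zero (hs t))) (show Spec (CommRingCat.of (T.residueField t)) from IsLocalRing.closedPoint (T.residueField t))
  refine (congrArg Nat.cast hrank.symm).trans ?_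
  exact h1

end Groth.Agent.PicFRel.SectDiv
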