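import Groth.Agent.PicFRel.CurveFam
import Groth.Agent.PicFRel.SectDiv
import Groth.Agent.PicFRel.RelPicRig
import Groth.Agent.HilbDLib.Separated
import Groth.Prelude.Def_AbDual

/-!
# Divisors of degree the genus and good classes on a curve
-/

set_option autoImplicit false
set_option linter.style.haveILetI false
set_option linter.overlappingInstances false
set_option linter.unusedSectionVars false
set_option backward.isDefEq.respectTransparency false
set_option backward.isDefEq.respectTransparency.types false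

universe u

open CategoryTheory CategoryTheory.Limits AlgebraicGeometry TopologicalSpace

noncomputable section

namespace Groth.Agent.PicFRel.DivClass

open Groth.Agent Groth.Agent.JacTheta Groth.Agent.PicFRel.DivSect Groth.Agent.PicFRel.CurveFam
open scoped Groth.Agent.H23.PicMul

theorem LB.pull_comp {X Y Z : Scheme.{u}} (f : Z ⟶ Y) (g : Y ⟶ X) (c : LB X) :
    LB.pull f (LB.pull g c) = LB.pull (f ≫ g) c :=
  Units.ext (by simp only [LB.pull_val, PicClLib.pullCl_comp])

theorem LB.pull_id {X : Scheme.{u}} (c : LB X) : LB.pull (𝟙 X) c = c :=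
  Units.ext (by simp only [LB.pull_val, PicClLib.pullCl_id])

/-- Classes pulled back from a field point are trivial. -/
theorem pull_fromSpec {T : Scheme.{u}} (n : LB T) (t : T) :
    LB.pull (T.fromSpecResidueField t) n = 1 := by
  obtain ⟨N, hN, hn⟩ := n.exists_rep
  obtain ⟨V, htV, hV⟩ := RelPicRig.exists_trivial_nhd ⟨N, hn.symm, hN⟩ t
  have hV' : LB.pull V.ι n = 1 := Units.ext hV
  have hr : Set.range (T.fromSpecResidueField t) ⊆ Set.range V.ι := by
    rintro _ ⟨z, rfl⟩
    rw [Scheme.Opens.range_ι, Scheme.fromSpecResidueField_apply]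
    exact htV
  rw [← IsOpenImmersion.lift_fac V.ι (T.fromSpecResidueField t) hr, ← LB.pull_comp, hV', map_one]

/-- The zero section has no effective Cartier divisor. -/
theorem ne_zero_of_isEffCartier {C : Scheme.{u}} [Nonempty C] {L : C.Modules} (hL : PicF.IsInvertible L)
    {s : Γ(L, ⊤)} (hI : BlowUp.IsEffCartierIdeal (Z s)) : s ≠ 0 := by
  rintro rfl
  obtain ⟨x⟩ := (inferInstance : Nonempty C)
  obtain ⟨U, e, c, hxU, -, he, hc⟩ := exists_coordinate hL (0 : Γ(L, ⊤)) (x := x) (O := ⊤) trivial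
  have h0 : AModX.res L (le_top : U.1 ≤ ⊤) (0 : Γ(L, ⊤)) = (0 : Γ(C, U.1)) • e := by
    rw [map_zero, zero_smul]
  have hmem := ModPairLib.generator_mem_nonZeroDivisors hI (ideal_Z hL 0 U he h0)
  haveI : Nonempty U.1 := ⟨⟨x, hxU⟩⟩
  exact nonZeroDivisors.ne_zero hmem rfl

variable {k : Type u} [Field k] [IsSepClosed k] {X : Scheme.{u}} [X.Over (Spec (CommRingCat.of k))]
  [IsIntegral X] [IsProper (X ↘ Spec (CommRingCat.of k))] [Smooth (X ↘ Spec (CommRingCat.of k))]
  (hdim : topologicalKrullDim X = 1) (σ : Pt k X)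

/-- Every point is good. -/
def Good {T : Over (Spec (CommRingCat.of k))} (c : LB (PicF.XT (str k X) T)) : Prop :=
  ∀ t : T.left, PicGood.GoodAt (PicF.XTproj (str k X) T) (c : PicF.Cl _) t

theorem goodAt_pull {T T' : Over (Spec (CommRingCat.of k))} (g : T' ⟶ T)
    (c : LB (PicF.XT (str k X) T)) (t : T'.left) :
    PicGood.GoodAt (PicF.XTproj (str k X) T') (LB.pull (PicF.XTmap (str k X) g) c : PicF.Cl _) t ↔
      PicGood.GoodAt (PicF.XTproj (str k X) T) (c : PicF.Cl _) (g.left t) := by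
  obtain ⟨L, hL, hc⟩ := c.exists_rep
  rw [LB.pull_val, hc]
  exact PicGood.goodAt_of_isPullback (PicF.XTproj (str k X) T) (c := PicF.cl L) ⟨L, rfl, hL⟩
    (PicF.XTproj (str k X) T') (PicF.XTmap (str k X) g) g.left (RigDescent.isPullback_XTmap (str k X) g) t

theorem Good.pull {T T' : Over (Spec (CommRingCat.of k))} {c : LB (PicF.XT (str k X) T)} (h : Good c)
    (g : T' ⟶ T) : Good (LB.pull (PicF.XTmap (str k X) g) c) :=
  fun t => (goodAt_pull g c t).2 (h _)

/-- Classes from the base do not affect goodness. -/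
theorem goodAt_mul_base {T : Over (Spec (CommRingCat.of k))} (c : LB (PicF.XT (str k X) T))
    (n : LB T.left) (t : T.left) :
    PicGood.GoodAt (PicF.XTproj (str k X) T)
      ((c * LB.pull (PicF.XTproj (str k X) T) n : LB _) : PicF.Cl _) t ↔
      PicGood.GoodAt (PicF.XTproj (str k X) T) (c : PicF.Cl _) t := by
  have e : LB.pull ((PicF.XTproj (str k X) T).fiberι t) (c * LB.pull (PicF.XTproj (str k X) T) n) =
      LB.pull ((PicF.XTproj (str k X) T).fiberι t) c := by
    rw [map_mul, LB.pull_comp, (PicF.XTproj (str k X) T).fiber_fac, ← LB.pull_comp, pull_fromSpec,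
      map_one, mul_one]
  unfold PicGood.GoodAt PicGood.fibHh
  rw [← LB.pull_val, e, LB.pull_val]

/-- Pullback of classes along the marked section. -/
abbrev secPull (T : Over (Spec (CommRingCat.of k))) : LB (PicF.XT (str k X) T) →* LB T.left :=
  LB.pull (PicF.secT (str k X) σ.1 σ.2 T)

/-- Rigidification along the marked section. -/
def rigC (T : Over (Spec (CommRingCat.of k))) : LB (PicF.XT (str k X) T) →* LB (PicF.XT (str k X) T) where
  toFun c := c / LB.pull (PicF.XTproj (str k X) T) (secPull σ T c)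
  map_one' := by simp
  map_mul' a b := by rw [map_mul, map_mul, mul_div_mul_comm]

theorem rigC_apply (T : Over (Spec (CommRingCat.of k))) (c : LB (PicF.XT (str k X) T)) :
    rigC σ T c = c / LB.pull (PicF.XTproj (str k X) T) (secPull σ T c) := rfl

theorem sec_proj (T : Over (Spec (CommRingCat.of k))) (n : LB T.left) :
    secPull σ T (LB.pull (PicF.XTproj (str k X) T) n) = n := by
  rw [secPull, LB.pull_comp, RigMark.secT_proj, LB.pull_id]

theorem sec_rigC (T : Over (Spec (CommRingCat.of k))) (c : LB (PicF.XT (str k X) T)) :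
    secPull σ T (rigC σ T c) = 1 := by
  rw [rigC_apply, map_div, sec_proj, div_self']

theorem rigC_of_sec {T : Over (Spec (CommRingCat.of k))} {c : LB (PicF.XT (str k X) T)}
    (h : secPull σ T c = 1) : rigC σ T c = c := by
  rw [rigC_apply, h, map_one, div_one]

theorem pull_secPull {T T' : Over (Spec (CommRingCat.of k))} (g : T' ⟶ T)
    (c : LB (PicF.XT (str k X) T)) :
    secPull σ T' (LB.pull (PicF.XTmap (str k X) g) c) = LB.pull g.left (secPull σ T c) := by
  rw [secPull, LB.pull_comp, secPull, LB.pull_comp, RigMark.secT_map]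

theorem pull_rigC {T T' : Over (Spec (CommRingCat.of k))} (g : T' ⟶ T)
    (c : LB (PicF.XT (str k X) T)) :
    LB.pull (PicF.XTmap (str k X) g) (rigC σ T c) = rigC σ T' (LB.pull (PicF.XTmap (str k X) g) c) := by
  rw [rigC_apply, rigC_apply, map_div, pull_secPull, LB.pull_comp (PicF.XTmap (str k X) g),
    (RigDescent.isPullback_XTmap (str k X) g).w, ← LB.pull_comp]

theorem goodAt_rigC {T : Over (Spec (CommRingCat.of k))} (c : LB (PicF.XT (str k X) T)) (t : T.left) :
    PicGood.GoodAt (PicF.XTproj (str k X) T) (rigC σ T c : PicF.Cl _) t ↔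
      PicGood.GoodAt (PicF.XTproj (str k X) T) (c : PicF.Cl _) t := by
  rw [rigC_apply, div_eq_mul_inv, ← map_inv]
  exact goodAt_mul_base c _ t

/-- Families of effective divisors of degree the genus. -/
abbrev Fam (T : Over (Spec (CommRingCat.of k))) : Type u :=
  HilbD.Obj (str k X) (Curv2.genus k X) T

/-- Base change of families. -/
def mapF {T T' : Over (Spec (CommRingCat.of k))} (g : T' ⟶ T) (Z : Fam (X := X) T) : Fam (X := X) T' :=
  ⟨HilbD.pull (str k X) g Z.1, HilbDLib.isFinLocFreeOfDeg_pull (str k X) g Z.1 Z.2⟩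

include hdim in
theorem isEffCartier {T : Over (Spec (CommRingCat.of k))} (Z : Fam (X := X) T) :
    BlowUp.IsEffCartierIdeal Z.1 :=
  haveI := smoothRelDim_proj (k := k) (X := X) T hdim
  (CurveDiv.of_isFinLocFree (f := PicF.XTproj (str k X) T) (I := Z.1) Z.2.1).1

/-- The class of the universal bundle of a family. -/
def od {T : Over (Spec (CommRingCat.of k))} (Z : Fam (X := X) T) : LB (PicF.XT (str k X) T) :=
  OD Z.1 (isEffCartier hdim Z)

theorem od_map {T T' : Over (Spec (CommRingCat.of k))} (g : T' ⟶ T) (Z : Fam (X := X) T) :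
    od hdim (mapF g Z) = LB.pull (PicF.XTmap (str k X) g) (od hdim Z) :=
  OD_comap _ (HilbDLib.pull_eq_comap (str k X) g Z.1) (isEffCartier hdim Z) (isEffCartier hdim (mapF g Z))

/-- The rigidified class of a family. -/
def Φ {T : Over (Spec (CommRingCat.of k))} (Z : Fam (X := X) T) : LB (PicF.XT (str k X) T) :=
  rigC σ T (od hdim Z)

theorem Φ_map {T T' : Over (Spec (CommRingCat.of k))} (g : T' ⟶ T) (Z : Fam (X := X) T) :
    Φ hdim σ (mapF g Z) = LB.pull (PicF.XTmap (str k X) g) (Φ hdim σ Z) := by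
  rw [Φ, Φ, pull_rigC, od_map]

include hdim in
/-- Near a good point a class is the class of a divisor. -/
theorem exists_local_div {T : Over (Spec (CommRingCat.of k))} (c : LB (PicF.XT (str k X) T)) (t : T.left)
    (h : PicGood.GoodAt (PicF.XTproj (str k X) T) (c : PicF.Cl _) t) :
    ∃ (U : Scheme.{u}) (j : U ⟶ T.left) (_ : IsOpenImmersion j), t ∈ Set.range j ∧
      (∀ u, PicGood.GoodAt (PicF.XTproj (str k X) T) (c : PicF.Cl _) (j u)) ∧
      ∃ Z : Fam (X := X) (AbDual.ovr T j),
        od hdim Z = LB.pull (PicF.XTmap (str k X) (AbDual.ovrHom T j)) c := by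
  obtain ⟨L, hL, hc⟩ := c.exists_rep
  haveI : IsProper (PicF.XTproj (str k X) T) := inferInstance
  haveI := smoothRelDim_proj (k := k) (X := X) T hdim
  haveI : Smooth (PicF.XTproj (str k X) T) := SmoothOfRelativeDimension.smooth 1 _
  obtain ⟨B, _, j, hj, htj, hchart⟩ := PicGood.exists_chart (PicF.XTproj (str k X) T) hL t (hc ▸ h)
  let T₁ : Over (Spec (CommRingCat.of k)) := AbDual.ovr T j
  let q := PicF.XTmap (str k X) (AbDual.ovrHom T j)
  let p₁ : PicF.XT (str k X) T₁ ⟶ Spec (CommRingCat.of B) := PicF.XTproj (str k X) T₁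
  obtain ⟨s, -, hs⟩ := hchart _ q p₁ (RigDescent.isPullback_XTmap (str k X) (AbDual.ovrHom T j))
  haveI := smoothRelDim_proj (k := k) (X := X) T₁ hdim
  haveI : IsProper (PicF.XTproj (str k X) T₁) := inferInstance
  have hL₁ : PicF.IsInvertible ((Scheme.Modules.pullback q).obj L) := PicClLib.isInvertible_pullback q hL
  obtain ⟨hI, hfin, hdeg⟩ := SectDiv.finLocFreeOfDeg (PicF.XTproj (str k X) T₁)
    (fun u => isIntegral_fiber (k := k) (X := X) T₁ u) (fun u => topologicalKrullDim_fiber T₁ u hdim)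
    hL₁ s (fun u => (hs u).2)
  haveI := hfin.1; haveI := hfin.2.1; haveI := hfin.2.2
  let ν := ((Z s).subschemeι ≫ PicF.XTproj (str k X) T₁).finrank
  have hν : IsLocallyConstant ν :=
    ((Z s).subschemeι ≫ PicF.XTproj (str k X) T₁).isLocallyConstant_finrank
  obtain ⟨t₁, rfl⟩ := htj
  let O : (Spec (CommRingCat.of B)).Opens := ⟨ν ⁻¹' {Curv2.genus k X}, hν _⟩
  have hcast : ∀ u : Spec (CommRingCat.of B), ((ν u : ℕ) : ℤ) =
      (haveI := isIntegral_fiber (k := k) (X := X) T₁ u; haveI := isProper_fiber (k := k) (X := X) T₁ u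
       dgr (T₁.left.residueField u) (PicF.pullCl ((PicF.XTproj (str k X) T₁).fiberι u)
        (LB.pull q c : PicF.Cl _))) := fun u => by
    rw [LB.pull_val, hc]
    exact hdeg u
  have htO : t₁ ∈ O := by
    show ν t₁ = Curv2.genus k X
    exact Int.ofNat_inj.1 ((hcast t₁).trans
      (dgr_of_goodAt T₁ t₁ hdim (LB.pull q c) ((goodAt_pull (AbDual.ovrHom T j) c t₁).2 h)))
  refine ⟨O, O.ι ≫ j, inferInstance, ⟨⟨t₁, htO⟩, rfl⟩, fun u => ?_, ?_⟩
  · have hu : (ν (O.ι u) : ℤ) = (Curv2.genus k X : ℤ) := by exact_mod_cast u.2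
    have h0 : PicGood.fibHh (PicF.XTproj (str k X) T₁) (O.ι u) 0 (LB.pull q c : PicF.Cl _) = 1 := by
      rw [LB.pull_val, hc]
      exact (hs (O.ι u)).1
    have := (goodAt_pull (AbDual.ovrHom T j) c (O.ι u)).1
      (goodAt_of_dgr T₁ (O.ι u) hdim (LB.pull q c) h0 ((hcast (O.ι u)).symm.trans hu))
    rw [Scheme.Hom.comp_apply]
    exact this
  · let T₂ : Over (Spec (CommRingCat.of k)) := AbDual.ovr T (O.ι ≫ j)
    let g₂ : T₂ ⟶ T₁ := Over.homMk O.ι (Category.assoc _ _ _).symm
    have hcomp : AbDual.ovrHom T (O.ι ≫ j) = g₂ ≫ AbDual.ovrHom T j := Over.OverMorphism.ext rfl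
    let r := PicF.XTmap (str k X) g₂
    have G := HilbFam.isPullback_comap (RigDescent.isPullback_XTmap (str k X) g₂) (Z s)
    have hZ₂ : Mor2.IsFinLocFreeOfDeg (Curv2.genus k X)
        (((Z s).comap r).subschemeι ≫ PicF.XTproj (str k X) T₂) := by
      refine ⟨⟨MorphismProperty.of_isPullback (P := @IsFinite) G inferInstance,
        MorphismProperty.of_isPullback (P := @Flat) G inferInstance,
        MorphismProperty.of_isPullback (P := @LocallyOfFinitePresentation) G inferInstance⟩, fun u => ?_⟩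
      rw [Scheme.Hom.finrank_of_isPullback _ _ _ _ G]
      exact u.2
    refine ⟨⟨(Z s).comap r, hZ₂⟩, ?_⟩
    have hI₂ := isEffCartier hdim (⟨(Z s).comap r, hZ₂⟩ : Fam (X := X) T₂)
    rw [hcomp, PicClLib.XTmap_comp, ← LB.pull_comp, od, ← pull_OD r hI hI₂]
    refine congrArg (LB.pull r) (Units.ext ?_)
    rw [OD_Z hL₁ s hI, LB.pull_val, hc]
    rfl

theorem toGlobal_fiber_zero {B : Type u} [CommRing B] {Y : Scheme.{u}} (pB : Y ⟶ Spec (CommRingCat.of B))
    (t : Spec (CommRingCat.of B)) {b : B} (hb : b ∈ (t : PrimeSpectrum B).asIdeal) :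
    (pB.fiberι t).appTop (show Γ(Y, ⊤) from Coh.toGlobal pB b) = 0 := by
  obtain ⟨χ, hχ⟩ := Spec.map_surjective ((Spec (CommRingCat.of B)).fromSpecResidueField t)
  have h0 : χ.hom b = 0 := by
    have hp : Spec.map χ (IsLocalRing.closedPoint _) = t := by
      rw [hχ]; exact Scheme.fromSpecResidueField_apply t _
    rw [← hp] at hb
    have : χ.hom b ∈ (IsLocalRing.maximalIdeal ((Spec (CommRingCat.of B)).residueField t)) := hb
    rwa [IsLocalRing.maximalIdeal_eq_bot, Ideal.mem_bot] at this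
  show (pB.appTop ≫ (pB.fiberι t).appTop) ((Scheme.ΓSpecIso (CommRingCat.of B)).inv b) = 0
  rw [← Scheme.Hom.comp_appTop, pB.fiber_fac, Scheme.Hom.comp_appTop, ← hχ]
  show (pB.fiberToSpecResidueField t).appTop (((Scheme.ΓSpecIso (CommRingCat.of B)).inv ≫ (Spec.map χ).appTop) b) = 0
  rw [← Scheme.ΓSpecIso_inv_naturality]
  show (pB.fiberToSpecResidueField t).appTop ((Scheme.ΓSpecIso _).inv (χ.hom b)) = 0
  rw [h0, map_zero, map_zero]

include hdim in
/-- A family with good class is determined by its rigidified class. -/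
theorem Φ_injective {T : Over (Spec (CommRingCat.of k))} (Z₁ Z₂ : Fam (X := X) T)
    (h : Φ hdim σ Z₁ = Φ hdim σ Z₂) (hgood : Good (Φ hdim σ Z₁)) : Z₁ = Z₂ := by
  refine Subtype.ext ?_
  let n := secPull σ T (od hdim Z₂) / secPull σ T (od hdim Z₁)
  have hn : od hdim Z₂ = od hdim Z₁ * LB.pull (PicF.XTproj (str k X) T) n := by
    rw [Φ, Φ, rigC_apply, rigC_apply, div_eq_div_iff_mul_eq_mul] at h
    simp only [n, map_div, mul_div_assoc']
    rw [eq_div_iff_mul_eq']
    exact h.symm
  have hgood₁ : Good (od hdim Z₁) := fun t => (goodAt_rigC σ _ t).1 (hgood t)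
  have key : ∀ t : T.left, ∃ (U : Scheme.{u}) (j : U ⟶ T.left) (_ : IsOpenImmersion j), t ∈ Set.range j ∧
      Z₁.1.comap (PicF.XTmap (str k X) (AbDual.ovrHom T j)) =
        Z₂.1.comap (PicF.XTmap (str k X) (AbDual.ovrHom T j)) := by
    intro t
    obtain ⟨N, hN, hnN⟩ := n.exists_rep
    obtain ⟨V, htV, hV⟩ := RelPicRig.exists_trivial_nhd ⟨N, hnN.symm, hN⟩ t
    let T₁ : Over (Spec (CommRingCat.of k)) := AbDual.ovr T V.ι
    let m₁ := AbDual.ovrHom T V.ι
    have hV' : LB.pull V.ι n = 1 := Units.ext hV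
    have heq : LB.pull (PicF.XTmap (str k X) m₁) (od hdim Z₁) =
        LB.pull (PicF.XTmap (str k X) m₁) (od hdim Z₂) := by
      rw [hn, map_mul, LB.pull_comp, (RigDescent.isPullback_XTmap (str k X) m₁).w, ← LB.pull_comp,
        show LB.pull m₁.left n = 1 from hV', map_one, mul_one]
    obtain ⟨L, hL, hc⟩ := (od hdim (mapF m₁ Z₁)).exists_rep
    haveI : IsProper (PicF.XTproj (str k X) T₁) := inferInstance
    haveI := smoothRelDim_proj (k := k) (X := X) T₁ hdim
    haveI : Smooth (PicF.XTproj (str k X) T₁) := SmoothOfRelativeDimension.smooth 1 _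
    have hg₁ : PicGood.GoodAt (PicF.XTproj (str k X) T₁) (PicF.cl L) (⟨t, htV⟩ : V) := by
      rw [← hc, od_map]
      exact hgood₁.pull m₁ _
    obtain ⟨B, _, j, hj, ⟨u, hu⟩, hchart⟩ := PicGood.exists_chart (PicF.XTproj (str k X) T₁) hL _ hg₁
    let T₂ : Over (Spec (CommRingCat.of k)) := AbDual.ovr T (j ≫ V.ι)
    let g₂ : T₂ ⟶ T₁ := Over.homMk j (Category.assoc _ _ _).symm
    have hcomp : AbDual.ovrHom T (j ≫ V.ι) = g₂ ≫ m₁ := Over.OverMorphism.ext rfl
    let q := PicF.XTmap (str k X) g₂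
    let p₂ : PicF.XT (str k X) T₂ ⟶ Spec (CommRingCat.of B) := PicF.XTproj (str k X) T₂
    obtain ⟨s, hgen, hs⟩ := hchart _ q p₂ (RigDescent.isPullback_XTmap (str k X) g₂)
    have hL₂ := PicClLib.isInvertible_pullback q hL
    haveI := smoothRelDim_proj (k := k) (X := X) T₂ hdim
    have main : ∀ W : Fam (X := X) T₂, (od hdim W : PicF.Cl _) = PicF.cl ((Scheme.Modules.pullback q).obj L) →
        W.1 = Z s := by
      intro W hW
      obtain ⟨s', hs'⟩ := exists_sect (isEffCartier hdim W) hL₂ hW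
      obtain ⟨b, rfl⟩ := hgen.1 s'
      suffices hb : IsUnit b by
        rw [← hs']
        exact Z_smul hL₂ (hb.map _) s
      by_contra hb
      obtain ⟨P, hP, hbP⟩ := exists_max_ideal_of_mem_nonunits hb
      let t' : Spec (CommRingCat.of B) := ⟨P, hP.isPrime⟩
      haveI := isIntegral_fiber (k := k) (X := X) T₂ t'
      haveI : SmoothOfRelativeDimension 1 (p₂.fiberToSpecResidueField t') :=
        haveI := smoothOfRelativeDimension_isStableUnderBaseChange (n := 1)
        MorphismProperty.pullback_snd (P := @SmoothOfRelativeDimension 1) _ _ inferInstance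
      have G := HilbFam.finLocFreeOfDeg_comap
        (IsPullback.of_hasPullback p₂ ((Spec (CommRingCat.of B)).fromSpecResidueField t')) W.1 W.2
      have hC := (CurveDiv.of_isFinLocFree (f := p₂.fiberToSpecResidueField t')
        (I := W.1.comap (p₂.fiberι t')) G.1).1
      rw [← hs', comap_Z hL₂] at hC
      refine ne_zero_of_isEffCartier (PicClLib.isInvertible_pullback _ hL₂) hC ?_
      rw [pullTop_smul, toGlobal_fiber_zero p₂ t' hbP, zero_smul]
    have hcl : ∀ Z : Fam (X := X) T, LB.pull (PicF.XTmap (str k X) m₁) (od hdim Z) =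
        LB.pull (PicF.XTmap (str k X) m₁) (od hdim Z₁) →
        (od hdim (mapF (AbDual.ovrHom T (j ≫ V.ι)) Z) : PicF.Cl _) =
          PicF.cl ((Scheme.Modules.pullback q).obj L) := fun Z hZ => by
      rw [od_map hdim, hcomp, PicClLib.XTmap_comp, ← LB.pull_comp, hZ, ← od_map hdim, LB.pull_val, hc]
      rfl
    have h12 := (main _ (hcl Z₁ rfl)).trans (main _ (hcl Z₂ heq.symm)).symm
    refine ⟨_, j ≫ V.ι, inferInstance, ⟨u, (Scheme.Hom.comp_apply j V.ι u).trans (congrArg V.ι hu)⟩, ?_⟩
    rw [← HilbDLib.pull_eq_comap, ← HilbDLib.pull_eq_comap]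
    exact h12
  choose U j hj ht he using key
  haveI : ∀ t, Flat (AbDual.ovrHom T (j t)).left := fun t =>
    haveI := hj t
    inferInstanceAs (Flat (j t))
  haveI : ∀ t, Flat (PicF.XTmap (str k X) (AbDual.ovrHom T (j t))) := fun t =>
    MorphismProperty.of_isPullback (P := @Flat)
      (RigDescent.isPullback_XTmap (str k X) (AbDual.ovrHom T (j t))).flip inferInstance
  refine DescLib.eq_of_flat_family (fun t : T.left => PicF.XTmap (str k X) (AbDual.ovrHom T (j t))) (fun x => ?_) he
  obtain ⟨u, hu⟩ := ht (PicF.XTproj (str k X) T x)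
  obtain ⟨y, hy, -⟩ := Scheme.exists_preimage_of_isPullback
    (RigDescent.isPullback_XTmap (str k X) (AbDual.ovrHom T (j (PicF.XTproj (str k X) T x)))) x u hu.symm
  exact ⟨_, y, hy⟩

end Groth.Agent.PicFRel.DivClass
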