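import Groth.Agent.PicFRel.PicGood
import Groth.Agent.PicFRel.RigDescent
import Groth.Agent.PicFRel.PicSeparated
import Groth.Agent.PerfD40.BettiFibre
import Groth.Agent.CurveBC.Geometry
import Groth.Agent.Snapper.DimVanish
import Groth.Prelude.Def_FGA

/-!
# The degree on the fibres of a family of one-dimensional schemes
-/

set_option autoImplicit false
set_option linter.style.haveILetI false
set_option linter.overlappingInstances false
set_option linter.unusedSectionVars false
set_option backward.isDefEq.respectTransparency false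
set_option backward.isDefEq.respectTransparency.types false

universe u

open CategoryTheory CategoryTheory.Limits AlgebraicGeometry TopologicalSpace
open scoped Groth.Agent.H23.PicMul

noncomputable section

namespace Groth.Agent.PicFRel.FibDeg

open Groth.Agent Groth.Agent.JacTheta Groth.Agent.PicFRel.PicGood

variable {Y T : Scheme.{u}}

/-- `h⁰ - h¹` of a class on a fibre. -/
def fd (p : Y ⟶ T) (c : PicF.Cl Y) (t : T) : ℤ :=
  (fibHh p t 0 c : ℤ) - fibHh p t 1 c

/-- The degree of a class on a fibre: `χ(c_t) - χ(O)`. -/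
def deg (p : Y ⟶ T) (c : PicF.Cl Y) (t : T) : ℤ :=
  fd p c t - fd p 1 t

theorem fd_of_isPullback (p : Y ⟶ T) [QuasiCompact p] [QuasiSeparated p] {c : PicF.Cl Y}
    (hc : PicF.IsInvertibleCl c) {Y' T' : Scheme.{u}} (p' : Y' ⟶ T') (g : Y' ⟶ Y) (h : T' ⟶ T)
    (hsq : IsPullback g p' p h) (t : T') :
    fd p' (PicF.pullCl g c) t = fd p c (h t) := by
  unfold fd
  rw [fibHh_of_isPullback p hc p' g h hsq, fibHh_of_isPullback p hc p' g h hsq]

theorem isInvertibleCl_one : PicF.IsInvertibleCl (1 : PicF.Cl Y) :=
  ⟨Coh.structureModule Y, H23.PicMul.one_def.symm, CurveDeg.isInvertible_structureModule⟩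

theorem deg_of_isPullback (p : Y ⟶ T) [QuasiCompact p] [QuasiSeparated p] {c : PicF.Cl Y}
    (hc : PicF.IsInvertibleCl c) {Y' T' : Scheme.{u}} (p' : Y' ⟶ T') (g : Y' ⟶ Y) (h : T' ⟶ T)
    (hsq : IsPullback g p' p h) (t : T') :
    deg p' (PicF.pullCl g c) t = deg p c (h t) := by
  unfold deg
  rw [fd_of_isPullback p hc p' g h hsq, ← fd_of_isPullback p isInvertibleCl_one p' g h hsq,
    H23.PicMul.pullCl_one]

theorem eulerChar_eq_fd (p : Y ⟶ T) [QuasiCompact p] [IsSeparated p] [LocallyOfFiniteType p] {L : Y.Modules}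
    (hL : PicF.IsInvertible L) (t : T) (hd : topologicalKrullDim ↥(p.fiber t) ≤ 1) :
    PerfAux.eulerChar p L t = fd p (PicF.cl L) t := by
  haveI : LocallyOfFiniteType (p.fiberToSpecResidueField t) :=
    MorphismProperty.pullback_snd (P := @LocallyOfFiniteType) _ _ inferInstance
  haveI : QuasiCompact (p.fiberToSpecResidueField t) :=
    MorphismProperty.pullback_snd (P := @QuasiCompact) _ _ inferInstance
  haveI : IsLocallyNoetherian (p.fiber t) :=
    LocallyOfFiniteType.isLocallyNoetherian (p.fiberToSpecResidueField t)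
  haveI : CompactSpace (p.fiber t) :=
    QuasiCompact.compactSpace_of_compactSpace (p.fiberToSpecResidueField t)
  haveI : IsNoetherian (p.fiber t) := {}
  haveI : IsSeparated (p.fiberToSpecResidueField t) :=
    MorphismProperty.pullback_snd (P := @IsSeparated) _ _ inferInstance
  haveI : (p.fiber t).IsSeparated := ⟨by
    rw [← Limits.terminal.comp_from (p.fiberToSpecResidueField t)]
    infer_instance⟩
  have hq : Coh.IsQCoh ((Scheme.Modules.pullback (p.fiberι t)).obj L) :=
    ZeroSchX.isQCoh_inv (PicClLib.isInvertible_pullback _ hL)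
  unfold PerfAux.eulerChar fd
  rw [finsum_eq_sum_of_support_subset _ (s := Finset.range 2) ?_]
  · simp only [Finset.sum_range_succ, Finset.range_one, Finset.sum_singleton, pow_zero, pow_one,
      one_mul, neg_one_mul]
    rw [sub_eq_add_neg]
    rfl
  · intro i hi
    simp only [Finset.coe_range, Set.mem_Iio]
    by_contra hlt
    refine hi ?_
    haveI : Subsingleton (PerfAux.fiberH p L t i) :=
      Snapper.subsingleton_HH_of_dim_le (d := 1) (by exact_mod_cast hd) hq (by omega)
    show (-1 : ℤ) ^ i * ((PerfAux.betti p L t i : ℕ) : ℤ) = 0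
    rw [show PerfAux.betti p L t i = 0 from Module.finrank_zero_of_subsingleton, Nat.cast_zero, mul_zero]

theorem isLocallyConstant_fd (p : Y ⟶ T) [IsProper p] [Flat p] [LocallyOfFinitePresentation p]
    (hd : ∀ t : T, topologicalKrullDim ↥(p.fiber t) ≤ 1) {c : PicF.Cl Y} (hc : PicF.IsInvertibleCl c) :
    IsLocallyConstant (fd p c) := by
  obtain ⟨L, rfl, hL⟩ := hc
  rw [show fd p (PicF.cl L) = fun t => PerfAux.eulerChar p L t from
    funext fun t => (eulerChar_eq_fd p hL t (hd t)).symm]
  exact PerfD40.isLocallyConstant_eulerChar_fibre p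
    (QCoh.isFP_of_isFinLocFree (H23.PullPush.isFinLocFree_of_isInvertible hL))
    (H23.Seesaw.isFlatOver_of_isInvertible p hL)

theorem isLocallyConstant_deg (p : Y ⟶ T) [IsProper p] [Flat p] [LocallyOfFinitePresentation p]
    (hd : ∀ t : T, topologicalKrullDim ↥(p.fiber t) ≤ 1) {c : PicF.Cl Y} (hc : PicF.IsInvertibleCl c) :
    IsLocallyConstant (deg p c) :=
  (isLocallyConstant_fd p hd hc).comp₂ (isLocallyConstant_fd p hd isInvertibleCl_one) (fun a b => a - b)

variable {C S : Scheme.{u}} (f : C ⟶ S)

/-- The frozen Euler characteristics in terms of `fd`. -/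
theorem eulerCharLE_eq_fd (T : Over S) (L : (PicF.XT f T).Modules) (t : T.left) :
    FGA.eulerCharLE (T.left.residueField t) (FGA.fibreAt f T t).left (FGA.restrFibre f T t L) 1 =
      fd (PicF.XTproj f T) (PicF.cl L) t := by
  simp only [FGA.eulerCharLE, fd, Finset.sum_range_succ, Finset.range_one, Finset.sum_singleton, pow_zero,
    pow_one, one_mul, neg_one_mul]
  rw [sub_eq_add_neg]
  rfl

theorem eulerCharLE_structure (T : Over S) (t : T.left) :
    FGA.eulerCharLE (T.left.residueField t) (FGA.fibreAt f T t).left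
      (Coh.structureModule (FGA.fibreAt f T t).left) 1 = fd (PicF.XTproj f T) 1 t := by
  simp only [FGA.eulerCharLE, fd, fibHh, H23.PicMul.pullCl_one, Finset.sum_range_succ, Finset.range_one,
    Finset.sum_singleton, pow_zero, pow_one, one_mul, neg_one_mul]
  rw [sub_eq_add_neg]
  rfl

/-- The fibres of a base change have the same dimension. -/
theorem dim_fiber_le [LocallyOfFiniteType f] (T : Over S) (t : T.left) {d : WithBot ℕ∞}
    (hdim : ∀ s : S, topologicalKrullDim ↥(f.fiber s) ≤ d) :
    topologicalKrullDim ↥((PicF.XTproj f T).fiber t) ≤ d := by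
  obtain ⟨φ, hfac⟩ : ∃ φ : S.residueField (T.hom t) ⟶ T.left.residueField t,
      Spec.map φ ≫ S.fromSpecResidueField (T.hom t) = T.left.fromSpecResidueField t ≫ T.hom :=
    ⟨_, Scheme.Hom.SpecMap_residueFieldMap_fromSpecResidueField T.hom t⟩
  have hbig : IsPullback ((PicF.XTproj f T).fiberι t ≫ pullback.fst f T.hom)
      ((PicF.XTproj f T).fiberToSpecResidueField t) f (Spec.map φ ≫ S.fromSpecResidueField (T.hom t)) := by
    rw [hfac]
    exact (IsPullback.of_hasPullback (PicF.XTproj f T) (T.left.fromSpecResidueField t)).paste_horiz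
      (IsPullback.of_hasPullback f T.hom)
  let m : (PicF.XTproj f T).fiber t ⟶ f.fiber (T.hom t) :=
    pullback.lift ((PicF.XTproj f T).fiberι t ≫ pullback.fst f T.hom)
      ((PicF.XTproj f T).fiberToSpecResidueField t ≫ Spec.map φ) (by rw [Category.assoc]; exact hbig.w)
  have hm1 : m ≫ f.fiberι (T.hom t) = (PicF.XTproj f T).fiberι t ≫ pullback.fst f T.hom :=
    pullback.lift_fst _ _ _
  have hm2 : m ≫ f.fiberToSpecResidueField (T.hom t) =
      (PicF.XTproj f T).fiberToSpecResidueField t ≫ Spec.map φ := pullback.lift_snd _ _ _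
  have hpb : IsPullback m ((PicF.XTproj f T).fiberToSpecResidueField t)
      (f.fiberToSpecResidueField (T.hom t)) (Spec.map φ) :=
    IsPullback.of_right (by rw [show m ≫ pullback.fst f _ = _ from hm1]; exact hbig) hm2
      (IsPullback.of_hasPullback f (S.fromSpecResidueField (T.hom t)))
  haveI : LocallyOfFiniteType (f.fiberToSpecResidueField (T.hom t)) :=
    MorphismProperty.pullback_snd (P := @LocallyOfFiniteType) _ _ inferInstance
  haveI : LocallyOfFiniteType ((PicF.XTproj f T).fiberToSpecResidueField t) :=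
    MorphismProperty.of_isPullback hpb inferInstance
  haveI : Subsingleton (Spec (S.residueField (T.hom t))) :=
    inferInstanceAs (Subsingleton (PrimeSpectrum (S.residueField (T.hom t))))
  haveI : Subsingleton (Spec (T.left.residueField t)) :=
    inferInstanceAs (Subsingleton (PrimeSpectrum (T.left.residueField t)))
  haveI : Nonempty (Spec (T.left.residueField t)) :=
    inferInstanceAs (Nonempty (PrimeSpectrum (T.left.residueField t)))
  exact le_of_eq_of_le (FibDim.topologicalKrullDim_baseChange hpb) (hdim _)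

end Groth.Agent.PicFRel.FibDeg
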