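import Groth.Agent.PicFRel.LineSect
import Groth.Agent.PicFRel.FibDeg
import Groth.Agent.PicFRel.DivClass
import Groth.Agent.JacTheta.Graph
import Groth.Agent.JacTheta.Rigid
import Groth.Agent.Synt29.SmoothDim
import Groth.Agent.S10861

/-!
# The Abel map of a relative curve of positive genus
-/

set_option autoImplicit false
set_option linter.style.haveILetI false
set_option linter.overlappingInstances false
set_option linter.unusedSectionVars false
set_option backward.isDefEq.respectTransparency false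
set_option backward.isDefEq.respectTransparency.types false
set_option maxHeartbeats 1000000

universe u

open CategoryTheory CategoryTheory.Limits AlgebraicGeometry TopologicalSpace
open scoped Groth.Agent.H23.PicMul

noncomputable section

namespace Groth.Agent.PicFRel.AbelMono

open Groth.Agent Groth.Agent.JacTheta Groth.Agent.PicFRel.DivSect Groth.Agent.PicFRel.PicGood
open Groth.Agent.PicFRel.DivClass

variable {C S : Scheme.{u}} (f : C ⟶ S)

section Fibres

variable [IsProper f] [Smooth f] [GeometricallyConnected f]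

/-- The fibres of a proper smooth curve with connected geometric fibres are integral curves. -/
theorem fibre_facts {K : Type u} [Field K] {Y : Scheme.{u}} [Y.Over (Spec (CommRingCat.of K))]
    {q : Y ⟶ C} {σ : Spec (CommRingCat.of K) ⟶ S}
    (h : IsPullback q (Y ↘ Spec (CommRingCat.of K)) f σ) :
    IsProper (Y ↘ Spec (CommRingCat.of K)) ∧ Smooth (Y ↘ Spec (CommRingCat.of K)) ∧
      GeometricallyConnected (Y ↘ Spec (CommRingCat.of K)) ∧ IsIntegral Y := by
  have h1 : IsProper (Y ↘ Spec (CommRingCat.of K)) := MorphismProperty.of_isPullback h inferInstance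
  have h2 : Smooth (Y ↘ Spec (CommRingCat.of K)) := MorphismProperty.of_isPullback h inferInstance
  have h3 : GeometricallyConnected (Y ↘ Spec (CommRingCat.of K)) :=
    MorphismProperty.of_isPullback h inferInstance
  haveI := h1; haveI := h2; haveI := h3
  exact ⟨h1, h2, h3, CurveBC.isIntegral_of_h0 K Y (BunLib68.finrank_h0_one K)⟩

omit [Smooth f] [GeometricallyConnected f] in
/-- The dimension of the fibre over a field point. -/
theorem dim_fieldPoint (hdim : ∀ s : S, topologicalKrullDim ↥(f.fiber s) = 1) {K : Type u} [Field K]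
    {Y : Scheme.{u}} {q : Y ⟶ C} {p : Y ⟶ Spec (CommRingCat.of K)} {σ : Spec (CommRingCat.of K) ⟶ S}
    (h : IsPullback q p f σ) : topologicalKrullDim ↥Y = 1 := by
  obtain ⟨φ, hfac⟩ : ∃ φ : S.residueField (σ (IsLocalRing.closedPoint K)) ⟶ CommRingCat.of K,
      Spec.map φ ≫ S.fromSpecResidueField (σ (IsLocalRing.closedPoint K)) = σ :=
    ⟨_, Scheme.descResidueField_stalkClosedPointTo_fromSpecResidueField K S σ⟩
  generalize σ (IsLocalRing.closedPoint K) = s at φ hfac
  subst hfac
  let m : Y ⟶ f.fiber s := pullback.lift q (p ≫ Spec.map φ) (by rw [Category.assoc, h.w])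
  have hpb : IsPullback m p (f.fiberToSpecResidueField s) (Spec.map φ) :=
    IsPullback.of_right (by rw [show m ≫ pullback.fst f _ = q from pullback.lift_fst _ _ _]; exact h)
      (pullback.lift_snd _ _ _) (IsPullback.of_hasPullback f (S.fromSpecResidueField s))
  haveI : LocallyOfFiniteType p := MorphismProperty.of_isPullback h inferInstance
  haveI : LocallyOfFiniteType (f.fiberToSpecResidueField s) :=
    MorphismProperty.pullback_snd (P := @LocallyOfFiniteType) _ _ inferInstance
  haveI : Subsingleton (Spec (S.residueField s)) :=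
    inferInstanceAs (Subsingleton (PrimeSpectrum (S.residueField s)))
  haveI : Subsingleton (Spec (CommRingCat.of K)) := inferInstanceAs (Subsingleton (PrimeSpectrum K))
  haveI : Nonempty (Spec (CommRingCat.of K)) := inferInstanceAs (Nonempty (PrimeSpectrum K))
  exact (FibDim.topologicalKrullDim_baseChange hpb).trans (hdim s)

/-- A smooth proper morphism with connected curves as geometric fibres has relative dimension one. -/
theorem smoothRelDimOne (hdim : ∀ s : S, topologicalKrullDim ↥(f.fiber s) = 1) :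
    SmoothOfRelativeDimension 1 f := by
  have key : ∀ x : C, ∃ V : C.Opens, x ∈ V ∧ SmoothOfRelativeDimension 1 (V.ι ≫ f) := by
    intro x
    obtain ⟨-, -, V, -, -, n, hxV, -, hV, -⟩ := Synt29.SmoothDim.exists_chart f x
    let s := f x
    letI : (f.fiber s).Over (Spec (CommRingCat.of (S.residueField s))) := ⟨f.fiberToSpecResidueField s⟩
    obtain ⟨hp, hsm, -, hint⟩ := fibre_facts f (K := S.residueField s) (Y := f.fiber s)
      (IsPullback.of_hasPullback f (S.fromSpecResidueField s))
    haveI := hp; haveI := hsm; haveI := hint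
    have h1 : SmoothOfRelativeDimension 1 (f.fiber s ↘ Spec (CommRingCat.of (S.residueField s))) :=
      smoothOfRelativeDimension_one (S.residueField s) (f.fiber s) (hdim s)
    let V' := f.fiberι s ⁻¹ᵁ V
    have hsq : IsPullback (f.fiberι s ∣_ V) (V'.ι ≫ f.fiberToSpecResidueField s) (V.ι ≫ f)
        (S.fromSpecResidueField s) :=
      (isPullback_morphismRestrict (f.fiberι s) V).paste_vert (IsPullback.of_hasPullback f _)
    haveI := smoothOfRelativeDimension_isStableUnderBaseChange (n := n)
    haveI : SmoothOfRelativeDimension n (V'.ι ≫ f.fiberToSpecResidueField s) :=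
      MorphismProperty.of_isPullback hsq hV
    obtain ⟨z, hz⟩ : x ∈ Set.range (f.fiberι s) := by rw [f.range_fiberι]; rfl
    have hzV : z ∈ V' := show f.fiberι s z ∈ V by rw [hz]; exact hxV
    have e1 := Synt29.SmoothDim.fibreDimAt_eq_of_nhd (f.fiberToSpecResidueField s) V' n hzV
    haveI : SmoothOfRelativeDimension 1 (V'.ι ≫ f.fiberToSpecResidueField s) := by
      haveI : SmoothOfRelativeDimension 1 (f.fiberToSpecResidueField s) := h1
      exact (Nat.zero_add 1) ▸
        (inferInstance : SmoothOfRelativeDimension (0 + 1) (V'.ι ≫ f.fiberToSpecResidueField s))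
    have e2 := Synt29.SmoothDim.fibreDimAt_eq_of_nhd (f.fiberToSpecResidueField s) V' 1 hzV
    obtain rfl : n = 1 := by exact_mod_cast e1.symm.trans e2
    exact ⟨V, hxV, hV⟩
  choose V hV hS using key
  exact (IsZariskiLocalAtSource.iff_of_iSup_eq_top (P := @SmoothOfRelativeDimension 1) V
    (eq_top_iff.2 fun x _ => Opens.mem_iSup.2 ⟨x, hV x⟩)).2 hS

end Fibres

variable [IsProper f] [SmoothOfRelativeDimension 1 f]

/-- The class of the divisor of a point. -/
def D {T : Over S} (x : T ⟶ Over.mk f) : LB (PicF.XT f T) :=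
  OD (gr f x).ker (isEffCartier_gr f x)

omit [SmoothOfRelativeDimension 1 f] in
theorem comap_gr {T T' : Over S} (g : T' ⟶ T) (x : T ⟶ Over.mk f) :
    (gr f (g ≫ x)).ker = (gr f x).ker.comap (PicF.XTmap f g) := by
  have H := (isPullback_gr f g x).flip
  rw [← Scheme.IdealSheafData.ker_fst_of_isClosedImmersion, ← H.isoPullback_hom_fst,
    Scheme.Hom.ker_comp_of_isIso]

theorem pull_D {T T' : Over S} (g : T' ⟶ T) (x : T ⟶ Over.mk f) :
    LB.pull (PicF.XTmap f g) (D f x) = D f (g ≫ x) :=
  (OD_comap _ (comap_gr f g x) (isEffCartier_gr f x) (isEffCartier_gr f _)).symm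

/-- A module inverse to the ideal of the diagonal gives the classes of all points. -/
theorem D_eq {LΔ : (PicF.XT f (Over.mk f)).Modules} (hLΔ : PicF.IsInvertible LΔ)
    (hΔ : ClSub.IsInverseOf LΔ (ClSub.idealMod (pullback.diagonal f).ker)) {T : Over S} (x : T ⟶ Over.mk f) :
    (D f x : PicF.Cl _) = PicF.pullCl (PicF.XTmap f x) (PicF.cl LΔ) := by
  have hd : gr f (𝟙 (Over.mk f)) = pullback.diagonal f := by
    apply pullback.hom_ext
    · exact (gr_fst f _).trans (pullback.diagonal_fst f).symm
    · exact (gr_snd f _).trans (pullback.diagonal_snd f).symm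
  have h : (D f (𝟙 (Over.mk f)) : PicF.Cl _) = PicF.cl LΔ := by
    refine (cl_mul_eq_one_iff hLΔ _).2 ?_
    rw [hd, ← H23.PicMul.cl_tensor]
    exact (PicGrp.cl_eq_cl_iff _ _).2 hΔ
  rw [← h, ← LB.pull_val, pull_D, Category.comp_id]

omit [SmoothOfRelativeDimension 1 f] in
theorem eq_of_ker {T : Over S} (x y : T ⟶ Over.mk f) (h : (gr f x).ker = (gr f y).ker) : x = y := by
  have hfac := IsClosedImmersion.lift_fac (gr f y) (gr f x) h.ge
  have hl : IsClosedImmersion.lift (gr f y) (gr f x) h.ge = 𝟙 T.left := by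
    have := congrArg (· ≫ PicF.XTproj f T) hfac
    simpa only [Category.assoc, gr_snd, Category.comp_id] using this
  rw [hl, Category.id_comp] at hfac
  apply Over.OverMorphism.ext
  rw [← gr_fst f x, ← gr_fst f y, hfac]

/-- On a curve over a field point the section of a point is not zero. -/
theorem pullTop_ne_zero {T T' : Over S} (g : T' ⟶ T) (hT' : Nonempty T'.left) (x : T ⟶ Over.mk f)
    {L : (PicF.XT f T).Modules} (hL : PicF.IsInvertible L) {s : Γ(L, ⊤)} (hs : Z s = (gr f x).ker) :
    pullTop (PicF.XTmap f g) s ≠ 0 := by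
  haveI : Nonempty (PicF.XT f T') := ⟨gr f (g ≫ x) hT'.some⟩
  refine ne_zero_of_isEffCartier (PicClLib.isInvertible_pullback _ hL) ?_
  rw [← comap_Z hL, hs, ← comap_gr]
  exact isEffCartier_gr f _

variable [GeometricallyConnected f] (hdim : ∀ s : S, topologicalKrullDim ↥(f.fiber s) = 1)
  (hg : ∀ s : S, 1 ≤ CohIII.fiberRank f (Coh.structureModule C) 1 s)
include hdim hg

/-- The divisor of a point has one section on every fibre. -/
theorem fibHh_D {T : Over S} (x : T ⟶ Over.mk f) (t : T.left) :
    fibHh (PicF.XTproj f T) t 0 (D f x : PicF.Cl _) = 1 := by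
  haveI : Smooth f := SmoothOfRelativeDimension.smooth 1 f
  let Ω : Type u := AlgebraicClosure (T.left.residueField t)
  let σ : Spec (CommRingCat.of Ω) ⟶ T.left :=
    Spec.map (CommRingCat.ofHom (algebraMap (T.left.residueField t) Ω)) ≫ T.left.fromSpecResidueField t
  have hσ : σ (IsLocalRing.closedPoint Ω) = t :=
    (Scheme.Hom.comp_apply _ _ _).trans (Scheme.fromSpecResidueField_apply _ _)
  let T' : Over S := AbDual.ovr T σ
  let g : T' ⟶ T := AbDual.ovrHom T σ
  let Y := PicF.XT f T'
  letI : Y.Over (Spec (CommRingCat.of Ω)) := ⟨PicF.XTproj f T'⟩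
  have hY : IsPullback (pullback.fst f T'.hom) (Y ↘ Spec (CommRingCat.of Ω)) f T'.hom :=
    IsPullback.of_hasPullback f T'.hom
  obtain ⟨hp, hsm, hgc, hint⟩ := fibre_facts f hY
  haveI := hp; haveI := hsm; haveI := hgc; haveI := hint
  have hd : topologicalKrullDim ↥Y = 1 := dim_fieldPoint f hdim hY
  have hgen : 1 ≤ Curv2.genus Ω Y := by
    rw [← hh_one_one (k := Ω) hd, Units.val_one, H23.PicMul.one_def]
    refine le_of_le_of_eq (hg (T'.hom (IsLocalRing.closedPoint Ω))) ?_
    have h1 := hh_eq_fibHh f (c := PicF.cl (Coh.structureModule C))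
      ⟨_, rfl, CurveDeg.isInvertible_structureModule⟩ _ (pullback.fst f T'.hom) (Y ↘ Spec (CommRingCat.of Ω))
      T'.hom hY rfl 1
    rw [← H23.PicMul.one_def, H23.PicMul.pullCl_one, H23.PicMul.one_def] at h1
    rw [h1, H23.PicMul.one_def]
    rfl
  let P : Pt Ω Y := ⟨gr f (g ≫ x), gr_snd f _⟩
  have hO : O hd P = LB.pull (PicF.XTmap f g) (D f x) := by
    rw [pull_D]
    rfl
  rw [← hh_eq_fibHh (PicF.XTproj f T) (c := (D f x : PicF.Cl _))
    (let ⟨L, hL, hc⟩ := (D f x).exists_rep; ⟨L, hc.symm, hL⟩) t (PicF.XTmap f g) (PicF.XTproj f T') σ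
    (RigDescent.isPullback_XTmap f g) hσ 0, ← LB.pull_val, ← hO]
  exact hh_O hd hgen P

/-- Points with the same class agree near every point of an affine Noetherian base. -/
theorem exists_away {A : Type u} [CommRing A] [IsNoetherianRing A] (b : Spec (CommRingCat.of A) ⟶ S)
    (x y : Over.mk b ⟶ Over.mk f) (hxy : D f x = D f y) (t : PrimeSpectrum A) :
    ∃ c : A, c ∉ t.asIdeal ∧
      Spec.map (CommRingCat.ofHom (algebraMap A (Localization.Away c))) ≫ x.left =
        Spec.map (CommRingCat.ofHom (algebraMap A (Localization.Away c))) ≫ y.left := by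
  haveI : Smooth f := SmoothOfRelativeDimension.smooth 1 f
  let T : Over S := Over.mk b
  let X := PicF.XT f T
  letI : X.Over (Spec (CommRingCat.of A)) := ⟨PicF.XTproj f T⟩
  haveI : IsProper (X ↘ Spec (CommRingCat.of A)) := inferInstanceAs (IsProper (pullback.snd f b))
  haveI : Flat (X ↘ Spec (CommRingCat.of A)) := inferInstanceAs (Flat (pullback.snd f b))
  obtain ⟨L, hL, hc⟩ := (D f x).exists_rep
  obtain ⟨s, hs⟩ := exists_sect (isEffCartier_gr f x) hL hc
  obtain ⟨s', hs'⟩ := exists_sect (isEffCartier_gr f y) hL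
    (show (D f y : PicF.Cl _) = PicF.cl L by rw [← hxy]; exact hc)
  let K := t.asIdeal.ResidueField
  let jk : Spec (CommRingCat.of K) ⟶ T.left := Spec.map (CommRingCat.ofHom (algebraMap A K))
  let gk : AbDual.ovr T jk ⟶ T := AbDual.ovrHom T jk
  have hne : Nonempty (AbDual.ovr T jk).left := inferInstanceAs (Nonempty (PrimeSpectrum K))
  obtain ⟨c, hct, hgen⟩ := LineSect.exists_generating (A := A) (X := X) hL s t (PicF.XTmap f gk)
    (PicF.XTproj f (AbDual.ovr T jk)) (RigDescent.isPullback_XTmap f gk) (by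
      letI : (PicF.XT f (AbDual.ovr T jk)).Over (Spec (CommRingCat.of K)) :=
        ⟨PicF.XTproj f (AbDual.ovr T jk)⟩
      show hh K 0 (PicF.pullCl (PicF.XTmap f gk) (PicF.cl L)) = 1
      rw [hh_eq_fibHh (PicF.XTproj f T) ⟨L, rfl, hL⟩ t (PicF.XTmap f gk) (PicF.XTproj f (AbDual.ovr T jk))
        jk (RigDescent.isPullback_XTmap f gk) (H23.Seesaw.range_specAlg t _) 0, ← hc]
      exact fibHh_D f hdim hg x t)
    (pullTop_ne_zero f gk hne x hL hs)
  let B := Localization.Away c
  let j : Spec (CommRingCat.of B) ⟶ T.left := Spec.map (CommRingCat.ofHom (algebraMap A B))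
  let T₂ : Over S := AbDual.ovr T j
  let g₂ : T₂ ⟶ T := AbDual.ovrHom T j
  let q := PicF.XTmap f g₂
  let pB : PicF.XT f T₂ ⟶ Spec (CommRingCat.of B) := PicF.XTproj f T₂
  have hG : Gen pB (pullTop q s) :=
    hgen B (IsLocalization.Away.algebraMap_isUnit c) _ q pB (RigDescent.isPullback_XTmap f g₂)
  obtain ⟨β, hβ⟩ := hG.1 (pullTop q s')
  have hL₂ := PicClLib.isInvertible_pullback q hL
  have hu : IsUnit β := by
    by_contra hu
    obtain ⟨P, hP, hβP⟩ := exists_max_ideal_of_mem_nonunits hu
    let t' : Spec (CommRingCat.of B) := ⟨P, hP.isPrime⟩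
    let T₃ : Over S := AbDual.ovr T₂ ((Spec (CommRingCat.of B)).fromSpecResidueField t')
    let g₃ : T₃ ⟶ T₂ := AbDual.ovrHom T₂ _
    have hne₃ : Nonempty T₃.left := inferInstanceAs (Nonempty (PrimeSpectrum _))
    have hz : (PicF.XTmap f g₃).appTop (show Γ(PicF.XT f T₂, ⊤) from Coh.toGlobal pB β) = 0 := by
      let m : PicF.XT f T₃ ⟶ pB.fiber t' :=
        pullback.lift (PicF.XTmap f g₃) (PicF.XTproj f T₃) (RigDescent.isPullback_XTmap f g₃).w
      rw [show PicF.XTmap f g₃ = m ≫ pB.fiberι t' from (pullback.lift_fst _ _ _).symm,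
        Scheme.Hom.comp_appTop]
      show m.appTop ((pB.fiberι t').appTop _) = 0
      rw [toGlobal_fiber_zero pB t' hβP, map_zero]
    refine pullTop_ne_zero f g₃ hne₃ (g₂ ≫ y) hL₂ (s := pullTop q s') ?_ ?_
    · rw [← comap_Z hL, hs', ← comap_gr]
    · rw [hβ, pullTop_smul, hz, zero_smul]
  have hker : (gr f (g₂ ≫ x)).ker = (gr f (g₂ ≫ y)).ker := by
    rw [comap_gr, comap_gr, ← hs, ← hs', comap_Z hL, comap_Z hL]
    show Z (pullTop q s) = Z (pullTop q s')
    rw [hβ]
    exact (Z_smul hL₂ (hu.map (Coh.toGlobal pB)) (pullTop q s)).symm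
  exact ⟨c, hct, congrArg (fun m => m.left) (eq_of_ker f _ _ hker)⟩

/-- Points with the same class agree near every point of an affine chart. -/
theorem exists_nhd {T : Over S} (x y : T ⟶ Over.mk f) (hxy : D f x = D f y) {A : Type u} [CommRing A]
    [IsNoetherianRing A] (j₀ : Spec (CommRingCat.of A) ⟶ T.left) [IsOpenImmersion j₀] (t₀ : PrimeSpectrum A) :
    ∃ V : T.left.Opens, j₀ t₀ ∈ V ∧ V.ι ≫ x.left = V.ι ≫ y.left := by
  let g : AbDual.ovr T j₀ ⟶ T := AbDual.ovrHom T j₀
  obtain ⟨c, hc, he⟩ := exists_away f hdim hg (j₀ ≫ T.hom) (g ≫ x) (g ≫ y)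
    (by rw [← pull_D, ← pull_D, hxy]) t₀
  let l : Spec (CommRingCat.of (Localization.Away c)) ⟶ Spec (CommRingCat.of A) :=
    Spec.map (CommRingCat.ofHom (algebraMap A (Localization.Away c)))
  haveI : IsOpenImmersion l := IsOpenImmersion.of_isLocalization c
  refine ⟨(l ≫ j₀).opensRange, ?_, ?_⟩
  · have : t₀ ∈ PrimeSpectrum.basicOpen c := hc
    rw [← SetLike.mem_coe, ← PrimeSpectrum.localization_away_comap_range (Localization.Away c) c] at this
    obtain ⟨z, hz⟩ := this
    exact ⟨z, (Scheme.Hom.comp_apply l j₀ z).trans (congrArg j₀ hz)⟩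
  · rw [← cancel_epi (l ≫ j₀).isoOpensRange.hom, ← Category.assoc, ← Category.assoc,
      Scheme.Hom.isoOpensRange_hom_ι, Category.assoc, Category.assoc]
    exact he

/-- Over a locally Noetherian base a point is determined by the class of its divisor. -/
theorem eq_of_D {T : Over S} [IsLocallyNoetherian T.left] (x y : T ⟶ Over.mk f) (hxy : D f x = D f y) :
    x = y := by
  have key : ∀ t : T.left, ∃ V : T.left.Opens, t ∈ V ∧ V.ι ≫ x.left = V.ι ≫ y.left := by
    intro t
    obtain ⟨W, hW, htW, -⟩ := exists_isAffineOpen_mem_and_subset (X := T.left) (x := t) (U := ⊤) trivial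
    haveI : IsNoetherianRing Γ(T.left, W) := IsLocallyNoetherian.component_noetherian ⟨W, hW⟩
    obtain ⟨t₀, rfl⟩ : t ∈ Set.range hW.fromSpec := hW.range_fromSpec.ge htW
    exact exists_nhd f hdim hg x y hxy (A := Γ(T.left, W)) hW.fromSpec t₀
  choose V hV hVe using key
  apply Over.OverMorphism.ext
  exact (T.left.openCoverOfIsOpenCover V (IsOpenCover.mk (eq_top_iff.mpr fun t _ =>
    Opens.mem_iSup.mpr ⟨t, hV t⟩))).hom_ext _ _ hVe

end Groth.Agent.PicFRel.AbelMono
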