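import Groth.Agent.QCoh.CechComparison
import Groth.Agent.H23.KunnethH1

/-!
# Cocycles of functions when the first cohomology vanishes

On a separated scheme with vanishing first cohomology of functions every cocycle of functions on an
affine cover is a coboundary.
-/

set_option autoImplicit false
set_option backward.isDefEq.respectTransparency false
set_option backward.isDefEq.respectTransparency.types false
set_option linter.style.haveILetI false

universe u

open CategoryTheory CategoryTheory.Limits AlgebraicGeometry TopologicalSpace Opposite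

namespace Groth.Agent.PicFRel.CechOne

open Groth.Agent.AModX Groth.Agent.H23.KunnethH1

variable {X : Scheme.{u}}

/-- An intersection of affine opens of a separated scheme is affine. -/
theorem isAffineOpen_iInf [X.IsSeparated] {J : Type u} (B : J → X.Opens) (hB : ∀ a, IsAffineOpen (B a))
    {p : ℕ} (σ : Fin (p + 1) → J) : IsAffineOpen (⨅ a, B (σ a)) := by
  have key : ∀ (s : Finset (Fin (p + 1))) (hs : s.Nonempty), IsAffineOpen (s.inf' hs fun a => B (σ a)) := by
    intro s hs
    refine Finset.inf'_induction hs _ (fun U hU V hV => IsAffineOpen.inf hU hV) fun a _ => hB (σ a)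
  have h : (⨅ a, B (σ a)) = Finset.univ.inf' Finset.univ_nonempty (fun a => B (σ a)) := by
    rw [Finset.inf'_eq_inf, Finset.inf_univ_eq_iInf]
  rw [h]
  exact key _ _

/-- Vanishing of the first cohomology of functions makes every cocycle a coboundary. -/
theorem isCobound [X.IsSeparated] (h1 : Subsingleton (Coh.HH X (Coh.structureModule X) 1)) {J : Type u}
    (B : J → X.Opens) (hB : ∀ a, IsAffineOpen (B a)) (hcov : ∀ x, ∃ a, x ∈ B a)
    (hO : Coh.IsQCoh (Coh.structureModule X))
    (c : ∀ a b, Γ(X, B a ⊓ B b)) (hc : IsCocycle B c) : IsCobound B c := by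
  let P : TopCat.Presheaf AddCommGrpCat.{u} X.toPresheafedSpace.carrier := (Coh.structureModule X).presheaf
  have hcov' : ⨆ a, B a = ⊤ := eq_top_iff.2 fun x _ => Opens.mem_iSup.2 (hcov x)
  obtain ⟨e⟩ := QCoh.cechH_equiv_HH B hcov' (fun σ => isAffineOpen_iInf B hB σ) hO 1
  haveI : Subsingleton ↑(CohB1.cechH B (Coh.structureModule X) 1) := e.toEquiv.subsingleton
  have hex : ((cechComplexFunctor B).obj P).ExactAt 1 := by
    rw [HomologicalComplex.exactAt_iff_isZero_homology]
    haveI : Subsingleton ↑(((cechComplexFunctor B).obj P).homology 1) :=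
      (‹Subsingleton ↑(CohB1.cechH B (Coh.structureModule X) 1)› :)
    exact AddCommGrpCat.isZero_of_subsingleton _
  rw [HomologicalComplex.exactAt_iff_isZero_homology,
    ← (HomologicalComplex.homologyMapIso (QCoh.Ab.cechIso P B) 1).isZero_iff,
    ← HomologicalComplex.exactAt_iff_isZero_homology,
    HomologicalComplex.exactAt_iff' _ 0 1 2 (by simp) (by simp), ShortComplex.ab_exact_iff] at hex
  simp only [HomologicalComplex.sc', HomologicalComplex.shortComplexFunctor'_obj_f,
    HomologicalComplex.shortComplexFunctor'_obj_g, QCoh.Ab.natCx_d] at hex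
  let z : QCoh.Ab.natCochains P B 2 := ⟨fun σ W => (resR (le_inf (W.2 0) (W.2 1)) (c (σ 0) (σ 1)) : Γ(X, W.1)),
    fun σ W W' h h' i => resR_resR (le_inf (h 0) (h 1)) i.le (c (σ 0) (σ 1))⟩
  have hz : QCoh.Ab.natD P B 1 z = 0 := by
    refine Subtype.ext (funext₂ fun σ W => ?_)
    show QCoh.Ab.d z.1 σ W = 0
    refine Eq.trans (Fin.sum_univ_three _) ?_
    show ((-1 : ℤ) ^ 0) • (resR _ (c (σ 1) (σ 2)) : Γ(X, W.1)) +
      ((-1 : ℤ) ^ 1) • (resR _ (c (σ 0) (σ 2)) : Γ(X, W.1)) +
      ((-1 : ℤ) ^ 2) • (resR _ (c (σ 0) (σ 1)) : Γ(X, W.1)) = (0 : Γ(X, W.1))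
    rw [← hc (σ 0) (σ 1) (σ 2) W.1 (le_inf (W.2 0) (W.2 1)) (le_inf (W.2 1) (W.2 2))
      (le_inf (W.2 0) (W.2 2))]
    simp
  obtain ⟨b, hb⟩ := hex z hz
  refine ⟨fun a => b.1 (fun _ => a) ⟨B a, fun _ => le_rfl⟩, fun a a' => ?_⟩
  have h := congrFun (congrFun (congrArg Subtype.val hb) ![a, a'])
    ⟨B a ⊓ B a', fun j => by fin_cases j; exacts [inf_le_left, inf_le_right]⟩
  have hb0 : ∀ (σ : Fin 1 → J) (W : X.Opens) (hW : ∀ j, W ≤ B (σ j)) (x : J) (hx : σ = fun _ => x) (hWx : W ≤ B x),
      b.1 σ ⟨W, hW⟩ = resR hWx (b.1 (fun _ => x) ⟨B x, fun _ => le_rfl⟩ : Γ(X, B x)) := by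
    rintro σ W hW x rfl hWx
    exact (b.2 (fun _ => x) (B x) W (fun _ => le_rfl) hW (homOfLE hWx)).symm
  change (∑ j : Fin 2, (-1 : ℤ) ^ (j : ℕ) • (show Γ(X, B a ⊓ B a') from
    (b.1 (fun i => ![a, a'] (j.succAbove i)) ⟨B a ⊓ B a', _⟩))) = _ at h
  rw [Fin.sum_univ_two] at h
  rw [hb0 _ _ _ a' (funext fun j => by fin_cases j; rfl) inf_le_right,
    hb0 _ _ _ a (funext fun j => by fin_cases j; rfl) inf_le_left] at h
  simp only [Fin.val_zero, Fin.val_one, pow_zero, pow_one, one_smul, neg_smul, ← sub_eq_add_neg] at h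
  refine Eq.trans ?_ h.symm
  show c a a' = resR _ (c a a')
  rw [resR_self]

end Groth.Agent.PicFRel.CechOne
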