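import Groth.Agent.JacTheta.Pic
import Groth.Agent.PicFRel.InvApprox

/-!
# The invertible classes of a scheme form a small set
-/

set_option autoImplicit false
set_option linter.style.haveILetI false
set_option backward.isDefEq.respectTransparency false
set_option backward.isDefEq.respectTransparency.types false

universe u

open CategoryTheory AlgebraicGeometry TopologicalSpace

noncomputable section

namespace Groth.Agent.PicFRel.ClSmall

open Groth.Agent Groth.Agent.JacTheta
open scoped Groth.Agent.H23.PicMul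

/-- Transition data on a cover indexed by the points. -/
abbrev Data (X : Scheme.{u}) : Type u :=
  Σ U : X → X.Opens, ∀ a b : X, Γ(X, U a ⊓ U b)

/-- The invertible classes of a scheme form a small set. -/
theorem small_LB (X : Scheme.{u}) : Small.{u} (LB X) := by
  have hd : ∀ c : LB X, ∃ D : Data X, ∃ (L : X.Modules) (e : ∀ a, Γ(L, D.1 a)),
      (c : PicF.Cl X) = PicF.cl L ∧ (∀ a, a ∈ D.1 a) ∧ (∀ a, InvX.IsFrame (e a)) ∧
      ∀ a b, AModX.res L (inf_le_left : D.1 a ⊓ D.1 b ≤ D.1 a) (e a) =
        D.2 a b • AModX.res L inf_le_right (e b) := fun c => by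
    obtain ⟨L, hL, hc⟩ := c.exists_rep
    choose U hU e he using fun x => InvX.exists_frame hL x
    obtain ⟨g, hg, -⟩ := InvApprox.exists_transition U e he
    exact ⟨⟨U, fun a b => (g a b : Γ(X, U a ⊓ U b))⟩, L, e, hc, hU, he, hg⟩
  choose D L e hc hU he hg using hd
  refine small_of_injective (f := D) fun c c' h => Units.ext ?_
  rw [hc c, hc c']
  refine (PicGrp.cl_eq_cl_iff _ _).2 ?_
  have key : ∀ D' : Data X, D' = D c → ∀ (e' : ∀ a, Γ(L c', D'.1 a)), (∀ a, InvX.IsFrame (e' a)) →
      (∀ a b, AModX.res (L c') (inf_le_left : D'.1 a ⊓ D'.1 b ≤ D'.1 a) (e' a) =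
        D'.2 a b • AModX.res (L c') inf_le_right (e' b)) → Nonempty (L c ≅ L c') := by
    rintro D' rfl e' he' hg'
    exact InvApprox.nonempty_iso_of_transition (D c).1 (fun x => ⟨x, hU c x⟩) (e c) e' (he c) he'
      (D c).2 (hg c) hg'
  exact key (D c') h.symm (e c') (he c') (hg c')

end Groth.Agent.PicFRel.ClSmall
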