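import Groth.Agent.PicFRel.CurveDiv
import Groth.Agent.FComplLib.IdealComap
import Mathlib.AlgebraicGeometry.Morphisms.FlatRank
import Mathlib.AlgebraicGeometry.Artinian

/-!
# Degrees of finite closed subschemes over a field, chart by chart
-/

set_option autoImplicit false

universe u

open CategoryTheory CategoryTheory.Limits AlgebraicGeometry TopologicalSpace Groth.Agent.FlatX
open scoped nonZeroDivisors

namespace Groth.Agent.PicFRel.CurveDiv

section RingLevel

variable (K : Type u) [Field K] (B : Type u) [CommRing B] [Algebra K B]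

/-- Dimensions add up along multiplication by a nonzero divisor. -/
theorem finrank_quot_mul {a b : B} (ha : a ∈ B⁰) [Module.Finite K (B ⧸ Ideal.span {a * b})] :
    Module.finrank K (B ⧸ Ideal.span {a * b}) =
      Module.finrank K (B ⧸ Ideal.span {a}) + Module.finrank K (B ⧸ Ideal.span {b}) := by
  have h := ((projQ a b).restrictScalars K).finrank_range_add_finrank_ker
  have h2 := LinearEquiv.finrank_eq
    (LinearEquiv.ofInjective ((mulQ a b).restrictScalars K) (mulQ_injective a b ha))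
  have h3 : LinearMap.ker ((projQ a b).restrictScalars K) =
      LinearMap.range ((mulQ a b).restrictScalars K) :=
    LinearMap.exact_iff.mp (exact_seq a b)
  have h4 : LinearMap.range ((projQ a b).restrictScalars K) = ⊤ :=
    LinearMap.range_eq_top.mpr (projQ_surjective a b)
  rw [h3, h4, finrank_top, ← h2] at h
  exact h.symm

lemma rank_of_field {K B : Type u} [Field K] [CommRing B] (φ : K →+* B) (s : PrimeSpectrum K) :
    φ.finrank s = @Module.finrank K B _ _ φ.toAlgebra.toModule := by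
  let := φ.toAlgebra
  have h := congrFun (Module.rankAtStalk_eq_finrank_of_free (R := K) (M := B)) s
  exact h

end RingLevel

lemma bijective_restrict {D : Scheme.{u}} {ι : Type u} [Finite ι] (W : ι → D.Opens)
    (hdis : ∀ i j, i ≠ j → W i ⊓ W j = ⊥) (hcov : ⊤ ≤ iSup W) :
    Function.Bijective (RingHom.pi fun i =>
      (D.presheaf.map (homOfLE (le_top : W i ≤ ⊤)).op).hom : Γ(D, ⊤) →+* Π i, Γ(D, W i)) := by
  constructor
  · intro s t h
    exact D.sheaf.eq_of_locally_eq' W ⊤ (fun i => homOfLE le_top) hcov s t fun i => congrFun h i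
  · intro sf
    have hc : TopCat.Presheaf.IsCompatible D.sheaf.1 W sf := by
      intro i j
      rcases eq_or_ne i j with rfl | hij
      · rfl
      · refine D.sheaf.eq_of_locally_eq' (fun x : PEmpty.{u + 1} => (⊥ : D.Opens)) _
          (fun x => x.elim) (by rw [hdis i j hij]; exact bot_le) _ _ fun x => x.elim
    obtain ⟨s, hs, -⟩ := D.sheaf.existsUnique_gluing' W ⊤ (fun i => homOfLE le_top) hcov sf hc
    exact ⟨s, funext hs⟩

variable {K : Type u} [Field K] {X : Scheme.{u}} (f : X ⟶ Spec (CommRingCat.of K))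
  (I : X.IdealSheafData)

/-- The `K`-algebra structure on the coordinate ring of a piece of a closed subscheme. -/
noncomputable def structQ (V : X.affineOpens) : K →+* Γ(X, V.1) ⧸ I.ideal V :=
  (quotApp f I ⟨⊤, isAffineOpen_top _⟩ V le_top).comp (Scheme.ΓSpecIso (CommRingCat.of K)).inv.hom

/-- Dimension of the coordinate ring of a piece of a closed subscheme. -/
noncomputable def dimQ (V : X.affineOpens) : ℕ :=
  @Module.finrank K (Γ(X, V.1) ⧸ I.ideal V) _ _ (structQ f I V).toAlgebra.toModule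

/-- A finite closed subscheme over a field is counted by any finite family of affine opens meeting
it in disjoint pieces. -/
theorem finrank_eq_sum [hfin : IsFinite (I.subschemeι ≫ f)] [hfl : Flat (I.subschemeι ≫ f)]
    {ι : Type u} [Fintype ι] (V : ι → X.affineOpens)
    (hdis : ∀ i j, i ≠ j → I.subschemeι ⁻¹ᵁ (V i).1 ⊓ I.subschemeι ⁻¹ᵁ (V j).1 = ⊥)
    (hcov : ∀ d : I.subscheme, ∃ i, I.subschemeι d ∈ (V i).1) (s : Spec (CommRingCat.of K)) :
    (I.subschemeι ≫ f).finrank s = ∑ i, dimQ f I (V i) ∧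
      ∀ i, @Module.Finite K (Γ(X, (V i).1) ⧸ I.ideal (V i)) _ _
        (structQ f I (V i)).toAlgebra.toModule := by
  classical
  let g := I.subschemeι ≫ f
  have : IsAffine I.subscheme := isAffine_of_isAffineHom g
  let φ : CommRingCat.of K ⟶ Γ(I.subscheme, ⊤) := (Scheme.ΓSpecIso (CommRingCat.of K)).inv ≫ g.appTop
  have hg : g = I.subscheme.isoSpec.hom ≫ Spec.map φ := by
    rw [Spec.map_comp, Scheme.isoSpec_hom_naturality_assoc, Scheme.isoSpec_Spec_hom,
      ← Spec.map_comp, Iso.inv_hom_id, Spec.map_id, Category.comp_id]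
  have hinv : Spec.map φ = I.subscheme.isoSpec.inv ≫ g := by rw [hg, Iso.inv_hom_id_assoc]
  have : IsFinite g := hfin
  have : Flat g := hfl
  have hmap : IsFinite (Spec.map φ) := hinv ▸ (inferInstance : IsFinite (_ ≫ g))
  have hmapF : Flat (Spec.map φ) := hinv ▸ (inferInstance : Flat (_ ≫ g))
  have hφfin : φ.hom.Finite := (IsFinite.SpecMap_iff φ).mp hmap
  have hrank : g.finrank s = @Module.finrank K Γ(I.subscheme, ⊤) _ _ φ.hom.toAlgebra.toModule := by
    rw [hg, Scheme.Hom.finrank_comp_left_of_isIso,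
      Scheme.Hom.finrank_SpecMap_eq_finrank hφfin (Flat.SpecMap_iff.mp hmapF)]
    exact rank_of_field φ.hom s
  let W := fun i => I.subschemeι ⁻¹ᵁ (V i).1
  let E : Γ(I.subscheme, ⊤) ≃+* Π i, Γ(X, (V i).1) ⧸ I.ideal (V i) :=
    (RingEquiv.ofBijective _ (bijective_restrict W hdis fun d _ => by
      obtain ⟨i, hi⟩ := hcov d
      exact Opens.mem_iSup.mpr ⟨i, hi⟩)).trans
    (RingEquiv.piCongrRight fun i =>
      ((Ideal.quotEquivOfEq (I.ker_subschemeι_app (V i))).symm.trans
        (RingHom.quotientKerEquivOfSurjective (I.subschemeι_app_surjective (V i)))).symm)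
  let : Algebra K Γ(I.subscheme, ⊤) := φ.hom.toAlgebra
  let : ∀ i, Algebra K (Γ(X, (V i).1) ⧸ I.ideal (V i)) := fun i => (structQ f I (V i)).toAlgebra
  have hcomm : ∀ k : K, E (φ.hom k) = fun i => structQ f I (V i) k := by
    intro k
    funext i
    simp only [E, RingEquiv.trans_apply, RingEquiv.piCongrRight_apply, RingEquiv.coe_ofBijective,
      RingHom.pi_apply]
    rw [RingEquiv.symm_apply_eq]
    change (g.appTop ≫ I.subscheme.presheaf.map (homOfLE (le_top : W i ≤ ⊤)).op).hom _ =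
      (I.subschemeι.app (V i).1).hom ((f.appLE ⊤ (V i).1 le_top).hom _)
    rw [← CommRingCat.comp_apply]
    exact congr($(show g.appTop ≫ I.subscheme.presheaf.map (homOfLE (le_top : W i ≤ ⊤)).op =
        f.appLE ⊤ (V i).1 le_top ≫ I.subschemeι.app (V i).1 by
      rw [Scheme.Hom.app_eq_appLE]
      exact (Scheme.Hom.appLE_comp_appLE (I.subschemeι) f ⊤ (V i).1 (W i) le_top le_rfl).symm).hom _)
  let L : Γ(I.subscheme, ⊤) ≃ₗ[K] Π i, Γ(X, (V i).1) ⧸ I.ideal (V i) :=
    { E.toAddEquiv with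
      map_smul' := fun k x => by
        change E (φ.hom k * x) = _
        rw [map_mul, hcomm]
        rfl }
  have : Module.Finite K Γ(I.subscheme, ⊤) := hφfin
  have : Module.Finite K (Π i, Γ(X, (V i).1) ⧸ I.ideal (V i)) := Module.Finite.equiv L
  have hfinV : ∀ i, Module.Finite K (Γ(X, (V i).1) ⧸ I.ideal (V i)) := fun i =>
    Module.Finite.of_surjective (LinearMap.proj i : (Π i, Γ(X, (V i).1) ⧸ I.ideal (V i)) →ₗ[K] _)
      (Function.surjective_eval i)
  refine ⟨?_, hfinV⟩
  rw [hrank, L.finrank_eq, Module.finrank_pi_fintype]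
  rfl

lemma mem_range_of_le {I J : X.IdealSheafData} (h : I ≤ J) (d : J.subscheme) :
    ∃ d' : I.subscheme, I.subschemeι d' = J.subschemeι d := by
  refine ⟨Scheme.IdealSheafData.inclusion h d, ?_⟩
  rw [← Scheme.Hom.comp_apply, Scheme.IdealSheafData.inclusion_subschemeι]

/-- Degrees add under sums of effective Cartier divisors, over a field. -/
theorem finrank_mul_field (I J : X.IdealSheafData) (hI : BlowUp.IsEffCartierIdeal I)
    (hJ : BlowUp.IsEffCartierIdeal J) [IsFinite (I.subschemeι ≫ f)] [Flat (I.subschemeι ≫ f)]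
    [IsFinite (J.subschemeι ≫ f)] [Flat (J.subschemeι ≫ f)]
    [IsFinite ((I * J).subschemeι ≫ f)] [Flat ((I * J).subschemeι ≫ f)]
    (s : Spec (CommRingCat.of K)) :
    ((I * J).subschemeι ≫ f).finrank s =
      (I.subschemeι ≫ f).finrank s + (J.subschemeι ≫ f).finrank s := by
  classical
  let D := (I * J).subscheme
  have : IsLocallyArtinian D := IsLocallyArtinian.of_locallyQuasiFinite ((I * J).subschemeι ≫ f)
  have : DiscreteTopology D := inferInstance
  have : CompactSpace D := QuasiCompact.compactSpace_of_compactSpace ((I * J).subschemeι ≫ f)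
  have : Finite D := finite_of_compact_of_discrete
  have := Fintype.ofFinite D
  have hinj := (I * J).subschemeι.isClosedEmbedding.injective
  have hch : ∀ d : D, ∃ V : X.affineOpens, LocGen I V ∧ LocGen J V ∧
      ∀ d' : D, (I * J).subschemeι d' ∈ V.1 ↔ d' = d := by
    intro d
    let O : X.Opens := ⟨((I * J).subschemeι '' {d}ᶜ)ᶜ, isOpen_compl_iff.mpr
      ((I * J).subschemeι.isClosedEmbedding.isClosedMap _ (isClosed_discrete _))⟩
    have hd : (I * J).subschemeι d ∈ O := by
      rintro ⟨d', hd', he⟩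
      exact hd' (hinj he)
    obtain ⟨V, hdV, hVO, hVI, hVJ⟩ := exists_locGen₂ hI hJ hd
    exact ⟨V, hVI, hVJ, fun d' => ⟨fun h => by_contra fun hne => hVO h ⟨d', hne, rfl⟩,
      fun h => h ▸ hdV⟩⟩
  choose V hVI hVJ hV using hch
  have hle₁ : I * J ≤ I := fun U => by
    rw [Scheme.IdealSheafData.ideal_mul, Pi.mul_apply]; exact Ideal.mul_le_left (I := I.ideal U) (J := J.ideal U)
  have hle₂ : I * J ≤ J := fun U => by
    rw [Scheme.IdealSheafData.ideal_mul, Pi.mul_apply]; exact Ideal.mul_le_right (I := I.ideal U) (J := J.ideal U)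
  have hdis : ∀ (M : X.IdealSheafData), I * J ≤ M → ∀ i j, i ≠ j →
      M.subschemeι ⁻¹ᵁ (V i).1 ⊓ M.subschemeι ⁻¹ᵁ (V j).1 = ⊥ := fun M hM i j hij =>
    eq_bot_iff.mpr fun d hd => by
      obtain ⟨h1, h2⟩ := hd
      obtain ⟨d', hd'⟩ := mem_range_of_le hM d
      exact (hij (((hV i d').mp (hd' ▸ h1)).symm.trans ((hV j d').mp (hd' ▸ h2)))).elim
  have hcov : ∀ (M : X.IdealSheafData), I * J ≤ M → ∀ d : M.subscheme,
      ∃ i, M.subschemeι d ∈ (V i).1 := fun M hM d => by
    obtain ⟨d', hd'⟩ := mem_range_of_le hM d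
    exact ⟨d', hd' ▸ (hV d' d').mpr rfl⟩
  obtain ⟨e, hfinV⟩ := finrank_eq_sum f (I * J) V (hdis _ le_rfl) (hcov _ le_rfl) s
  rw [e, (finrank_eq_sum f I V (hdis _ hle₁) (hcov _ hle₁) s).1,
    (finrank_eq_sum f J V (hdis _ hle₂) (hcov _ hle₂) s).1, ← Finset.sum_add_distrib]
  refine Finset.sum_congr rfl fun d _ => ?_
  obtain ⟨a, ha, hIa⟩ := hVI d
  obtain ⟨b, -, hJb⟩ := hVJ d
  let φ := (f.appLE ⊤ (V d).1 le_top).hom.comp (Scheme.ΓSpecIso (CommRingCat.of K)).inv.hom
  let : Algebra K Γ(X, (V d).1) := φ.toAlgebra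
  have hIJ : (I * J).ideal (V d) = Ideal.span {a * b} := by
    rw [Scheme.IdealSheafData.ideal_mul, Pi.mul_apply, hIa, hJb,
      Ideal.span_singleton_mul_span_singleton]
  have : Module.Finite K (Γ(X, (V d).1) ⧸ Ideal.span {a * b}) := hIJ ▸ hfinV d
  change Module.finrank K (Γ(X, (V d).1) ⧸ (I * J).ideal (V d)) =
    Module.finrank K (Γ(X, (V d).1) ⧸ I.ideal (V d)) +
      Module.finrank K (Γ(X, (V d).1) ⧸ J.ideal (V d))
  rw [hIJ, hIa, hJb]
  exact finrank_quot_mul K _ ha

end Groth.Agent.PicFRel.CurveDiv
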