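import Groth.Agent.PicFRel.CurveDivSum
import Groth.Agent.ModPairLib.Quot

/-!
# Differences of relative divisors on smooth relative curves
-/

set_option autoImplicit false

universe u

open CategoryTheory AlgebraicGeometry

namespace Groth.Agent.PicFRel.CurveDiv

variable {X S : Scheme.{u}} (f : X ⟶ S)

theorem exists_diff [SmoothOfRelativeDimension 1 f] (I₁ I₂ : X.IdealSheafData) (hle : I₂ ≤ I₁)
    {d₁ d₂ : ℕ} (h₁ : Mor2.IsFinLocFreeOfDeg d₁ (I₁.subschemeι ≫ f))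
    (h₂ : Mor2.IsFinLocFreeOfDeg d₂ (I₂.subschemeι ≫ f)) :
    ∃ I : X.IdealSheafData, Mor2.IsFinLocFreeOfDeg (d₂ - d₁) (I.subschemeι ≫ f) ∧ I₂ = I₁ * I := by
  obtain ⟨c₁, f₁⟩ := of_isFinLocFree h₁.1
  obtain ⟨c₂, f₂⟩ := of_isFinLocFree h₂.1
  let I := ModPairLib.colon I₂ I₁ (ModPairLib.isLocPrincipal_of_isEffCartier c₁)
  have e : I₁ * I = I₂ := (mul_comm _ _).trans (ModPairLib.colon_mul c₁ hle)
  have cI : BlowUp.IsEffCartierIdeal I := ModPairLib.isEffCartier_of_mul c₁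
    (by rw [mul_comm, e]; exact c₂)
  have fI := FlatX.flat_cancel f c₁ cI f₁ f₂ e
  obtain ⟨qI, pI⟩ := quasiFinite_and_fp cI fI
  have hI2 : I₂ ≤ I := e ▸ mul_le_right' I₁ I
  let a := Scheme.IdealSheafData.inclusion hI2
  have : IsClosedImmersion (a ≫ I₂.subschemeι) := by
    rw [Scheme.IdealSheafData.inclusion_subschemeι]; infer_instance
  have : IsClosedImmersion a := .of_comp a I₂.subschemeι
  have : IsFinite (I₂.subschemeι ≫ f) := h₂.1.1
  have hfin : IsFinite (I.subschemeι ≫ f) := by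
    rw [← Scheme.IdealSheafData.inclusion_subschemeι hI2, Category.assoc]
    infer_instance
  refine ⟨I, ⟨⟨hfin, fI, pI⟩, fun s => ?_⟩, e.symm⟩
  have h := finrank_mul f I₁ I h₁.1 ⟨hfin, fI, pI⟩ s
  rw [e, h₁.2, h₂.2] at h
  omega

end Groth.Agent.PicFRel.CurveDiv
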