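import Mathlib.RingTheory.RingHom.StandardSmooth
import Mathlib.RingTheory.Unramified.LocalRing
import Mathlib.RingTheory.Etale.Basic
import Mathlib.RingTheory.Smooth.Flat
import Mathlib.RingTheory.Jacobson.Artinian
import Mathlib.RingTheory.Filtration
import Mathlib.RingTheory.Flat.TorsionFree
import Mathlib.RingTheory.Polynomial.UniqueFactorization

/-!
# Smooth curves over a field: local generators of finite ideals

`B` is standard smooth of relative dimension one over a field `κ`.
-/

set_option autoImplicit false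

universe u

open IsLocalRing
open scoped nonZeroDivisors

namespace Groth.Agent.PicFRel.CurveDiv

variable {R : Type u} [CommRing R] [IsLocalRing R] [IsNoetherianRing R]

lemma eq_pow_mul_unit {π : R} (hmax : maximalIdeal R = Ideal.span {π}) {x : R} (hx : x ≠ 0) :
    ∃ (n : ℕ) (v : Rˣ), x = π ^ n * v := by
  classical
  have hex : ∃ n, ¬ π ^ n ∣ x := by
    by_contra! h
    refine hx ?_
    have hm := Ideal.iInf_pow_eq_bot_of_isLocalRing _ (maximalIdeal.isMaximal R).ne_top
    rw [← Ideal.mem_bot, ← hm, Submodule.mem_iInf]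
    intro n
    rw [hmax, Ideal.span_singleton_pow, Ideal.mem_span_singleton]
    exact h n
  have hspec := Nat.find_spec hex
  obtain ⟨n, hn⟩ : ∃ n, Nat.find hex = n + 1 :=
    Nat.exists_eq_succ_of_ne_zero fun h0 => hspec (by rw [h0]; simp)
  obtain ⟨v, hv⟩ : π ^ n ∣ x := not_not.1 (Nat.find_min hex (by omega))
  have hu : IsUnit v := notMem_maximalIdeal.1 fun hm => by
    rw [hmax, Ideal.mem_span_singleton] at hm
    obtain ⟨w, rfl⟩ := hm
    exact hspec ⟨w, hv.trans (by rw [hn]; ring)⟩
  exact ⟨n, hu.unit, hv⟩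

/-- Among elements of a local ring whose maximal ideal is principal, some nonzero divisor divides
all the others, as soon as they are not all zero. -/
lemma exists_dvd_all {π : R} (hmax : maximalIdeal R = Ideal.span {π}) (hπ : π = 0 ∨ π ∈ R⁰)
    (T : Set R) (hT : ∃ s ∈ T, s ≠ 0) : ∃ g ∈ T, g ∈ R⁰ ∧ ∀ s ∈ T, g ∣ s := by
  classical
  have hex : ∃ n, ∃ s ∈ T, ∃ v : Rˣ, s = π ^ n * v := by
    obtain ⟨s, hs, hs0⟩ := hT
    obtain ⟨n, v, hv⟩ := eq_pow_mul_unit hmax hs0
    exact ⟨n, s, hs, v, hv⟩
  obtain ⟨g, hg, v, hv⟩ := Nat.find_spec hex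
  refine ⟨g, hg, ?_, fun s hs => ?_⟩
  · rw [hv]
    refine mul_mem ?_ v.isUnit.mem_nonZeroDivisors
    rcases hπ with h | h
    · obtain ⟨s, hs, hs0⟩ := hT
      obtain ⟨n, w, hw⟩ := eq_pow_mul_unit hmax hs0
      rcases Nat.eq_zero_or_pos n with rfl | hn
      · have : Nat.find hex = 0 := Nat.le_zero.1 (Nat.find_le ⟨s, hs, w, hw⟩)
        rw [this, pow_zero]; exact one_mem _
      · exact absurd (by rw [hw, h, zero_pow hn.ne', zero_mul]) hs0
    · exact pow_mem h _
  · rcases eq_or_ne s 0 with rfl | hs0
    · exact dvd_zero g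
    · obtain ⟨n, w, hw⟩ := eq_pow_mul_unit hmax hs0
      rw [hv, hw, Units.mul_right_dvd, Units.dvd_mul_right]
      exact pow_dvd_pow π (Nat.find_le ⟨s, hs, w, hw⟩)

/-- In a local ring with principal maximal ideal a prime containing a nonzero element of the
maximal ideal is maximal. -/
lemma eq_maximalIdeal_of_mem {π : R} (hmax : maximalIdeal R = Ideal.span {π}) (P : Ideal R)
    [hP : P.IsPrime] {g : R} (hg : g ≠ 0) (hgP : g ∈ P) : P = maximalIdeal R := by
  refine le_antisymm (le_maximalIdeal hP.ne_top) ?_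
  rw [hmax, Ideal.span_le, Set.singleton_subset_iff]
  obtain ⟨n, v, rfl⟩ := eq_pow_mul_unit hmax hg
  rcases hP.mem_or_mem hgP with h | h
  · exact hP.mem_of_pow_mem n h
  · exact absurd (Ideal.eq_top_of_isUnit_mem P h v.isUnit) hP.ne_top

variable (κ : Type u) [Field κ] (B : Type u) [CommRing B] [Algebra κ B]
  [Algebra.IsStandardSmoothOfRelativeDimension 1 κ B]

lemma exists_etale_polynomial : ∃ φ : Polynomial κ →ₐ[κ] B, φ.toRingHom.Etale := by
  obtain ⟨g, hg⟩ := Algebra.IsStandardSmoothOfRelativeDimension.exists_etale_mvPolynomial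
    (n := 1) κ B
  refine ⟨g.comp (MvPolynomial.uniqueAlgEquiv κ (Fin 1)).symm.toAlgHom, ?_⟩
  exact RingHom.Etale.respectsIso.2 g.toRingHom
    (MvPolynomial.uniqueAlgEquiv κ (Fin 1)).symm.toRingEquiv hg

include κ in
lemma isNoetherianRing : IsNoetherianRing B := by
  obtain ⟨φ, hφ⟩ := exists_etale_polynomial κ B
  algebraize [φ.toRingHom]
  have : Algebra.Etale (Polynomial κ) B := hφ
  exact Algebra.FiniteType.isNoetherianRing (Polynomial κ) B

include κ in
lemma exists_uniformizer (q : Ideal B) [q.IsPrime] : ∃ π : Localization.AtPrime q,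
    maximalIdeal (Localization.AtPrime q) = Ideal.span {π} ∧
      (π = 0 ∨ π ∈ (Localization.AtPrime q)⁰) := by
  obtain ⟨φ, hφ⟩ := exists_etale_polynomial κ B
  algebraize [φ.toRingHom]
  have : Algebra.Etale (Polynomial κ) B := hφ
  let p : Ideal (Polynomial κ) := q.under (Polynomial κ)
  let := Localization.AtPrime.algebraOfLiesOver p q
  have : Algebra.FormallyUnramified B (Localization.AtPrime q) :=
    .of_isLocalization q.primeCompl
  have : Algebra.FormallyUnramified (Polynomial κ) (Localization.AtPrime q) := .comp _ B _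
  have : Algebra.FormallyUnramified (Localization.AtPrime p) (Localization.AtPrime q) :=
    .of_restrictScalars (Polynomial κ) _ _
  have : Algebra.EssFiniteType (Polynomial κ) (Localization.AtPrime q) := .comp _ B _
  have : Algebra.EssFiniteType (Localization.AtPrime p) (Localization.AtPrime q) :=
    .of_comp (Polynomial κ) _ _
  have hm := Algebra.FormallyUnramified.map_maximalIdeal (R := Localization.AtPrime p)
    (S := Localization.AtPrime q)
  rw [← Localization.AtPrime.map_eq_maximalIdeal, Ideal.map_map,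
    ← IsScalarTower.algebraMap_eq] at hm
  refine ⟨algebraMap (Polynomial κ) _ (Submodule.IsPrincipal.generator p), ?_, ?_⟩
  · conv_lhs => rw [← hm, ← Ideal.span_singleton_generator p]
    rw [Ideal.map_span, Set.image_singleton]
  · rcases eq_or_ne (Submodule.IsPrincipal.generator p) 0 with h | h
    · exact .inl (by rw [h, map_zero])
    · have : Module.Flat B (Localization.AtPrime q) := IsLocalization.flat _ q.primeCompl
      have : Module.Flat (Polynomial κ) (Localization.AtPrime q) := .trans _ B _
      refine .inr ((mem_nonZeroDivisors_iff_right).2 fun x hx => ?_)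
      refine Module.Flat.isSMulRegular_of_nonZeroDivisors (M := Localization.AtPrime q)
        (mem_nonZeroDivisors_of_ne_zero h) ?_
      show Submodule.IsPrincipal.generator p • x = Submodule.IsPrincipal.generator p • (0 : Localization.AtPrime q)
      rw [smul_zero, Algebra.smul_def, mul_comm, hx]

include κ in
/-- An ideal with finite quotient is nonzero at every prime containing it. -/
lemma exists_map_ne_zero (T : Set B) (hfin : Module.Finite κ (B ⧸ Ideal.span T))
    (q : Ideal B) [q.IsPrime] :
    ∃ s ∈ T, algebraMap B (Localization.AtPrime q) s ≠ 0 := by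
  classical
  by_contra! h
  have := isNoetherianRing κ B
  obtain ⟨G, hG⟩ := (Ideal.span T).fg_of_isNoetherianRing
  have hker : ∀ x ∈ Ideal.span T, ∃ c : q.primeCompl, (c : B) * x = 0 := fun x hx =>
    (IsLocalization.map_eq_zero_iff q.primeCompl (Localization.AtPrime q) x).1 <| by
      have hle : Ideal.span T ≤ RingHom.ker (algebraMap B (Localization.AtPrime q)) :=
        Ideal.span_le.2 fun t ht => h t ht
      exact hle hx
  choose! c hc using fun x (hx : x ∈ G) => hker x (hG ▸ Ideal.subset_span hx)
  let s : q.primeCompl := ∏ x ∈ G, c x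
  have hs : ∀ x ∈ Ideal.span T, (s : B) * x = 0 := fun x hx => by
    rw [← hG, Submodule.mem_span_finset] at hx
    obtain ⟨b', -, rfl⟩ := hx
    rw [Finset.mul_sum]
    refine Finset.sum_eq_zero fun y hy => ?_
    rw [smul_eq_mul, mul_left_comm,
      show s = c y * ∏ z ∈ G.erase y, c z from (Finset.mul_prod_erase G c hy).symm,
      Submonoid.coe_mul, mul_right_comm _ _ y, hc y hy, zero_mul, mul_zero]
  obtain ⟨φ, hφ⟩ := exists_etale_polynomial κ B
  algebraize [φ.toRingHom]
  have : Algebra.Etale (Polynomial κ) B := hφ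
  -- a nonzero polynomial killed in the quotient
  let ψ : Polynomial κ →ₐ[κ] B ⧸ Ideal.span T := (Ideal.Quotient.mkₐ κ _).comp φ
  obtain ⟨f, hf0, hf⟩ : ∃ f : Polynomial κ, f ≠ 0 ∧ ψ f = 0 := by
    by_contra! hinj
    have hi : Function.Injective ψ.toLinearMap := (injective_iff_map_eq_zero _).2 fun f hf =>
      by_contra fun hne => hinj f hne hf
    have : Module.Finite κ (Polynomial κ) := Module.Finite.of_injective ψ.toLinearMap hi
    exact Polynomial.not_finite this
  have hfs : φ f * (s : B) = 0 := by
    rw [mul_comm]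
    exact hs _ (Ideal.Quotient.eq_zero_iff_mem.1 hf)
  have : (s : B) = 0 := by
    refine Module.Flat.isSMulRegular_of_nonZeroDivisors (M := B)
      (mem_nonZeroDivisors_of_ne_zero hf0) ?_
    show f • (s : B) = f • (0 : B)
    rw [smul_zero, Algebra.smul_def]
    exact hfs
  exact s.2 (this ▸ q.zero_mem)

include κ in
/-- At every prime an ideal with finite quotient is generated, among any set of generators, by one
nonzero divisor. -/
theorem exists_gen_fibre (T : Set B) (hfin : Module.Finite κ (B ⧸ Ideal.span T))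
    (q : Ideal B) [q.IsPrime] :
    ∃ g ∈ T, algebraMap B (Localization.AtPrime q) g ∈ (Localization.AtPrime q)⁰ ∧
      ∀ t ∈ T, algebraMap B (Localization.AtPrime q) g ∣ algebraMap B (Localization.AtPrime q) t := by
  have := isNoetherianRing κ B
  have : IsNoetherianRing (Localization.AtPrime q) :=
    IsLocalization.isNoetherianRing q.primeCompl _ inferInstance
  obtain ⟨π, hmax, hπ⟩ := exists_uniformizer κ B q
  obtain ⟨s, hs, hs0⟩ := exists_map_ne_zero κ B T hfin q
  obtain ⟨g, ⟨g, hgT, rfl⟩, hg, hdvd⟩ := exists_dvd_all hmax hπ (algebraMap B _ '' T)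
    ⟨_, ⟨s, hs, rfl⟩, hs0⟩
  exact ⟨g, hgT, hg, fun t ht => hdvd _ ⟨t, ht, rfl⟩⟩

include κ in
/-- A nonzero divisor cuts a finite scheme on a smooth curve. -/
theorem finite_quotient_of_mem_nonZeroDivisors (g : B) (hg : g ∈ B⁰) :
    Module.Finite κ (B ⧸ Ideal.span {g}) := by
  have := isNoetherianRing κ B
  have : Algebra.IsStandardSmooth κ B :=
    Algebra.IsStandardSmoothOfRelativeDimension.isStandardSmooth 1
  have : Algebra.FiniteType κ (B ⧸ Ideal.span {g}) :=
    (inferInstance : Algebra.FiniteType κ B).of_surjective (Ideal.Quotient.mkₐ κ _)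
      Ideal.Quotient.mk_surjective
  rw [Module.finite_iff_krullDimLE_zero, Ring.krullDimLE_zero_iff]
  intro P hP
  let q := P.comap (Ideal.Quotient.mk (Ideal.span {g}))
  have hgq : g ∈ q := by
    simp [q, Ideal.mem_comap, Ideal.Quotient.eq_zero_iff_mem.2 (Ideal.mem_span_singleton_self g)]
  suffices q.IsMaximal by
    refine (Ideal.map_comap_of_surjective _ Ideal.Quotient.mk_surjective P) ▸
      (Ideal.map_eq_top_or_isMaximal_of_surjective _ Ideal.Quotient.mk_surjective this).resolve_left ?_
    rw [Ideal.map_comap_of_surjective _ Ideal.Quotient.mk_surjective]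
    exact hP.ne_top
  obtain ⟨m, hm, hle⟩ := Ideal.exists_le_maximal q (Ideal.IsPrime.ne_top inferInstance)
  have : IsNoetherianRing (Localization.AtPrime m) :=
    IsLocalization.isNoetherianRing m.primeCompl _ inferInstance
  obtain ⟨π, hmax, hπ⟩ := exists_uniformizer κ B m
  have hdis : Disjoint (m.primeCompl : Set B) q := Set.disjoint_left.2 fun _ ha hb => ha (hle hb)
  have hne : algebraMap B (Localization.AtPrime m) g ≠ 0 := fun h0 => by
    obtain ⟨c, hc⟩ := (IsLocalization.map_eq_zero_iff m.primeCompl _ g).1 h0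
    exact c.2 ((mem_nonZeroDivisors_iff_right.1 hg c hc).symm ▸ m.zero_mem)
  have : (q.map (algebraMap B (Localization.AtPrime m))).IsPrime :=
    IsLocalization.isPrime_of_isPrime_disjoint m.primeCompl _ q inferInstance hdis
  have heq := eq_maximalIdeal_of_mem hmax (q.map (algebraMap B (Localization.AtPrime m))) hne
    (Ideal.mem_map_of_mem _ hgq)
  have hq : q = m := by
    rw [← IsLocalization.under_map_of_isPrime_disjoint m.primeCompl (Localization.AtPrime m)
      inferInstance hdis, heq]
    exact IsLocalization.AtPrime.comap_maximalIdeal _ m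
  exact hq ▸ hm

end Groth.Agent.PicFRel.CurveDiv
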