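import Groth.Agent.PicFRel.CurveDivDiff
import Groth.Prelude.Def_W4c6dblnestedhilbptsFlags

/-!
# Flags of relative divisors and their edge data
-/

set_option autoImplicit false

universe u

open CategoryTheory AlgebraicGeometry HilbD

namespace Groth.Agent.PicFRel.CurveDiv

variable {X S : Scheme.{u}} (f : X ⟶ S) [SmoothOfRelativeDimension 1 f]

lemma mul_left_cancel' {I J K : X.IdealSheafData} {d : ℕ} (hK : IsDivOfDeg f d K)
    (h : K * I = K * J) : I = J :=
  ModPairLib.eq_of_mul_eq_mul (of_isFinLocFree hK.1).1 (by rw [mul_comm I K, mul_comm J K, h])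

omit [SmoothOfRelativeDimension 1 f] in
lemma eq_top_of_deg_zero {I : X.IdealSheafData} (h : IsDivOfDeg f 0 I) : I = ⊤ := by
  have : IsFinite (I.subschemeι ≫ f) := h.1.1
  have : Flat (I.subschemeι ≫ f) := h.1.2.1
  rw [← Scheme.IdealSheafData.support_eq_bot_iff, ← SetLike.coe_set_eq,
    ← I.range_subschemeι]
  refine Set.eq_empty_iff_forall_notMem.2 ?_
  rintro _ ⟨x, rfl⟩
  have := Scheme.Hom.one_le_finrank_map (I.subschemeι ≫ f) x
  rw [h.2] at this
  omega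

lemma eq_of_le_of_deg {I J : X.IdealSheafData} {d : ℕ} (hle : I ≤ J) (hI : IsDivOfDeg f d I)
    (hJ : IsDivOfDeg f d J) : I = J := by
  obtain ⟨K, hK, rfl⟩ := exists_diff f J I hle hJ hI
  rw [Nat.sub_self] at hK
  rw [eq_top_of_deg_zero f hK, ← Scheme.IdealSheafData.one_eq_top, mul_one]

variable {μ : YoungDiagram} {n : ℕ × ℕ → ℕ}

/-- The flag has a unique system of edge data. -/
theorem existsUnique_edges (h00 : ((0, 0) : ℕ × ℕ) ∈ μ)
    (Z : ∀ c : ℕ × ℕ, c ∈ μ → X.IdealSheafData) (hZ : IsDnFlag f μ n Z) :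
    (∃! E : DnEdgeData μ X, E.IsOfType f n ∧ E.IsEdgesOf h00 Z) ∧
      ∀ E : DnEdgeData μ X, E.IsOfType f n → E.IsEdgesOf h00 Z →
        ∀ (c : ℕ × ℕ) (hc : c ∈ μ) (hi : 1 ≤ c.1) (hj : 1 ≤ c.2),
          E.gammaOne c hc hi hj = E.gammaTwo c hc hi hj := by
  have hv : ∀ (c : ℕ × ℕ) (hc : c ∈ μ), ∃ I : X.IdealSheafData,
      IsDivOfDeg f (n c - n (c.1 - 1, c.2)) I ∧ Z c hc = Z (c.1 - 1, c.2) (mem_up hc) * I :=
    fun c hc => exists_diff f _ _
      (hZ.2 _ c _ hc (show ((c.1 - 1, c.2) : ℕ × ℕ) ≤ c from ⟨Nat.sub_le c.1 1, le_rfl⟩))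
      (hZ.1 _ _) (hZ.1 c hc)
  have hh : ∀ (c : ℕ × ℕ) (hc : c ∈ μ), ∃ I : X.IdealSheafData,
      IsDivOfDeg f (n c - n (c.1, c.2 - 1)) I ∧ Z c hc = Z (c.1, c.2 - 1) (mem_left hc) * I :=
    fun c hc => exists_diff f _ _
      (hZ.2 _ c _ hc (show ((c.1, c.2 - 1) : ℕ × ℕ) ≤ c from ⟨le_rfl, Nat.sub_le c.2 1⟩))
      (hZ.1 _ _) (hZ.1 c hc)
  choose V hV1 hV2 using hv
  choose H hH1 hH2 using hh
  refine ⟨⟨⟨Z (0, 0) h00, fun c hc _ => V c hc, fun c hc _ => H c hc⟩,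
    ⟨⟨hZ.1 _ h00, fun c hc _ => hV1 c hc, fun c hc _ => hH1 c hc⟩,
      rfl, fun c hc _ => hV2 c hc, fun c hc _ => hH2 c hc⟩, ?_⟩, ?_⟩
  · rintro E ⟨-, e0, ev, eh⟩
    refine DnEdgeData.ext e0.symm ?_ ?_
    · funext c hc hi
      exact mul_left_cancel' f (hZ.1 _ (mem_up hc)) ((ev c hc hi).symm.trans (hV2 c hc))
    · funext c hc hj
      exact mul_left_cancel' f (hZ.1 _ (mem_left hc)) ((eh c hc hj).symm.trans (hH2 c hc))
  · rintro E - ⟨-, ev, eh⟩ c hc hi hj
    refine mul_left_cancel' f (hZ.1 (c.1 - 1, c.2 - 1) (mem_left (mem_up hc))) ?_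
    have h1 := ev c hc hi
    rw [eh (c.1 - 1, c.2) (mem_up hc) hj, mul_assoc,
      mul_comm (E.horiz (c.1 - 1, c.2) (mem_up hc) hj) (E.vert c hc hi)] at h1
    have h2 := eh c hc hj
    rw [ev (c.1, c.2 - 1) (mem_left hc) hi, mul_assoc,
      mul_comm (E.vert (c.1, c.2 - 1) (mem_left hc) hi) (E.horiz c hc hj)] at h2
    exact h1.symm.trans h2

omit [SmoothOfRelativeDimension 1 f] in
/-- The first column of the flag built from edge data. -/
noncomputable def colFlag (E : DnEdgeData μ X) :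
    ∀ i : ℕ, (i, 0) ∈ μ → X.IdealSheafData
  | 0, _ => E.base
  | i + 1, h => colFlag E i (mem_up h) * E.vert (i + 1, 0) h (Nat.le_add_left 1 i)

omit [SmoothOfRelativeDimension 1 f] in
/-- The flag built from edge data. -/
noncomputable def flagOf (E : DnEdgeData μ X) :
    ∀ i j : ℕ, (i, j) ∈ μ → X.IdealSheafData
  | i, 0, h => colFlag E i h
  | i, j + 1, h => flagOf E i j (mem_left h) * E.horiz (i, j + 1) h (Nat.le_add_left 1 j)

/-- Compatible edge data come from a unique flag. -/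
theorem existsUnique_flag (h00 : ((0, 0) : ℕ × ℕ) ∈ μ) (hn : IsRevPlanePartition μ n)
    (E : DnEdgeData μ X) (hE : E.IsOfType f n)
    (hcomm : ∀ (c : ℕ × ℕ) (hc : c ∈ μ) (hi : 1 ≤ c.1) (hj : 1 ≤ c.2),
      E.gammaOne c hc hi hj ≤ E.gammaTwo c hc hi hj) :
    ∃! Z : ∀ c : ℕ × ℕ, c ∈ μ → X.IdealSheafData, IsDnFlag f μ n Z ∧ E.IsEdgesOf h00 Z := by
  obtain ⟨hb, hv, hh⟩ := hE
  have mv : ∀ {c : ℕ × ℕ} (hc : c ∈ μ), n (c.1 - 1, c.2) ≤ n c := fun {c} hc =>
    hn (mem_up hc) hc (show ((c.1 - 1, c.2) : ℕ × ℕ) ≤ c from ⟨Nat.sub_le c.1 1, le_rfl⟩)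
  have mh : ∀ {c : ℕ × ℕ} (hc : c ∈ μ), n (c.1, c.2 - 1) ≤ n c := fun {c} hc =>
    hn (mem_left hc) hc (show ((c.1, c.2 - 1) : ℕ × ℕ) ≤ c from ⟨le_rfl, Nat.sub_le c.2 1⟩)
  have hγ : ∀ (c : ℕ × ℕ) (hc : c ∈ μ) (hi : 1 ≤ c.1) (hj : 1 ≤ c.2),
      E.gammaOne c hc hi hj = E.gammaTwo c hc hi hj := by
    intro c hc hi hj
    have d1 := isFinLocFreeOfDeg_mul f _ _ (hv c hc hi) (hh (c.1 - 1, c.2) (mem_up hc) hj)
    have d2 := isFinLocFreeOfDeg_mul f _ _ (hh c hc hj) (hv (c.1, c.2 - 1) (mem_left hc) hi)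
    have a := mv hc
    have b : n (c.1 - 1, c.2 - 1) ≤ n (c.1 - 1, c.2) := mh (c := (c.1 - 1, c.2)) (mem_up hc)
    have a' := mh hc
    have b' : n (c.1 - 1, c.2 - 1) ≤ n (c.1, c.2 - 1) := mv (c := (c.1, c.2 - 1)) (mem_left hc)
    refine eq_of_le_of_deg f (hcomm c hc hi hj) (d := n c - n (c.1 - 1, c.2 - 1)) ?_ ?_
    · convert d1 using 1 <;> first | rfl | (simp only; omega)
    · convert d2 using 1 <;> first | rfl | (simp only; omega)
  let Z : ∀ c : ℕ × ℕ, c ∈ μ → X.IdealSheafData := fun c hc => flagOf E c.1 c.2 hc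
  have eh : ∀ (i j : ℕ) (h : (i, j + 1) ∈ μ),
      flagOf E i (j + 1) h = flagOf E i j (mem_left h) * E.horiz (i, j + 1) h (Nat.le_add_left 1 j) :=
    fun i j h => by cases i <;> simp [flagOf]
  have ev : ∀ (j i : ℕ) (h : (i + 1, j) ∈ μ),
      flagOf E (i + 1) j h = flagOf E i j (mem_up h) * E.vert (i + 1, j) h (Nat.le_add_left 1 i) := by
    intro j
    induction j with
    | zero => intro i h; simp [flagOf, colFlag]
    | succ j ih =>
      intro i h
      have g := hγ (i + 1, j + 1) h (Nat.le_add_left 1 i) (Nat.le_add_left 1 j)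
      rw [eh, ih i (mem_left h), eh i j (mem_up h), mul_assoc, mul_assoc]
      congr 1
      rw [mul_comm (E.horiz (i, j + 1) _ _) _, mul_comm (E.vert (i + 1, j) _ _) _]
      exact g.symm
  have hedge : E.IsEdgesOf h00 Z := by
    refine ⟨by simp [Z, flagOf, colFlag], ?_, ?_⟩
    · rintro ⟨i, j⟩ hc hi
      obtain ⟨i, rfl⟩ : ∃ k, i = k + 1 := ⟨i - 1, by simp only at hi; omega⟩
      exact ev j i hc
    · rintro ⟨i, j⟩ hc hj
      obtain ⟨j, rfl⟩ : ∃ k, j = k + 1 := ⟨j - 1, by simp only at hj; omega⟩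
      exact eh i j hc
  have hdeg : ∀ (j i : ℕ) (h : (i, j) ∈ μ), IsDivOfDeg f (n (i, j)) (flagOf E i j h) := by
    intro j
    induction j with
    | zero =>
      intro i
      induction i with
      | zero => intro h; simpa [flagOf, colFlag] using hb
      | succ i ihi =>
        intro h
        rw [ev 0 i h]
        have a : n (i, 0) ≤ n (i + 1, 0) := mv (c := (i + 1, 0)) h
        convert isFinLocFreeOfDeg_mul f _ _ (ihi (mem_up h))
          (hv (i + 1, 0) h (Nat.le_add_left 1 i)) using 1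
        simp only [Nat.add_sub_cancel]
        omega
    | succ j ihj =>
      intro i h
      rw [eh i j h]
      have a : n (i, j) ≤ n (i, j + 1) := mh (c := (i, j + 1)) h
      convert isFinLocFreeOfDeg_mul f _ _ (ihj i (mem_left h))
        (hh (i, j + 1) h (Nat.le_add_left 1 j)) using 1
      simp only [Nat.add_sub_cancel]
      omega
  have hmono : ∀ (k : ℕ) (c c' : ℕ × ℕ) (hc : c ∈ μ) (hc' : c' ∈ μ),
      c'.1 + c'.2 = k → c ≤ c' → Z c' hc' ≤ Z c hc := by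
    intro k
    induction k using Nat.strong_induction_on with
    | _ k ih =>
      rintro ⟨i, j⟩ ⟨i', j'⟩ hc hc' hk ⟨hi, hj⟩
      simp only at hk hi hj
      rcases Nat.lt_or_ge i i' with h | h
      · obtain ⟨a, rfl⟩ : ∃ a, i' = a + 1 := ⟨i' - 1, by omega⟩
        refine le_trans ?_ (ih (a + j') (by omega) (i, j) (a, j') hc (mem_up hc') rfl
          (show ((i, j) : ℕ × ℕ) ≤ (a, j') from ⟨by simp only; omega, hj⟩))
        show flagOf E (a + 1) j' hc' ≤ flagOf E a j' _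
        rw [ev]
        exact mul_le_left' _ _
      · obtain rfl : i = i' := by omega
        rcases Nat.lt_or_ge j j' with h | h
        · obtain ⟨a, rfl⟩ : ∃ a, j' = a + 1 := ⟨j' - 1, by omega⟩
          refine le_trans ?_ (ih (i + a) (by omega) (i, j) (i, a) hc (mem_left hc') rfl
            (show ((i, j) : ℕ × ℕ) ≤ (i, a) from ⟨le_rfl, by simp only; omega⟩))
          show flagOf E i (a + 1) hc' ≤ flagOf E i a _
          rw [eh]
          exact mul_le_left' _ _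
        · obtain rfl : j = j' := by omega
          exact le_rfl
  refine ⟨Z, ⟨⟨fun c hc => hdeg c.2 c.1 hc, fun c c' hc hc' h => hmono _ c c' hc hc' rfl h⟩,
    hedge⟩, ?_⟩
  rintro Z' ⟨-, e0, fv, fh⟩
  have key : ∀ (j i : ℕ) (h : (i, j) ∈ μ), Z' (i, j) h = flagOf E i j h := by
    intro j
    induction j with
    | zero =>
      intro i
      induction i with
      | zero => intro h; simpa [flagOf, colFlag] using e0
      | succ i ihi =>
        intro h
        rw [ev 0 i h, ← ihi (mem_up h)]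
        exact fv (i + 1, 0) h (Nat.le_add_left 1 i)
    | succ j ihj =>
      intro i h
      rw [eh i j h, ← ihj i (mem_left h)]
      exact fh (i, j + 1) h (Nat.le_add_left 1 j)
  funext c hc
  exact key c.2 c.1 hc

end Groth.Agent.PicFRel.CurveDiv
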