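import Groth.Agent.PicFRel.CurveDivFibre
import Groth.Agent.UnivSep5.LocalReg
import Mathlib.RingTheory.LocalRing.ResidueField.Fiber
import Mathlib.RingTheory.Flat.EquationalCriterion
import Mathlib.RingTheory.QuasiFinite.Basic
import Mathlib.RingTheory.Nakayama

/-!
# Ideals with flat quasi-finite quotient on a smooth relative curve

`B` is standard smooth of relative dimension one over `A`.
-/

set_option autoImplicit false
set_option linter.unusedSectionVars false

universe u

open TensorProduct IsLocalRing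
open scoped nonZeroDivisors

namespace Groth.Agent.PicFRel.CurveDiv

variable {A B : Type u} [CommRing A] [CommRing B] [Algebra A B]

lemma exists_mul_mem_of_tmul_eq_zero (p : Ideal A) [p.IsPrime] {b : B}
    (h : (1 : p.ResidueField) ⊗ₜ[A] b = 0) :
    ∃ a ∉ p, algebraMap A B a * b ∈ p.map (algebraMap A B) := by
  let M := Algebra.algebraMapSubmonoid B p.primeCompl
  let Sp := Localization M
  let N := Sp ⧸ (p.map (algebraMap A B)).map (algebraMap B Sp)
  let π : B →ₐ[A] N := (Ideal.Quotient.mkₐ A _).comp (IsScalarTower.toAlgHom A B Sp)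
  have hπ : ∀ x, π x = Ideal.Quotient.mk _ (algebraMap B Sp x) := fun x => rfl
  have hA : ∀ a, algebraMap A N a = π (algebraMap A B a) := fun a => (π.commutes a).symm
  have h1 : p ≤ RingHom.ker (Algebra.ofId A N) := fun a ha => by
    change algebraMap A N a = 0
    rw [hA, hπ, Ideal.Quotient.eq_zero_iff_mem]
    exact Ideal.mem_map_of_mem _ (Ideal.mem_map_of_mem _ ha)
  have h2 : p.primeCompl ≤ (IsUnit.submonoid N).comap (Algebra.ofId A N) := fun a ha => by
    change IsUnit (algebraMap A N a)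
    rw [hA, hπ]
    exact (IsLocalization.map_units Sp (⟨_, a, ha, rfl⟩ : M)).map _
  let Φ : p.ResidueField ⊗[A] B →ₐ[A] N := Algebra.TensorProduct.lift
    (Ideal.ResidueField.liftₐ p (Algebra.ofId A N) h1 h2) π (fun _ _ => .all _ _)
  have hΦ := congr(Φ $h)
  rw [Algebra.TensorProduct.lift_tmul, map_one, one_mul, map_zero, hπ,
    Ideal.Quotient.eq_zero_iff_mem, IsLocalization.algebraMap_mem_map_algebraMap_iff M] at hΦ
  obtain ⟨_, ⟨a, ha, rfl⟩, hab⟩ := hΦ
  exact ⟨a, ha, hab⟩

set_option synthInstance.maxHeartbeats 60000 in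
set_option maxHeartbeats 400000 in
/-- If `B ⧸ I` is flat then `I ∩ pB = pI`. -/
lemma mem_map_mul_of_flat (I : Ideal B) [Module.Flat A (B ⧸ I)] (p : Ideal A) {x : B}
    (hxI : x ∈ I) (hxp : x ∈ p.map (algebraMap A B)) : x ∈ p.map (algebraMap A B) * I := by
  classical
  rw [Ideal.map, Ideal.span, Submodule.mem_span_set'] at hxp
  obtain ⟨n, c, e, rfl⟩ := hxp
  choose e' he' he using fun i => (e i).2
  have hrel : ∑ i, e' i • Ideal.Quotient.mk I (c i) = 0 := by
    rw [← Ideal.Quotient.eq_zero_iff_mem.2 hxI, map_sum]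
    refine Finset.sum_congr rfl fun i _ => ?_
    rw [smul_eq_mul, map_mul, ← he i, Algebra.smul_def,
      IsScalarTower.algebraMap_apply A B (B ⧸ I), Ideal.Quotient.algebraMap_eq, mul_comm]
  obtain ⟨k, a, y, hy, ha⟩ := Module.Flat.isTrivialRelation_of_sum_smul_eq_zero (R := A) (M := B ⧸ I) (f := e')
    (x := fun i => Ideal.Quotient.mk I (c i)) hrel
  choose Y hY using fun j => Ideal.Quotient.mk_surjective (y j)
  have hdiff : ∀ i, c i - ∑ j, algebraMap A B (a i j) * Y j ∈ I := fun i => by
    rw [← Ideal.Quotient.eq_zero_iff_mem, map_sub, map_sum,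
      show Ideal.Quotient.mk I (c i) = ∑ j, a i j • y j from hy i, sub_eq_zero]
    refine Finset.sum_congr rfl fun j _ => ?_
    rw [map_mul, hY, Algebra.smul_def,
      IsScalarTower.algebraMap_apply A B (B ⧸ I), Ideal.Quotient.algebraMap_eq]
  have key : ∑ i, c i • (e i : B) =
      ∑ i, (e i : B) * (c i - ∑ j, algebraMap A B (a i j) * Y j) := by
    simp only [smul_eq_mul, mul_sub, Finset.mul_sum, Finset.sum_sub_distrib]
    rw [Finset.sum_comm (f := fun i j => (e i : B) * (algebraMap A B (a i j) * Y j))]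
    have hz : ∀ j, ∑ i, (e i : B) * (algebraMap A B (a i j) * Y j) = 0 := fun j => by
      simp only [← he, ← mul_assoc, ← map_mul, ← Finset.sum_mul, ← map_sum, ha j, map_zero,
        zero_mul]
    simp only [hz, Finset.sum_const_zero, sub_zero]
    exact Finset.sum_congr rfl fun i _ => mul_comm _ _
  rw [key]
  exact Ideal.sum_mem _ fun i _ => Ideal.mul_mem_mul
    (by rw [← he i]; exact Ideal.mem_map_of_mem _ (he' i)) (hdiff i)

/-- The base change of the projection `B → B ⧸ I` to the fibre. -/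
noncomputable def fiberMap (I : Ideal B) (p : Ideal A) [p.IsPrime] :
    p.ResidueField ⊗[A] B →ₐ[p.ResidueField] p.ResidueField ⊗[A] (B ⧸ I) :=
  Algebra.TensorProduct.map (AlgHom.id p.ResidueField p.ResidueField) (Ideal.Quotient.mkₐ A I)

lemma fiberMap_surjective (I : Ideal B) (p : Ideal A) [p.IsPrime] :
    Function.Surjective (fiberMap I p) := by
  intro y
  induction y with
  | zero => exact ⟨0, map_zero _⟩
  | tmul a b =>
    obtain ⟨b, rfl⟩ := Ideal.Quotient.mk_surjective b
    exact ⟨a ⊗ₜ b, rfl⟩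
  | add a b ha hb =>
    obtain ⟨a, rfl⟩ := ha
    obtain ⟨b, rfl⟩ := hb
    exact ⟨a + b, map_add _ _ _⟩

lemma ker_fiberMap (I : Ideal B) (p : Ideal A) [p.IsPrime] :
    RingHom.ker (fiberMap I p) =
      I.map (Algebra.TensorProduct.includeRight (R := A) (A := p.ResidueField) (B := B)) := by
  have h := Algebra.TensorProduct.lTensor_ker (A := p.ResidueField)
    (Ideal.Quotient.mkₐ A I) Ideal.Quotient.mk_surjective
  rw [show RingHom.ker (Ideal.Quotient.mkₐ A I) = I from Ideal.mk_ker] at h
  rw [← h]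
  rfl

/-- The fibre of a closed subscheme. -/
noncomputable def fiberQuot (I : Ideal B) (p : Ideal A) [p.IsPrime] :
    ((p.ResidueField ⊗[A] B) ⧸ I.map (Algebra.TensorProduct.includeRight (R := A) (A := p.ResidueField) (B := B)))
      ≃ₐ[p.ResidueField] p.ResidueField ⊗[A] (B ⧸ I) :=
  (Ideal.quotientEquivAlgOfEq p.ResidueField (ker_fiberMap I p).symm).trans
    (Ideal.quotientKerAlgEquivOfSurjective (f := fiberMap I p) (fiberMap_surjective I p))

variable [Algebra.IsStandardSmoothOfRelativeDimension 1 A B]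

/-- Near each prime the ideal has one generator, which is regular on the fibre at that prime. -/
theorem exists_local_gen (I : Ideal B) (hIfg : I.FG) [Module.Flat A (B ⧸ I)]
    [Algebra.QuasiFinite A (B ⧸ I)] (Q : Ideal B) [Q.IsPrime] :
    ∃ h ∉ Q, ∃ g ∈ I, ∀ i ∈ I, ∃ b, h * i = b * g := by
  classical
  let p := Q.under A
  let ι := Algebra.TensorProduct.includeRight (R := A) (A := p.ResidueField) (B := B)
  let q := PrimeSpectrum.preimageEquivFiber A B ⟨p, inferInstance⟩ ⟨⟨Q, inferInstance⟩, rfl⟩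
  have hq : q.asIdeal.comap ι.toRingHom = Q :=
    congr($((PrimeSpectrum.preimageEquivFiber A B ⟨p, inferInstance⟩).symm_apply_apply
      ⟨⟨Q, inferInstance⟩, rfl⟩).1.asIdeal)
  have hfin : Module.Finite p.ResidueField (p.Fiber B ⧸ Ideal.span (ι '' (I : Set B))) :=
    Module.Finite.equiv (fiberQuot I p).symm.toLinearEquiv
  obtain ⟨_, ⟨g, hg, rfl⟩, -, hdvd⟩ :=
    exists_gen_fibre p.ResidueField (p.Fiber B) (ι '' (I : Set B)) hfin q.asIdeal
  have step : ∀ i ∈ I, ∃ s ∉ Q, ∃ c, s * i - c * g ∈ p.map (algebraMap A B) * I := by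
    intro i hi
    obtain ⟨z, hz⟩ := hdvd _ ⟨i, hi, rfl⟩
    obtain ⟨C, T, rfl⟩ := IsLocalization.exists_mk'_eq q.asIdeal.primeCompl z
    have he : algebraMap (p.Fiber B) (Localization.AtPrime q.asIdeal) (T.1 * ι i) =
        algebraMap _ _ (C * ι g) := by
      rw [map_mul, map_mul, hz, ← IsLocalization.mk'_spec (Localization.AtPrime q.asIdeal) C T]
      ring
    obtain ⟨w, hw⟩ := (IsLocalization.eq_iff_exists q.asIdeal.primeCompl _).1 he
    obtain ⟨a₁, ha₁, T', hT'⟩ := Ideal.Fiber.exists_smul_eq_one_tmul p (w.1 * T.1)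
    obtain ⟨a₂, ha₂, C', hC'⟩ := Ideal.Fiber.exists_smul_eq_one_tmul p (w.1 * C)
    have hT'Q : T' ∉ Q := by
      rw [← hq, Ideal.mem_comap]
      change (1 : p.ResidueField) ⊗ₜ[A] T' ∉ q.asIdeal
      rw [← hT', Algebra.smul_def]
      intro hm
      rcases q.isPrime.mem_or_mem hm with hm | hm
      · refine ha₁ ?_
        change algebraMap A B a₁ ∈ Q
        rw [← hq, Ideal.mem_comap]
        exact (AlgHom.commutes ι a₁).symm ▸ hm
      · exact mul_mem w.2 T.2 hm
    have hzero : (1 : p.ResidueField) ⊗ₜ[A]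
        (algebraMap A B a₂ * (T' * i) - algebraMap A B a₁ * (C' * g)) = 0 := by
      change ι _ = 0
      have e1 : ι T' = algebraMap A _ a₁ * (w.1 * T.1) := by rw [← Algebra.smul_def, hT']; rfl
      have e2 : ι C' = algebraMap A _ a₂ * (w.1 * C) := by rw [← Algebra.smul_def, hC']; rfl
      simp only [map_sub, map_mul, AlgHom.commutes, e1, e2]
      linear_combination (algebraMap A (p.Fiber B) a₁ * algebraMap A (p.Fiber B) a₂) * hw
    obtain ⟨a, ha, hmem⟩ := exists_mul_mem_of_tmul_eq_zero p hzero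
    have hI : algebraMap A B a * (algebraMap A B a₂ * (T' * i) - algebraMap A B a₁ * (C' * g))
        ∈ I := I.mul_mem_left _ (sub_mem (I.mul_mem_left _ (I.mul_mem_left _ hi))
          (I.mul_mem_left _ (I.mul_mem_left _ hg)))
    refine ⟨algebraMap A B a * algebraMap A B a₂ * T', ?_,
      algebraMap A B a * algebraMap A B a₁ * C', ?_⟩
    · exact mul_mem (mul_mem (show algebraMap A B a ∈ Q.primeCompl from ha)
        (show algebraMap A B a₂ ∈ Q.primeCompl from ha₂)) (show T' ∈ Q.primeCompl from hT'Q)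
    · convert mem_map_mul_of_flat I p hI hmem using 1
      ring
  -- Nakayama in the local ring
  let L := Localization.AtPrime Q
  let φ := algebraMap B L
  have hle : I.map φ ≤ Ideal.span {φ g} ⊔ maximalIdeal L • I.map φ := by
    rw [Ideal.map_le_iff_le_comap]
    intro i hi
    obtain ⟨s, hs, c, hc⟩ := step i hi
    rw [Ideal.mem_comap, ← Ideal.unit_mul_mem_iff_mem _ (IsLocalization.map_units L (⟨s, hs⟩ : Q.primeCompl)),
      ← map_mul, ← sub_add_cancel (s * i) (c * g), map_add, map_mul]
    refine add_mem (Ideal.mem_sup_right ?_) (Ideal.mem_sup_left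
      (Ideal.mem_span_singleton.2 ⟨φ c, by ring⟩))
    rw [smul_eq_mul, ← Localization.AtPrime.map_eq_maximalIdeal, ← Ideal.map_mul]
    exact Ideal.mem_map_of_mem _ (Ideal.mul_mono_left (Ideal.map_le_iff_le_comap.2 le_rfl) hc)
  have hgen := Submodule.le_of_le_smul_of_le_jacobson_bot (hIfg.map φ)
    (jacobson_eq_maximalIdeal ⊥ bot_ne_top).ge hle
  have hloc : ∀ i ∈ I, ∃ h ∉ Q, ∃ b, h * i = b * g := fun i hi => by
    obtain ⟨z, hz⟩ := Ideal.mem_span_singleton.1 (hgen (Ideal.mem_map_of_mem φ hi))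
    obtain ⟨C, T, rfl⟩ := IsLocalization.exists_mk'_eq Q.primeCompl z
    have he : φ ((T : B) * i) = φ (C * g) := by
      rw [map_mul, map_mul, hz, ← IsLocalization.mk'_spec L C T]
      ring
    obtain ⟨w, hw⟩ := (IsLocalization.eq_iff_exists Q.primeCompl _).1 he
    exact ⟨w * T, mul_mem w.2 T.2, w * C, by linear_combination hw⟩
  obtain ⟨G, hG⟩ := hIfg
  choose! hh hhQ hb hhb using fun i (hi : i ∈ G) => hloc i (hG ▸ Ideal.subset_span hi)
  refine ⟨∏ i ∈ G, hh i, (Ideal.IsPrime.prod_mem_iff (p := Q)).not.2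
    (by simpa using hhQ), g, hg, fun i hi => ?_⟩
  have : I ≤ Submodule.comap (LinearMap.mulLeft B (∏ i ∈ G, hh i)) (Ideal.span {g}) := by
    rw [← hG]
    refine Submodule.span_le.2 fun x hx => Ideal.mem_span_singleton.2 ?_
    refine ⟨(∏ j ∈ G.erase x, hh j) * hb x, ?_⟩
    rw [LinearMap.mulLeft_apply, ← Finset.mul_prod_erase G hh hx]
    linear_combination (∏ j ∈ G.erase x, hh j) * hhb x hx
  obtain ⟨b, hb⟩ := Ideal.mem_span_singleton.1 (this hi)
  exact ⟨b, hb.trans (mul_comm _ _)⟩

/-- A single generator is a nonzero divisor. -/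
theorem mem_nonZeroDivisors_of_span (g : B) [Module.Flat A (B ⧸ Ideal.span {g})]
    [Algebra.QuasiFinite A (B ⧸ Ideal.span {g})] : g ∈ B⁰ := by
  have : Algebra.IsStandardSmooth A B :=
    Algebra.IsStandardSmoothOfRelativeDimension.isStandardSmooth 1
  have : Module.Flat A B := inferInstance
  have : Module.FinitePresentation B B := Module.finitePresentation_of_projective B B
  rw [mem_nonZeroDivisors_iff_right]
  intro x hx
  suffices LinearMap.ker (LinearMap.toSpanSingleton B B x) = ⊤ by
    simpa using (this ▸ Submodule.mem_top : (1 : B) ∈ LinearMap.ker (LinearMap.toSpanSingleton B B x))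
  by_contra hne
  obtain ⟨Q, hQ, hle⟩ := Ideal.exists_le_maximal _ hne
  let p := Q.under A
  let ι := Algebra.TensorProduct.includeRight (R := A) (A := p.ResidueField) (B := B)
  have hfin : Module.Finite p.ResidueField (p.Fiber B ⧸ Ideal.span {ι g}) := by
    have := Module.Finite.equiv (fiberQuot (Ideal.span {g}) p).symm.toLinearEquiv
    rwa [Ideal.map_span, Set.image_singleton] at this
  have hfib : ∀ y : B, (1 : p.ResidueField) ⊗ₜ[A] (g • y) = 0 →
      (1 : p.ResidueField) ⊗ₜ[A] y = 0 := fun y hy => by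
    refine eq_zero_of_localization _ fun m hm => ?_
    obtain ⟨_, rfl, hg, -⟩ := exists_gen_fibre p.ResidueField (p.Fiber B) {ι g} hfin m
    refine (mem_nonZeroDivisors_iff_right.1 hg) _ ?_
    rw [← map_mul]
    refine (congrArg _ ?_).trans (map_zero _)
    simpa [ι, mul_comm y g] using hy
  obtain ⟨s, hs, hsx⟩ := UnivSep5.exists_smul_eq_zero_of_regular_fibre A B B Q p rfl g hfib x
    (by rw [smul_eq_mul, mul_comm, hx])
  exact hs (hle hsx)

/-- A regular element with flat quotient cuts a quasi-finite subscheme. -/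
theorem quasiFinite_of_flat (g : B) (hg : g ∈ B⁰) [Module.Flat A (B ⧸ Ideal.span {g})] :
    Algebra.QuasiFinite A (B ⧸ Ideal.span {g}) := by
  refine ⟨fun p _ => ?_⟩
  let ι := Algebra.TensorProduct.includeRight (R := A) (A := p.ResidueField) (B := B)
  have hreg : ι g ∈ (p.Fiber B)⁰ := by
    rw [mem_nonZeroDivisors_iff_right]
    intro z hz
    have hexact : Function.Exact (LinearMap.mulLeft A g) (Ideal.Quotient.mkₐ A (Ideal.span {g})).toLinearMap := by
      intro y
      change Ideal.Quotient.mk (Ideal.span {g}) y = 0 ↔ y ∈ Set.range (g * ·)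
      rw [Ideal.Quotient.eq_zero_iff_mem, Ideal.mem_span_singleton]
      exact ⟨fun ⟨c, hc⟩ => ⟨c, hc.symm⟩, fun ⟨c, hc⟩ => ⟨c, hc.symm⟩⟩
    have hinj : Function.Injective (LinearMap.mulLeft A g) := fun a b hab =>
      (mul_cancel_left_mem_nonZeroDivisors hg).1 hab
    have hl := LinearMap.lTensor_injective_of_exact_of_flat _ Ideal.Quotient.mk_surjective _
      hinj hexact p.ResidueField
    have hmul : ∀ w : p.Fiber B, (LinearMap.mulLeft A g).lTensor p.ResidueField w = w * ι g := by
      intro w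
      induction w using TensorProduct.induction_on with
      | zero => simp
      | tmul a b => simp [ι, mul_comm g b]
      | add a b ha hb => rw [map_add, ha, hb, add_mul]
    exact hl ((hmul z).trans (hz.trans (map_zero _).symm))
  have := finite_quotient_of_mem_nonZeroDivisors p.ResidueField (p.Fiber B) (ι g) hreg
  have h' : Module.Finite p.ResidueField
      (p.Fiber B ⧸ (Ideal.span {g}).map ι) := by
    rwa [Ideal.map_span, Set.image_singleton]
  exact Module.Finite.equiv (fiberQuot (Ideal.span {g}) p).toLinearEquiv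

end Groth.Agent.PicFRel.CurveDiv
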