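import Groth.Agent.PicFRel.CurveDivFlag
import Groth.Agent.HilbDLib.ClosedSub

/-!
# Splitting a relative divisor into sections after a finite locally free base change
-/

set_option autoImplicit false

universe u

open CategoryTheory CategoryTheory.Limits AlgebraicGeometry

namespace Groth.Agent.PicFRel.CurveDiv

lemma ker_of_isPullback {P Z X Y : Scheme.{u}} (s' : P ⟶ X) (h : P ⟶ Z) (g : X ⟶ Y) (s : Z ⟶ Y)
    [IsClosedImmersion s] (H : IsPullback s' h g s) : s'.ker = s.ker.comap g := by
  rw [← Scheme.IdealSheafData.ker_fst_of_isClosedImmersion, ← H.isoPullback_hom_fst,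
    Scheme.Hom.ker_comp_of_isIso]

lemma isClosedImmersion_section {X Y : Scheme.{u}} (p : X ⟶ Y) [IsSeparated p] (s : Y ⟶ X)
    (h : s ≫ p = 𝟙 Y) : IsClosedImmersion s := by
  have : IsClosedImmersion (s ≫ p) := h ▸ inferInstance
  exact .of_comp s p

lemma comap_prod {X Y : Scheme.{u}} (g : X ⟶ Y) {ι : Type*} (t : Finset ι)
    (F : ι → Y.IdealSheafData) : (∏ i ∈ t, F i).comap g = ∏ i ∈ t, (F i).comap g := by
  classical
  induction t using Finset.induction_on with
  | empty =>
    rw [Finset.prod_empty, Finset.prod_empty, Scheme.IdealSheafData.one_eq_top,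
      Scheme.IdealSheafData.comap_top, Scheme.IdealSheafData.one_eq_top]
  | insert a t ha ih => rw [Finset.prod_insert ha, Finset.prod_insert ha, FComplLib.comap_mul, ih]

theorem exists_split (d : ℕ) : ∀ {C S : Scheme.{u}} (f : C ⟶ S) [IsSeparated f]
    [SmoothOfRelativeDimension 1 f] (I : C.IdealSheafData),
    Mor2.IsFinLocFreeOfDeg d (I.subschemeι ≫ f) →
    ∃ (S' : Scheme.{u}) (b : S' ⟶ S), Flat b ∧ Surjective b ∧ LocallyOfFinitePresentation b ∧
      ∃ σ : Fin d → (S' ⟶ pullback f b), (∀ i, σ i ≫ pullback.snd f b = 𝟙 S') ∧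
        I.comap (pullback.fst f b) = ∏ i, (σ i).ker := by
  induction d with
  | zero =>
    intro C S f _ _ I hI
    refine ⟨S, 𝟙 S, inferInstance, inferInstance, inferInstance, Fin.elim0, fun i => i.elim0, ?_⟩
    rw [eq_top_of_deg_zero f hI, Scheme.IdealSheafData.comap_top, Fin.prod_univ_zero,
      Scheme.IdealSheafData.one_eq_top]
  | succ d ih =>
    intro C S f _ _ I hI
    let g := I.subschemeι ≫ f
    have : IsFinite g := hI.1.1
    have : Flat g := hI.1.2.1
    have : LocallyOfFinitePresentation g := hI.1.2.2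
    have : Surjective g := (Scheme.Hom.one_le_finrank_iff_surjective g).mp fun s => by
      rw [hI.2 s]; exact Nat.le_add_left 1 d
    let f₁ := pullback.snd f g
    have : SmoothOfRelativeDimension 1 f₁ :=
      (smoothOfRelativeDimension_isStableUnderBaseChange 1).of_isPullback
        (IsPullback.of_hasPullback f g) inferInstance
    let τ : I.subscheme ⟶ pullback f g := pullback.lift I.subschemeι (𝟙 _) (by simp [g])
    have hτ : τ ≫ f₁ = 𝟙 _ := pullback.lift_snd _ _ _
    have : IsClosedImmersion τ := isClosedImmersion_section f₁ τ hτ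
    let I₁ := I.comap (pullback.fst f g)
    have hI₁ : Mor2.IsFinLocFreeOfDeg (d + 1) (I₁.subschemeι ≫ f₁) :=
      ⟨(finrank_comap f g I).1, fun t => by rw [(finrank_comap f g I).2]; exact hI.2 _⟩
    have hle : I₁ ≤ τ.ker := by
      let τ' : I.subscheme ⟶ pullback (pullback.fst f g) I.subschemeι :=
        pullback.lift τ (𝟙 _) (by rw [Category.id_comp]; exact pullback.lift_fst _ _ _)
      have : (τ' ≫ (I.comapIso (pullback.fst f g)).inv) ≫ I₁.subschemeι = τ := by
        rw [Category.assoc, Scheme.IdealSheafData.comapIso_inv_subschemeι]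
        exact pullback.lift_fst _ _ _
      calc I₁ = I₁.subschemeι.ker := (Scheme.IdealSheafData.ker_subschemeι I₁).symm
        _ ≤ _ := this ▸ Scheme.Hom.le_ker_comp _ _
    have hdeg : Mor2.IsFinLocFreeOfDeg 1 (τ.ker.subschemeι ≫ f₁) := by
      rw [HilbDLib.finLocFreeOfDeg_ker τ f₁, hτ]
      exact ⟨⟨inferInstance, inferInstance, inferInstance⟩,
        fun s => by rw [Scheme.Hom.finrank_eq_one_of_isIso]; rfl⟩
    obtain ⟨J, hJ, hI₁J⟩ := exists_diff f₁ τ.ker I₁ hle hdeg hI₁
    rw [Nat.add_sub_cancel] at hJ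
    obtain ⟨S', b', hb1, hb2, hb3, σ', hσ', hJσ⟩ := ih f₁ J hJ
    let e := pullbackLeftPullbackSndIso f g b'
    let τ'' : S' ⟶ pullback f₁ b' := pullback.lift (b' ≫ τ) (𝟙 _)
      (by rw [Category.assoc, hτ, Category.comp_id, Category.id_comp])
    have hτ'' : τ'' ≫ pullback.snd f₁ b' = 𝟙 _ := pullback.lift_snd _ _ _
    have H : IsPullback τ'' b' (pullback.fst f₁ b') τ := by
      refine IsPullback.of_right ?_ (pullback.lift_fst _ _ _) (IsPullback.of_hasPullback f₁ b').flip
      rw [hτ'', hτ]
      exact IsPullback.of_horiz_isIso ⟨by simp⟩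
    have key : ∀ (s : S' ⟶ pullback f₁ b'), s ≫ pullback.snd f₁ b' = 𝟙 _ →
        s.ker.comap e.inv = (s ≫ e.hom).ker := fun s hs => by
      have : IsClosedImmersion s := isClosedImmersion_section _ s hs
      exact (ker_of_isPullback (s ≫ e.hom) (𝟙 _) e.inv s
        (IsPullback.of_vert_isIso ⟨by simp⟩)).symm
    refine ⟨S', b' ≫ g, inferInstance, inferInstance, inferInstance,
      Fin.cons (τ'' ≫ e.hom) (fun i => σ' i ≫ e.hom), ?_, ?_⟩
    · intro i
      refine Fin.cases ?_ (fun j => ?_) i
      · simp only [Fin.cons_zero, Category.assoc]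
        rw [show e.hom ≫ pullback.snd f (b' ≫ g) = pullback.snd f₁ b' by simp [e, f₁]]
        exact hτ''
      · simp only [Fin.cons_succ, Category.assoc]
        rw [show e.hom ≫ pullback.snd f (b' ≫ g) = pullback.snd f₁ b' by simp [e, f₁]]
        exact hσ' j
    · have hfst : pullback.fst f (b' ≫ g) =
          e.inv ≫ pullback.fst f₁ b' ≫ pullback.fst f g := by
        rw [eq_comm, Iso.inv_comp_eq]; simp [e, f₁]
      rw [hfst, Scheme.IdealSheafData.comap_comp, Scheme.IdealSheafData.comap_comp,
        show I.comap (pullback.fst f g) = τ.ker * J from hI₁J, FComplLib.comap_mul,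
        FComplLib.comap_mul, ← ker_of_isPullback τ'' b' _ τ H, key τ'' hτ'', hJσ, comap_prod,
        Fin.prod_univ_succ, Fin.cons_zero]
      simp only [Fin.cons_succ]
      congr 1
      exact Finset.prod_congr rfl fun i _ => key _ (hσ' i)

end Groth.Agent.PicFRel.CurveDiv
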