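import Groth.Agent.PicFRel.CurveDivDeg
import Mathlib.AlgebraicGeometry.ZariskisMainTheorem
import Mathlib.AlgebraicGeometry.Morphisms.Immersion

/-!
# Sums of relative divisors on smooth relative curves
-/

set_option autoImplicit false

universe u

open CategoryTheory CategoryTheory.Limits AlgebraicGeometry

namespace Groth.Agent.PicFRel.CurveDiv

lemma isSeparated_of_comp_surjective {Y Z S : Scheme.{u}} (h : Y ⟶ Z) (g : Z ⟶ S)
    [UniversallyClosed h] [Surjective h] [IsSeparated (h ≫ g)] : IsSeparated g := by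
  refine ⟨IsClosedImmersion.of_isPreimmersion _ ?_⟩
  let m := pullback.map (h ≫ g) (h ≫ g) g g h h (𝟙 S) (Category.comp_id _) (Category.comp_id _)
  have hm : UniversallyClosed m :=
    MorphismProperty.pullbackMap (P := @UniversallyClosed) ‹_› ‹_› rfl rfl
  have e : h ≫ pullback.diagonal g = pullback.diagonal (h ≫ g) ≫ m := by
    ext
    · simp only [m, pullback.map, Category.assoc, pullback.lift_fst, pullback.diagonal_fst,
        pullback.diagonal_fst_assoc, Category.comp_id]
    · simp only [m, pullback.map, Category.assoc, pullback.lift_snd, pullback.diagonal_snd,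
        pullback.diagonal_snd_assoc, Category.comp_id]
  have hr : Set.range (pullback.diagonal g) = m '' Set.range (pullback.diagonal (h ≫ g)) := by
    rw [← Set.range_comp]
    ext z
    constructor
    · rintro ⟨y, rfl⟩
      obtain ⟨x, rfl⟩ := h.surjective y
      exact ⟨x, congr($(e) x).symm⟩
    · rintro ⟨x, rfl⟩
      exact ⟨h x, congr($(e) x)⟩
  rw [hr]
  exact m.isClosedMap _ (pullback.diagonal (h ≫ g)).isClosedEmbedding.isClosed_range

variable {X S : Scheme.{u}} (f : X ⟶ S)

lemma mul_le_left' (I J : X.IdealSheafData) : I * J ≤ I := fun U => by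
  rw [Scheme.IdealSheafData.ideal_mul, Pi.mul_apply]
  exact Ideal.mul_le_left (I := I.ideal U) (J := J.ideal U)

lemma mul_le_right' (I J : X.IdealSheafData) : I * J ≤ J := fun U => by
  rw [Scheme.IdealSheafData.ideal_mul, Pi.mul_apply]
  exact Ideal.mul_le_right (I := I.ideal U) (J := J.ideal U)

/-- The sum of two finite locally free divisors on a smooth relative curve is finite locally free. -/
theorem isFinLocFree_mul [SmoothOfRelativeDimension 1 f] (I J : X.IdealSheafData)
    (hI : Mor2.IsFinLocFree (I.subschemeι ≫ f)) (hJ : Mor2.IsFinLocFree (J.subschemeι ≫ f)) :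
    Mor2.IsFinLocFree ((I * J).subschemeι ≫ f) := by
  obtain ⟨cI, fI⟩ := of_isFinLocFree hI
  obtain ⟨cJ, fJ⟩ := of_isFinLocFree hJ
  have : IsFinite (I.subschemeι ≫ f) := hI.1
  have : IsFinite (J.subschemeι ≫ f) := hJ.1
  obtain ⟨cIJ, fIJ⟩ := FlatX.flat_mul f cI cJ fI fJ
  obtain ⟨qIJ, pIJ⟩ := quasiFinite_and_fp cIJ fIJ
  let a := Scheme.IdealSheafData.inclusion (mul_le_left' I J)
  let b := Scheme.IdealSheafData.inclusion (mul_le_right' I J)
  let h := coprod.desc a b
  let g := (I * J).subschemeι ≫ f
  have : IsClosedImmersion (a ≫ (I * J).subschemeι) := by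
    rw [Scheme.IdealSheafData.inclusion_subschemeι]; infer_instance
  have : IsClosedImmersion (b ≫ (I * J).subschemeι) := by
    rw [Scheme.IdealSheafData.inclusion_subschemeι]; infer_instance
  have : IsClosedImmersion a := .of_comp a (I * J).subschemeι
  have : IsClosedImmersion b := .of_comp b (I * J).subschemeι
  have : IsFinite h := inferInstanceAs (IsFinite (coprod.desc a b))
  have : Surjective h := ⟨fun z => by
    have hz : (I * J).subschemeι z ∈ ((I * J).support : Set X) :=
      (I * J).range_subschemeι ▸ Set.mem_range_self z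
    rw [Scheme.IdealSheafData.support_mul] at hz
    rcases hz with hz | hz
    · rw [← I.range_subschemeι] at hz
      obtain ⟨y, hy⟩ := hz
      refine ⟨(coprod.inl : _ ⟶ I.subscheme ⨿ J.subscheme) y, ?_⟩
      rw [← Scheme.Hom.comp_apply, coprod.inl_desc]
      refine (I * J).subschemeι.isClosedEmbedding.injective ?_
      rw [← Scheme.Hom.comp_apply, Scheme.IdealSheafData.inclusion_subschemeι, hy]
    · rw [← J.range_subschemeι] at hz
      obtain ⟨y, hy⟩ := hz
      refine ⟨(coprod.inr : _ ⟶ I.subscheme ⨿ J.subscheme) y, ?_⟩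
      rw [← Scheme.Hom.comp_apply, coprod.inr_desc]
      refine (I * J).subschemeι.isClosedEmbedding.injective ?_
      rw [← Scheme.Hom.comp_apply, Scheme.IdealSheafData.inclusion_subschemeι, hy]⟩
  have e : h ≫ g = coprod.desc (I.subschemeι ≫ f) (J.subschemeι ≫ f) := by
    ext <;> simp [h, g, a, b, Scheme.IdealSheafData.inclusion_subschemeι_assoc]
  have : IsFinite (h ≫ g) := e ▸ inferInstance
  have : UniversallyClosed g := .of_comp_surjective h g
  have : IsSeparated g := isSeparated_of_comp_surjective h g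
  have : LocallyOfFinitePresentation g := pIJ
  have : IsProper g := { }
  exact ⟨(IsFinite.iff_isProper_and_locallyQuasiFinite g).mpr ⟨this, qIJ⟩, fIJ, pIJ⟩

/-- Base change of a closed subscheme along a base change of the ambient scheme. -/
lemma finrank_comap {T : Scheme.{u}} (i : T ⟶ S) (I : X.IdealSheafData)
    [IsFinite (I.subschemeι ≫ f)] [Flat (I.subschemeι ≫ f)] :
    (∀ [LocallyOfFinitePresentation (I.subschemeι ≫ f)],
      Mor2.IsFinLocFree ((I.comap (pullback.fst f i)).subschemeι ≫ pullback.snd f i)) ∧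
    ∀ t, ((I.comap (pullback.fst f i)).subschemeι ≫ pullback.snd f i).finrank t =
      (I.subschemeι ≫ f).finrank (i t) := by
  have H := (IsPullback.of_hasPullback (pullback.fst f i) I.subschemeι).flip.paste_vert
    (IsPullback.of_hasPullback f i)
  have key : (I.comap (pullback.fst f i)).subschemeι ≫ pullback.snd f i =
      (I.comapIso (pullback.fst f i)).hom ≫ pullback.fst (pullback.fst f i) I.subschemeι ≫
        pullback.snd f i := by
    rw [← Scheme.IdealSheafData.comapIso_inv_subschemeι, Category.assoc, Iso.hom_inv_id_assoc]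
  have hfin : IsFinite (pullback.fst (pullback.fst f i) I.subschemeι ≫ pullback.snd f i) :=
    MorphismProperty.of_isPullback (P := @IsFinite) H inferInstance
  have hfl : Flat (pullback.fst (pullback.fst f i) I.subschemeι ≫ pullback.snd f i) :=
    MorphismProperty.of_isPullback (P := @Flat) H inferInstance
  refine ⟨?_, fun t => ?_⟩
  · intro _
    have : LocallyOfFinitePresentation
        (pullback.fst (pullback.fst f i) I.subschemeι ≫ pullback.snd f i) :=
      MorphismProperty.of_isPullback (P := @LocallyOfFinitePresentation) H inferInstance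
    rw [key]
    exact ⟨inferInstance, inferInstance, inferInstance⟩
  · rw [key, Scheme.Hom.finrank_comp_left_of_isIso, Scheme.Hom.finrank_of_isPullback _ _ _ _ H]

/-- Ranks add under sums of divisors. -/
theorem finrank_mul [SmoothOfRelativeDimension 1 f] (I J : X.IdealSheafData)
    (hI : Mor2.IsFinLocFree (I.subschemeι ≫ f)) (hJ : Mor2.IsFinLocFree (J.subschemeι ≫ f))
    (s : S) : ((I * J).subschemeι ≫ f).finrank s =
      (I.subschemeι ≫ f).finrank s + (J.subschemeι ≫ f).finrank s := by
  obtain ⟨finIJ, flIJ, fpIJ⟩ := isFinLocFree_mul f I J hI hJ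
  obtain ⟨finI, flI, fpI⟩ := hI
  obtain ⟨finJ, flJ, fpJ⟩ := hJ
  let i := S.fromSpecResidueField s
  let t : Spec (S.residueField s) := IsLocalRing.closedPoint (S.residueField s)
  have ht : i t = s := Scheme.fromSpecResidueField_apply s t
  have : SmoothOfRelativeDimension 1 (pullback.snd f i) :=
    (smoothOfRelativeDimension_isStableUnderBaseChange 1).of_isPullback
      (IsPullback.of_hasPullback f i) inferInstance
  obtain ⟨⟨finI', flI', fpI'⟩, eI⟩ := And.intro ((finrank_comap f i I).1) (finrank_comap f i I).2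
  obtain ⟨⟨finJ', flJ', fpJ'⟩, eJ⟩ := And.intro ((finrank_comap f i J).1) (finrank_comap f i J).2
  obtain ⟨⟨finK', flK', -⟩, eK⟩ := And.intro ((finrank_comap f i (I * J)).1) (finrank_comap f i (I * J)).2
  rw [FComplLib.comap_mul] at finK' flK'
  have h := finrank_mul_field (K := S.residueField s) (pullback.snd f i) _ _
    (of_isFinLocFree (f := pullback.snd f i) ⟨finI', flI', fpI'⟩).1
    (of_isFinLocFree (f := pullback.snd f i) ⟨finJ', flJ', fpJ'⟩).1 t
  rw [← FComplLib.comap_mul] at h
  rw [eK, eI, eJ, ht] at h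
  exact h

/-- Degrees add under sums of divisors. -/
theorem isFinLocFreeOfDeg_mul [SmoothOfRelativeDimension 1 f] (I J : X.IdealSheafData) {d e : ℕ}
    (hI : Mor2.IsFinLocFreeOfDeg d (I.subschemeι ≫ f))
    (hJ : Mor2.IsFinLocFreeOfDeg e (J.subschemeι ≫ f)) :
    Mor2.IsFinLocFreeOfDeg (d + e) ((I * J).subschemeι ≫ f) :=
  ⟨isFinLocFree_mul f I J hI.1 hJ.1, fun s => by rw [finrank_mul f I J hI.1 hJ.1 s, hI.2, hJ.2]⟩

end Groth.Agent.PicFRel.CurveDiv
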