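import Groth.Agent.JacTheta.Curve
import Groth.Agent.JacTheta.RelDim
import Groth.Agent.CurveBC.Geometry
import Groth.Agent.GeomField.Fibre
import Groth.Agent.GrpSchLib.SmoothReduced
import Groth.Agent.BunLib68.Slope
import Groth.Agent.PicFRel.UnivH0
import Groth.Agent.PicFRel.PicGood

/-!
# The constant family of a smooth proper curve over a separably closed field
-/

set_option autoImplicit false
set_option linter.style.haveILetI false
set_option linter.overlappingInstances false
set_option linter.unusedSectionVars false
set_option backward.isDefEq.respectTransparency false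
set_option backward.isDefEq.respectTransparency.types false

universe u

open CategoryTheory CategoryTheory.Limits AlgebraicGeometry TopologicalSpace

noncomputable section

namespace Groth.Agent.PicFRel.CurveFam

open Groth.Agent Groth.Agent.JacTheta

variable (k : Type u) [Field k] [IsSepClosed k] (X : Scheme.{u}) [X.Over (Spec (CommRingCat.of k))]
  [IsIntegral X] [IsProper (X ↘ Spec (CommRingCat.of k))] [Smooth (X ↘ Spec (CommRingCat.of k))]

/-- The structure map. -/
abbrev str : X ⟶ Spec (CommRingCat.of k) := X ↘ Spec (CommRingCat.of k)

theorem geometricallyIntegral : GeometricallyIntegral (str k X) := by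
  haveI : GeometricallyReduced (str k X) := GrpSchLib.geometricallyReduced_of_smooth (str k X)
  haveI : GeometricallyIrreducible (str k X) :=
    GeomField.geometricallyIrreducible_of_isSepClosed (k := k) (X := X)
  exact GeometricallyIntegral.of_geometricallyReduced_of_geometricallyIrreducible _

theorem const_app (T : Over (Spec (CommRingCat.of k))) (U : T.left.Opens) :
    IsIso ((PicF.XTproj (str k X) T).app U) := by
  haveI := geometricallyIntegral k X
  haveI : IsLocallyNoetherian (Spec (CommRingCat.of k)) := inferInstance
  exact (ConcreteCategory.isIso_iff_bijective _).2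
    (UnivH0.bijective_app (str k X) (H23.RigidApply.constFibres_of_geometricallyIntegral (str k X)) T.left T.hom U)

variable {k X} (T : Over (Spec (CommRingCat.of k))) (t : T.left)

theorem isPullback_fiber :
    IsPullback ((PicF.XTproj (str k X) T).fiberι t ≫ pullback.fst (str k X) T.hom)
      ((PicF.XTproj (str k X) T).fiberToSpecResidueField t) (str k X)
      (T.left.fromSpecResidueField t ≫ T.hom) :=
  (IsPullback.of_hasPullback (PicF.XTproj (str k X) T) (T.left.fromSpecResidueField t)).paste_horiz
    (IsPullback.of_hasPullback (str k X) T.hom)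

instance instOverFiber : ((PicF.XTproj (str k X) T).fiber t).Over
    (Spec (CommRingCat.of (T.left.residueField t))) :=
  ⟨(PicF.XTproj (str k X) T).fiberToSpecResidueField t⟩

theorem isProper_fiber :
    IsProper ((PicF.XTproj (str k X) T).fiber t ↘ Spec (CommRingCat.of (T.left.residueField t))) :=
  MorphismProperty.of_isPullback (P := @IsProper) (isPullback_fiber T t) inferInstance

theorem smooth_fiber :
    Smooth ((PicF.XTproj (str k X) T).fiber t ↘ Spec (CommRingCat.of (T.left.residueField t))) :=
  MorphismProperty.of_isPullback (P := @Smooth) (isPullback_fiber T t) inferInstance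

theorem geometricallyIntegral_fiber :
    GeometricallyIntegral ((PicF.XTproj (str k X) T).fiber t ↘ Spec (CommRingCat.of (T.left.residueField t))) :=
  MorphismProperty.of_isPullback (P := @GeometricallyIntegral) (isPullback_fiber T t) (geometricallyIntegral k X)

theorem geometricallyConnected_fiber :
    GeometricallyConnected ((PicF.XTproj (str k X) T).fiber t ↘ Spec (CommRingCat.of (T.left.residueField t))) :=
  haveI := geometricallyIntegral_fiber (k := k) (X := X) T t
  BunLib68.geometricallyConnected_of_geometricallyIntegral (T.left.residueField t)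

theorem isIntegral_fiber : IsIntegral ((PicF.XTproj (str k X) T).fiber t) := by
  haveI := geometricallyIntegral_fiber (k := k) (X := X) T t
  haveI := smooth_fiber (k := k) (X := X) T t
  haveI : Subsingleton (Spec (CommRingCat.of (T.left.residueField t))) :=
    inferInstanceAs (Subsingleton (PrimeSpectrum (T.left.residueField t)))
  exact GeometricallyIntegral.isIntegral_of_subsingleton
    ((PicF.XTproj (str k X) T).fiber t ↘ Spec (CommRingCat.of (T.left.residueField t)))

theorem exists_algebra_pullback : ∃ (_ : Algebra k (T.left.residueField t)),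
    IsPullback ((PicF.XTproj (str k X) T).fiberι t ≫ pullback.fst (str k X) T.hom)
      ((PicF.XTproj (str k X) T).fiber t ↘ Spec (CommRingCat.of (T.left.residueField t))) (str k X)
      (Spec.map (CommRingCat.ofHom (algebraMap k (T.left.residueField t)))) := by
  obtain ⟨χ, hχ⟩ := Spec.map_surjective (T.left.fromSpecResidueField t ≫ T.hom)
  refine ⟨χ.hom.toAlgebra, ?_⟩
  show IsPullback _ ((PicF.XTproj (str k X) T).fiberToSpecResidueField t) _ (Spec.map χ)
  rw [hχ]
  exact isPullback_fiber T t

theorem topologicalKrullDim_fiber (hdim : topologicalKrullDim X = 1) :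
    topologicalKrullDim ((PicF.XTproj (str k X) T).fiber t) = 1 := by
  obtain ⟨_, h⟩ := exists_algebra_pullback T t (k := k) (X := X)
  exact CurveBC.topologicalKrullDim_eq k (T.left.residueField t) _ h hdim

theorem genus_fiber :
    Curv2.genus (T.left.residueField t) ((PicF.XTproj (str k X) T).fiber t) = Curv2.genus k X := by
  haveI := quasiSeparatedSpace_of_quasiSeparated (str k X)
  haveI := QuasiCompact.compactSpace_of_compactSpace (str k X)
  obtain ⟨_, h⟩ := exists_algebra_pullback T t (k := k) (X := X)
  exact CurveBC.genus_eq k (T.left.residueField t) _ h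

theorem smoothRelDim_proj (hdim : topologicalKrullDim X = 1) :
    SmoothOfRelativeDimension 1 (PicF.XTproj (str k X) T) :=
  haveI := smoothOfRelativeDimension_isStableUnderBaseChange (n := 1)
  MorphismProperty.pullback_snd (P := @SmoothOfRelativeDimension 1) _ _
    (smoothOfRelativeDimension_one k X hdim)

/-- At a good point the degree is the genus. -/
theorem dgr_of_goodAt (hdim : topologicalKrullDim X = 1) (c : LB (PicF.XT (str k X) T))
    (h : PicGood.GoodAt (PicF.XTproj (str k X) T) (c : PicF.Cl _) t) :
    (haveI := isIntegral_fiber (k := k) (X := X) T t; haveI := isProper_fiber (k := k) (X := X) T t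
     dgr (T.left.residueField t) (PicF.pullCl ((PicF.XTproj (str k X) T).fiberι t) (c : PicF.Cl _))) =
      Curv2.genus k X := by
  haveI := isIntegral_fiber (k := k) (X := X) T t; haveI := isProper_fiber (k := k) (X := X) T t; haveI := smooth_fiber (k := k) (X := X) T t
  haveI := geometricallyConnected_fiber (k := k) (X := X) T t
  have hr := rr (k := T.left.residueField t) (topologicalKrullDim_fiber T t hdim)
    (LB.pull ((PicF.XTproj (str k X) T).fiberι t) c)
  obtain ⟨h0, h1⟩ := h
  have e0 : hh (T.left.residueField t) 0 (PicF.pullCl ((PicF.XTproj (str k X) T).fiberι t) (c : PicF.Cl _)) = 1 := h0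
  have e1 : hh (T.left.residueField t) 1 (PicF.pullCl ((PicF.XTproj (str k X) T).fiberι t) (c : PicF.Cl _)) = 0 := h1
  rw [LB.pull_val, e0, e1, genus_fiber T t] at hr

  push_cast at hr
  omega

/-- One section and degree the genus make a good point. -/
theorem goodAt_of_dgr (hdim : topologicalKrullDim X = 1) (c : LB (PicF.XT (str k X) T))
    (h0 : PicGood.fibHh (PicF.XTproj (str k X) T) t 0 (c : PicF.Cl _) = 1)
    (hd : (haveI := isIntegral_fiber (k := k) (X := X) T t; haveI := isProper_fiber (k := k) (X := X) T t
     dgr (T.left.residueField t) (PicF.pullCl ((PicF.XTproj (str k X) T).fiberι t) (c : PicF.Cl _))) =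
      Curv2.genus k X) : PicGood.GoodAt (PicF.XTproj (str k X) T) (c : PicF.Cl _) t := by
  haveI := isIntegral_fiber (k := k) (X := X) T t; haveI := isProper_fiber (k := k) (X := X) T t; haveI := smooth_fiber (k := k) (X := X) T t
  haveI := geometricallyConnected_fiber (k := k) (X := X) T t
  have hr := rr (k := T.left.residueField t) (topologicalKrullDim_fiber T t hdim)
    (LB.pull ((PicF.XTproj (str k X) T).fiberι t) c)
  rw [LB.pull_val, hd, genus_fiber T t] at hr
  refine ⟨h0, ?_⟩
  have e0 : hh (T.left.residueField t) 0 (PicF.pullCl ((PicF.XTproj (str k X) T).fiberι t) (c : PicF.Cl _)) = 1 := h0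
  rw [e0] at hr
  show hh (T.left.residueField t) 1 (PicF.pullCl ((PicF.XTproj (str k X) T).fiberι t) (c : PicF.Cl _)) = 0
  push_cast at hr
  omega

end Groth.Agent.PicFRel.CurveFam
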