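import Groth.Agent.JacTheta.General
import Groth.Agent.CurveBC.Geometry
import Groth.Agent.GeomField.Fibre
import Groth.Agent.ResSurf.PullIdeal
import Groth.Agent.FComplLib.IdealComap
import Groth.Agent.S8914

/-! On the base change of a curve over a separably closed field every line bundle becomes
non-special with a one-dimensional space of sections after a twist by rational points of the curve. -/

set_option linter.unusedSectionVars false
set_option linter.style.haveILetI false
set_option linter.overlappingInstances false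
set_option backward.isDefEq.respectTransparency false
set_option backward.isDefEq.respectTransparency.types false

universe u

open CategoryTheory CategoryTheory.Limits AlgebraicGeometry TopologicalSpace

noncomputable section

namespace Groth.Agent.PicFRel.CurveTwistBC

open scoped H23.PicMul
open Groth.Agent.JacTheta

theorem geometricallyConnected (k : Type u) [Field k] [IsSepClosed k] (X : Scheme.{u})
    [X.Over (Spec (CommRingCat.of k))] [IsIntegral X] :
    GeometricallyConnected (X ↘ Spec (CommRingCat.of k)) := by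
  haveI := GeomField.geometricallyIrreducible_of_isSepClosed (k := k) (X := X)
  exact ⟨fun K _ y Z g₁ g₂ h =>
    haveI := GeometricallyIrreducible.geometrically_irreducibleSpace (f := X ↘ Spec (CommRingCat.of k)) y g₁ g₂ h
    show ConnectedSpace Z from { toNonempty := inferInstance }⟩

variable {k : Type u} [Field k] {X : Scheme.{u}} [X.Over (Spec (CommRingCat.of k))]
  {K : Type u} [Field K] [Algebra k K] {XK : Scheme.{u}} [XK.Over (Spec (CommRingCat.of K))]
  {g : XK ⟶ X}
  (hpb : IsPullback g (XK ↘ Spec (CommRingCat.of K)) (X ↘ Spec (CommRingCat.of k))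
      (Spec.map (CommRingCat.ofHom (algebraMap k K))))

/-- The rational point of the base change over a rational point. -/
def lift (x : Pt k X) : Pt K XK :=
  ⟨hpb.lift (Spec.map (CommRingCat.ofHom (algebraMap k K)) ≫ x.1) (𝟙 _)
    (by rw [Category.assoc, x.2, Category.comp_id, Category.id_comp]), hpb.lift_snd _ _ _⟩

theorem lift_fst (x : Pt k X) :
    (lift hpb x).1 ≫ g = Spec.map (CommRingCat.ofHom (algebraMap k K)) ≫ x.1 :=
  hpb.lift_fst _ _ _

theorem lift_pt (x : Pt k X) : g (lift hpb x).pt = x.pt := by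
  haveI : Subsingleton (Spec (CommRingCat.of k)) := inferInstanceAs (Subsingleton (PrimeSpectrum k))
  have := congr($(lift_fst hpb x) (IsLocalRing.closedPoint K))
  refine this.trans ?_
  exact congrArg (fun p => x.1 p) (Subsingleton.elim _ _)

theorem isPullback_lift (x : Pt k X) :
    IsPullback (lift hpb x).1 (Spec.map (CommRingCat.ofHom (algebraMap k K))) g x.1 := by
  refine IsPullback.of_right ?_ (lift_fst hpb x) hpb.flip
  rw [(lift hpb x).2, x.2]
  exact IsPullback.of_horiz_isIso ⟨by rw [Category.id_comp, Category.comp_id]⟩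

variable [IsIntegral X] [IsProper (X ↘ Spec (CommRingCat.of k))] [Smooth (X ↘ Spec (CommRingCat.of k))]
  [IsIntegral XK] [IsProper (XK ↘ Spec (CommRingCat.of K))] [Smooth (XK ↘ Spec (CommRingCat.of K))]
  (hdim : topologicalKrullDim X = 1) (hdimK : topologicalKrullDim XK = 1)

theorem pull_O (x : Pt k X) : LB.pull g (O hdim x) = O hdimK (lift hpb x) := by
  refine inv_injective ?_
  rw [← map_inv]
  refine Units.ext ?_
  rw [LB.pull_val, O_inv_val, O_inv_val]
  haveI : IsClosedImmersion (x.1 ≫ (X ↘ Spec (CommRingCat.of k))) := by rw [x.2]; infer_instance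
  haveI : IsClosedImmersion x.1 := IsClosedImmersion.of_comp x.1 (X ↘ Spec (CommRingCat.of k))
  have hker : (lift hpb x).1.ker = x.1.ker.comap g :=
    FComplLib.ker_of_isPullback (isPullback_lift hpb x)
  have h2 := (S8914.result _).1 ((lift hpb x).isInvertible hdimK)
  rw [hker] at h2 ⊢
  obtain ⟨e⟩ := ResSurf.PullIdeal.nonempty_pullback_idealMod g x.1.ker
    ((S8914.result _).1 (x.isInvertible hdim)) h2
  exact (PicGrp.cl_eq_cl_iff _ _).2 ⟨e⟩

include hdim in
/-- Lifts of rational points avoid any finite set. -/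
theorem exists_avoid [IsSepClosed k] {B : Set XK} (hB : B.Finite) :
    ∃ x : Pt k X, (lift hpb x).pt ∉ B := by
  let F : Set X := {p | p ∈ g '' B ∧ IsClosed ({p} : Set X)}
  have hfin : F.Finite := (hB.image g).subset fun p hp => hp.1
  have hcl : IsClosed F := by
    rw [← Set.biUnion_of_singleton F]
    exact hfin.isClosed_biUnion fun p hp => hp.2
  obtain ⟨x, hx⟩ := exists_pt (k := k) (C := X) hdim ⟨Fᶜ, hcl.isOpen_compl⟩
    ⟨genericPoint X, fun h => CurveEmbed.genericPoint_not_closed hdim h.2⟩
  exact ⟨x, fun h => hx ⟨⟨_, h, lift_pt hpb x⟩, x.isClosed⟩⟩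

variable [GeometricallyConnected (XK ↘ Spec (CommRingCat.of K))]

include hpb hdim hdimK in
theorem exists_drop [IsSepClosed k] (n : ℕ) (d : LB XK) (h0 : hh K 0 (d : PicF.Cl XK) = n + 1)
    (h1 : hh K 1 (d : PicF.Cl XK) = 0) :
    ∃ c : LB X, hh K 0 ((d * LB.pull g c : LB XK) : PicF.Cl XK) = 1 ∧
      hh K 1 ((d * LB.pull g c : LB XK) : PicF.Cl XK) = 0 := by
  induction n generalizing d with
  | zero => exact ⟨1, by rwa [map_one, mul_one], by rwa [map_one, mul_one]⟩
  | succ n ih =>
    obtain ⟨B, hB, -, -, hdrop⟩ := exists_base_locus (k := K) hdimK d (by omega)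
    obtain ⟨x, hx⟩ := exists_avoid hpb hdim hB
    have h2 := (hdrop (lift hpb x)).1 hx
    have r1 := rr (k := K) hdimK d
    have r2 := rr (k := K) hdimK (d * (O hdimK (lift hpb x))⁻¹)
    rw [dgr_mul hdimK, dgr_inv hdimK, dgr_O hdimK] at r2
    obtain ⟨c, hc0, hc1⟩ := ih (d * (O hdimK (lift hpb x))⁻¹) (by omega) (by omega)
    refine ⟨(O hdim x)⁻¹ * c, ?_, ?_⟩ <;>
      rwa [map_mul, map_inv, pull_O hpb hdim hdimK, ← mul_assoc]

include hpb hdim hdimK in
theorem exists_class [IsSepClosed k] (d : LB XK) :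
    ∃ c : LB X, hh K 0 ((d * LB.pull g c : LB XK) : PicF.Cl XK) = 1 ∧
      hh K 1 ((d * LB.pull g c : LB XK) : PicF.Cl XK) = 0 := by
  obtain ⟨x, -⟩ := exists_pt (k := k) (C := X) hdim ⊤ ⟨genericPoint X, trivial⟩
  let n : ℕ := (2 * (Curv2.genus K XK : ℤ) - dgr K (d : PicF.Cl XK)).toNat
  let d' := d * LB.pull g (O hdim x ^ n)
  have hd' : dgr K (d' : PicF.Cl XK) = dgr K (d : PicF.Cl XK) + n := by
    simp only [d', map_pow, pull_O hpb hdim hdimK]
    rw [dgr_mul hdimK, dgr_pow hdimK, dgr_O hdimK, mul_one]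
  have hn : 2 * (Curv2.genus K XK : ℤ) - dgr K (d : PicF.Cl XK) ≤ (n : ℤ) := Int.self_le_toNat _
  obtain ⟨h1, h0⟩ := hh_of_dgr_gt (k := K) hdimK d' (by omega)
  obtain ⟨c, hc0, hc1⟩ := exists_drop hpb hdim hdimK (hh K 0 (d' : PicF.Cl XK) - 1) d' (by omega) h1
  refine ⟨O hdim x ^ n * c, ?_, ?_⟩ <;> rwa [map_mul, ← mul_assoc]

end Groth.Agent.PicFRel.CurveTwistBC
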