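import Groth.Agent.H23.SeesawMod
import Mathlib.LinearAlgebra.TensorProduct.RightExactness
import Mathlib.RingTheory.Flat.Basic
import Mathlib.Algebra.Module.Torsion.Basic

/-!
# Lifting cycles of degree zero when the first cohomology of the fibre vanishes
-/

set_option autoImplicit false
set_option linter.style.haveILetI false

universe u

open TensorProduct

namespace Groth.Agent.PicFRel.CxLift

variable {A : Type u} [CommRing A] {C₀ C₁ C₂ : Type u} [AddCommGroup C₀] [Module A C₀] [AddCommGroup C₁]
  [Module A C₁] [AddCommGroup C₂] [Module A C₂] (d₀ : C₀ →ₗ[A] C₁) (d₁ : C₁ →ₗ[A] C₂)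

theorem lTensor_rTensor {M N X Y : Type u} [AddCommGroup M] [Module A M] [AddCommGroup N]
    [Module A N] [AddCommGroup X] [Module A X] [AddCommGroup Y] [Module A Y]
    (f : M →ₗ[A] N) (g : X →ₗ[A] Y) (z : X ⊗[A] M) :
    f.lTensor Y (g.rTensor M z) = g.rTensor N (f.lTensor X z) := by
  rw [← LinearMap.comp_apply, ← LinearMap.comp_apply, LinearMap.lTensor_comp_rTensor,
    LinearMap.rTensor_comp_lTensor]

variable {d₀ d₁}

/-- Cycles lift along an extension whose kernel has no first cohomology. -/
theorem exists_lift [Module.Flat A C₂] (hd : d₁ ∘ₗ d₀ = 0) {M' M M'' : Type u}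
    [AddCommGroup M'] [Module A M'] [AddCommGroup M] [Module A M] [AddCommGroup M''] [Module A M'']
    (i : M' →ₗ[A] M) (p : M →ₗ[A] M'') (hi : Function.Injective i) (hp : Function.Surjective p)
    (hex : Function.Exact i p)
    (hM' : Function.Exact (d₀.rTensor M') (d₁.rTensor M'))
    (z : C₀ ⊗[A] M'') (hz : d₀.rTensor M'' z = 0) :
    ∃ y : C₀ ⊗[A] M, d₀.rTensor M y = 0 ∧ p.lTensor C₀ y = z := by
  obtain ⟨y, rfl⟩ := LinearMap.lTensor_surjective C₀ hp z
  rw [← lTensor_rTensor] at hz
  obtain ⟨w, hw⟩ := (lTensor_exact C₁ hex hp _).1 hz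
  have hw0 : d₁.rTensor M' w = 0 := by
    refine Module.Flat.lTensor_preserves_injective_linearMap (M := C₂) i hi ?_
    rw [lTensor_rTensor, hw, map_zero, ← LinearMap.comp_apply, ← LinearMap.rTensor_comp, hd,
      LinearMap.rTensor_zero, LinearMap.zero_apply]
  obtain ⟨v, rfl⟩ := (hM' w).1 hw0
  refine ⟨y - i.lTensor C₀ v, ?_, ?_⟩
  · rw [map_sub, ← lTensor_rTensor, hw, sub_self]
  · rw [map_sub, sub_eq_self, ← LinearMap.comp_apply, ← LinearMap.lTensor_comp, hex.linearMap_comp_eq_zero,
      LinearMap.lTensor_zero, LinearMap.zero_apply]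

variable (d₀ d₁)

/-- Exactness with coefficients in a field gives exactness with coefficients in its vector spaces. -/
theorem exact_of_field (k : Type u) [Field k] [Algebra A k] (M : Type u) [AddCommGroup M] [Module A M]
    [Module k M] [IsScalarTower A k M] (h : Function.Exact (d₀.rTensor k) (d₁.rTensor k)) :
    Function.Exact (d₀.rTensor M) (d₁.rTensor M) := by
  have h1 : Function.Exact (d₀.lTensor k) (d₁.lTensor k) := by
    refine (Function.Exact.iff_of_ladder_linearEquiv (e₁ := TensorProduct.comm A C₀ k)
      (e₂ := TensorProduct.comm A C₁ k) (e₃ := TensorProduct.comm A C₂ k) ?_ ?_).2 h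
    · ext; simp
    · ext; simp
  have h1' : Function.Exact (d₀.baseChange k) (d₁.baseChange k) := h1
  have h2 : Function.Exact ((d₀.baseChange k).lTensor M) ((d₁.baseChange k).lTensor M) :=
    Module.Flat.lTensor_exact M h1'
  have h3 : Function.Exact (d₀.lTensor M) (d₁.lTensor M) := by
    refine (Function.Exact.iff_of_ladder_linearEquiv
      (f₁₂ := ((d₀.baseChange k).lTensor M).restrictScalars A)
      (f₂₃ := ((d₁.baseChange k).lTensor M).restrictScalars A)
      (e₁ := (AlgebraTensorModule.cancelBaseChange A k k M C₀).restrictScalars A)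
      (e₂ := (AlgebraTensorModule.cancelBaseChange A k k M C₁).restrictScalars A)
      (e₃ := (AlgebraTensorModule.cancelBaseChange A k k M C₂).restrictScalars A) ?_ ?_).2 h2
    · ext x
      induction x using TensorProduct.induction_on with
      | zero => simp
      | tmul m y =>
        induction y using TensorProduct.induction_on with
        | zero => simp
        | tmul a c => simp
        | add a b ha hb => simp only [tmul_add, map_add, ha, hb]
      | add a b ha hb => simp only [map_add, ha, hb]
    · ext x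
      induction x using TensorProduct.induction_on with
      | zero => simp
      | tmul m y =>
        induction y using TensorProduct.induction_on with
        | zero => simp
        | tmul a c => simp
        | add a b ha hb => simp only [tmul_add, map_add, ha, hb]
      | add a b ha hb => simp only [map_add, ha, hb]
  refine (Function.Exact.iff_of_ladder_linearEquiv (e₁ := TensorProduct.comm A M C₀)
    (e₂ := TensorProduct.comm A M C₁) (e₃ := TensorProduct.comm A M C₂) ?_ ?_).2 h3
  · ext; simp
  · ext; simp

/-- Cycles lift from one thickening of a prime to the next. -/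
theorem exists_lift_thick [Module.Flat A C₂] (hd : d₁ ∘ₗ d₀ = 0) (x : PrimeSpectrum A)
    (h : Function.Exact (d₀.rTensor x.asIdeal.ResidueField) (d₁.rTensor x.asIdeal.ResidueField))
    (n : ℕ) (p : H23.SeesawMod.Thick x.asIdeal (n + 1) →ₗ[A] H23.SeesawMod.Thick x.asIdeal n)
    (hp : ∀ b : Localization.AtPrime x.asIdeal, p (Ideal.Quotient.mk _ b) = Ideal.Quotient.mk _ b)
    (z : C₀ ⊗[A] H23.SeesawMod.Thick x.asIdeal n) (hz : d₀.rTensor _ z = 0) :
    ∃ y, d₀.rTensor _ y = 0 ∧ p.lTensor C₀ y = z := by
  let R := Localization.AtPrime x.asIdeal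
  let m := IsLocalRing.maximalIdeal R
  let π : H23.SeesawMod.Thick x.asIdeal (n + 1) →ₗ[R] H23.SeesawMod.Thick x.asIdeal n :=
    (Ideal.Quotient.factorₐ R (Ideal.pow_le_pow_right (Nat.le_succ n) : m ^ (n + 1) ≤ m ^ n)).toLinearMap
  have hpπ : p = π.restrictScalars A := LinearMap.ext fun a => by
    obtain ⟨b, rfl⟩ := Ideal.Quotient.mk_surjective a
    exact hp b
  have htor : Module.IsTorsionBySet R (LinearMap.ker π) (m : Set R) := by
    rintro ⟨a, ha⟩ ⟨c, hc⟩
    obtain ⟨b, rfl⟩ := Ideal.Quotient.mk_surjective a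
    have hb : b ∈ m ^ n := Ideal.Quotient.eq_zero_iff_mem.1 ha
    refine Subtype.ext ?_
    show c • Ideal.Quotient.mk (m ^ (n + 1)) b = 0
    rw [← Ideal.Quotient.mk_eq_mk, ← Submodule.Quotient.mk_smul, Submodule.Quotient.mk_eq_zero, smul_eq_mul,
      pow_succ']
    exact Ideal.mul_mem_mul hc hb
  letI : Module x.asIdeal.ResidueField (LinearMap.ker π) :=
    (htor.module : Module (R ⧸ m) (LinearMap.ker π))
  haveI : IsScalarTower R x.asIdeal.ResidueField (LinearMap.ker π) := htor.isScalarTower
  haveI : IsScalarTower A R (LinearMap.ker π) := inferInstance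
  haveI : IsScalarTower A x.asIdeal.ResidueField (LinearMap.ker π) := by
    refine IsScalarTower.of_algebraMap_smul fun a v => ?_
    rw [IsScalarTower.algebraMap_apply A R x.asIdeal.ResidueField, IsScalarTower.algebraMap_smul,
      IsScalarTower.algebraMap_smul]
  have hsurj : Function.Surjective p := fun a => by
    obtain ⟨b, rfl⟩ := Ideal.Quotient.mk_surjective a
    exact ⟨Ideal.Quotient.mk _ b, hp b⟩
  refine exists_lift hd ((LinearMap.ker π).subtype.restrictScalars A) p Subtype.val_injective hsurj ?_
    (exact_of_field d₀ d₁ x.asIdeal.ResidueField _ h) z hz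
  rw [hpπ]
  exact fun a => (LinearMap.exact_subtype_ker_map π) a

end Groth.Agent.PicFRel.CxLift
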