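import Groth.Agent.PicFRel.EffFppfAlg
import Groth.Agent.ThetaG.EffDesc

/-!
Effective descent of invertible modules along flat surjective morphisms locally of finite presentation.
No quasi-compactness: the invariant frames are spread from one affine open whose image is open.
-/

set_option autoImplicit false
set_option linter.style.haveILetI false
set_option backward.isDefEq.respectTransparency false
set_option backward.isDefEq.respectTransparency.types false
set_option maxHeartbeats 1600000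

universe u

open CategoryTheory CategoryTheory.Limits AlgebraicGeometry TopologicalSpace Opposite
open Pseudofunctor Bicategory TensorProduct

noncomputable section

namespace Groth.Agent.PicFRel.EffFppf

open Groth.Agent.AModX Groth.Agent.InvX ThetaGrp
open Groth.Agent.ThetaG hiding span_inv_eq_top exists_inv_frames exists_app_eq_fun exists_ratio exists_eff_desc

variable {Y : Scheme.{u}} {O P : Pseudofunctor.CoGrothendieck modPF.{u}}
  (q : P.base ⟶ Y) (a b : O ⟶ P) [IsIso a.fiber] [IsIso b.fiber]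

omit [IsIso a.fiber] [IsIso b.fiber] in
/-- A function with equal inverse images on the fibre product descends. -/
theorem exists_app_eq_fun {X : Scheme.{u}} (h : X ⟶ Y) [Flat h] [Surjective h] [LocallyOfFinitePresentation h] (V : Y.Opens)
    (c : Γ(X, h ⁻¹ᵁ V))
    (hc : ∀ {Z : Scheme.{u}} (a b : Z ⟶ X) (ha : (⊤ : Z.Opens) ≤ a ⁻¹ᵁ (h ⁻¹ᵁ V))
      (hb : (⊤ : Z.Opens) ≤ b ⁻¹ᵁ (h ⁻¹ᵁ V)), a ≫ h = b ≫ h → a.appLE _ ⊤ ha c = b.appLE _ ⊤ hb c) :
    ∃ d : Γ(Y, V), h.app V d = c := by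
  haveI : Flat (h ∣_ V) := IsZariskiLocalAtTarget.restrict ‹Flat h› V
  haveI : Surjective (h ∣_ V) := IsZariskiLocalAtTarget.restrict ‹Surjective h› V
  haveI : LocallyOfFinitePresentation (h ∣_ V) := IsZariskiLocalAtTarget.restrict ‹LocallyOfFinitePresentation h› V
  let A₁ : CommRingCat.{u} := CommRingCat.of (Polynomial (ULift.{u} ℤ))
  let fn : ∀ {Z : Scheme.{u}}, (Z ⟶ Spec A₁) → Γ(Z, ⊤) := fun g => g.appTop ((Scheme.ΓSpecIso A₁).inv Polynomial.X)
  have hsurj : ∀ {Z : Scheme.{u}} (s : Γ(Z, ⊤)), ∃ g : Z ⟶ Spec A₁, fn g = s := fun {Z} s => by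
    let ψ : A₁ ⟶ Γ(Z, ⊤) := CommRingCat.ofHom (Polynomial.eval₂RingHom ((Int.castRingHom Γ(Z, ⊤)).comp ULift.ringEquiv.toRingHom) s)
    refine ⟨Z.toSpecΓ ≫ Spec.map ψ, ?_⟩
    have h1 : (Scheme.ΓSpecIso A₁).inv ≫ (Z.toSpecΓ ≫ Spec.map ψ).appTop = ψ := by
      rw [Scheme.Hom.comp_appTop, Scheme.toSpecΓ_appTop, ← Category.assoc, ← Scheme.ΓSpecIso_inv_naturality,
        Category.assoc, Iso.inv_hom_id, Category.comp_id]
    exact (congrArg (fun f => f.hom Polynomial.X) h1).trans (Polynomial.eval₂_X _ _)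
  have hinj : ∀ {Z : Scheme.{u}} (g g' : Z ⟶ Spec A₁), fn g = fn g' → g = g' := fun {Z} g g' e => by
    refine hom_ext_Spec (CommRingCat.hom_ext (Polynomial.ringHom_ext' ?_ e))
    exact ringHom_ulift_int_ext _ _
  obtain ⟨gc, hgc⟩ := hsurj ((h ⁻¹ᵁ V).topIso.inv c)
  have Hg : ∀ {Z : Scheme.{u}} (a b : Z ⟶ (h ⁻¹ᵁ V : X.Opens)), a ≫ h ∣_ V = b ≫ h ∣_ V → a ≫ gc = b ≫ gc := by
    intro Z a b e
    refine hinj _ _ ?_
    show (a ≫ gc).appTop _ = (b ≫ gc).appTop _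
    rw [Scheme.Hom.comp_appTop, Scheme.Hom.comp_appTop]
    show a.appTop (fn gc) = b.appTop (fn gc)
    rw [hgc, appTop_topIso, appTop_topIso]
    refine hc _ _ _ _ ?_
    rw [Category.assoc, Category.assoc, ← morphismRestrict_ι, ← Category.assoc, e, Category.assoc]
  refine ⟨V.topIso.hom (fn (EffectiveEpi.desc (h ∣_ V) gc Hg)), ?_⟩
  apply (ConcreteCategory.bijective_of_isIso (h ⁻¹ᵁ V).topIso.inv).1
  rw [← restr_appTop, Iso.hom_inv_id_apply, ← hgc]
  show (h ∣_ V ≫ EffectiveEpi.desc (h ∣_ V) gc Hg).appTop _ = gc.appTop _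
  rw [EffectiveEpi.fac (h ∣_ V) gc Hg]

variable (H : IsPullback a.base b.base q q)
  (hdiag : ∀ (R : Pseudofunctor.CoGrothendieck modPF.{u}) (c : R ⟶ O), IsIso c.fiber →
    (c ≫ a).base = (c ≫ b).base → c ≫ a = c ≫ b)
  (htrans : ∀ (R : Pseudofunctor.CoGrothendieck modPF.{u}) (z₁ z₂ z₃ : R ⟶ O), IsIso z₁.fiber → IsIso z₂.fiber →
    IsIso z₃.fiber → z₁ ≫ b = z₂ ≫ a → z₁ ≫ a = z₃ ≫ a → (z₂ ≫ b).base = (z₃ ≫ b).base → z₂ ≫ b = z₃ ≫ b)

include H hdiag htrans in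
theorem exists_inv_frames [Flat q] [LocallyOfFinitePresentation q] [Surjective q]
    (hP : PicF.IsInvertible (mod P)) (y : Y) :
    ∃ (U : Y.Opens) (x : Γ(mod P, q ⁻¹ᵁ U)), y ∈ U ∧ IsFrame x ∧ Inv a b x := by
  classical
  obtain ⟨x₀, rfl⟩ := q.surjective y
  obtain ⟨V₀, hV₀, hxV₀, -⟩ := exists_isAffineOpen_mem_and_subset (U := (⊤ : Y.Opens)) (x := q x₀) trivial
  obtain ⟨W₁, hW₁, e₁, he₁⟩ := InvX.exists_frame hP x₀
  obtain ⟨W₀, hW₀, hxW₀, hW₀le⟩ := exists_isAffineOpen_mem_and_subset (U := W₁ ⊓ q ⁻¹ᵁ V₀) (x := x₀) ⟨hW₁, hxV₀⟩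
  have hW₀V₀ : W₀ ≤ q ⁻¹ᵁ V₀ := fun z hz => (hW₀le hz).2
  obtain ⟨r, hr, hxV⟩ := hV₀.exists_basicOpen_le
    (V := ⟨q '' (W₀ : Set P.base), q.isOpenMap _ W₀.2⟩) ⟨q x₀, ⟨x₀, hxW₀, rfl⟩⟩ hxV₀
  let V : Y.Opens := Y.basicOpen r
  have hV : IsAffineOpen V := hV₀.basicOpen r
  have hWl : P.base.basicOpen (q.appLE V₀ W₀ hW₀V₀ r) = W₀ ⊓ q ⁻¹ᵁ V := by
    rw [Scheme.preimage_basicOpen]
    exact Scheme.basicOpen_res P.base (q.app V₀ r) (homOfLE hW₀V₀).op
  have hloc : ∀ p : Option (q ⁻¹ᵁ V : P.base.Opens), ∃ W : P.base.Opens, (∀ z ∈ p, z.1 ∈ W) ∧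
      IsAffineOpen W ∧ W ≤ q ⁻¹ᵁ V ∧ (p = none → x₀ ∈ W ∧ ∀ v ∈ V, ∃ z ∈ W, q z = v) ∧
      ∃ e : Γ(mod P, W), IsFrame e := fun p => by
    cases p with
    | none =>
      refine ⟨P.base.basicOpen (q.appLE V₀ W₀ hW₀V₀ r), fun z hz => (Option.not_mem_none z hz).elim,
        hW₀.basicOpen _, hWl.le.trans inf_le_right, fun _ => ⟨hWl.ge ⟨hxW₀, hxV⟩, fun v hv => ?_⟩,
        _, he₁.res (fun z hz => (hW₀le ((P.base.basicOpen_le _) hz)).1)⟩
      obtain ⟨z, hz, hzv⟩ := hr hv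
      exact ⟨z, hWl.ge ⟨hz, show q z ∈ V from hzv ▸ hv⟩, hzv⟩
    | some p =>
      obtain ⟨U, hU, e, he⟩ := InvX.exists_frame hP p.1
      obtain ⟨_, ⟨W, hW, rfl⟩, hpW, hWU⟩ :=
        P.base.isBasis_affineOpens.exists_subset_of_mem_open (show p.1 ∈ U ⊓ q ⁻¹ᵁ V from ⟨hU, p.2⟩) (U ⊓ q ⁻¹ᵁ V).2
      exact ⟨W, fun z hz => (Option.mem_some_iff.1 hz) ▸ hpW, hW, fun z hz => (hWU hz).2, nofun,
        _, he.res (fun z hz => (hWU hz).1)⟩
  choose W hpW hWaff hWV hnone e he using hloc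
  let T := Option (q ⁻¹ᵁ V : P.base.Opens)
  let R₀ := Γ(Y, V)
  let S : T → Type u := fun i => Γ(P.base, W i)
  letI : ∀ i, Algebra R₀ (S i) := fun i => (q.appLE V (W i) (hWV _)).hom.toAlgebra
  haveI hflat : ∀ i, Module.Flat R₀ (S i) := fun i => by
    show (q.appLE V (W i) (hWV _)).hom.Flat
    exact HasRingHomProperty.appLE @Flat q ‹_› ⟨V, hV⟩ ⟨W i, hWaff _⟩ (hWV _)
  haveI : Module.FaithfullyFlat R₀ (S none) := by
    refine RingHom.faithfullyFlat_algebraMap_iff.1 (RingHom.FaithfullyFlat.iff_flat_and_comap_surjective.2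
      ⟨RingHom.flat_algebraMap_iff.2 (hflat none), fun v => ?_⟩)
    have hv : hV.fromSpec v ∈ V := by
      have : hV.fromSpec v ∈ Set.range hV.fromSpec := ⟨v, rfl⟩
      rwa [IsAffineOpen.range_fromSpec] at this
    obtain ⟨z, hz, hzv⟩ := (hnone none rfl).2 _ hv
    obtain ⟨z', rfl⟩ : z ∈ Set.range (hWaff none).fromSpec := by rw [IsAffineOpen.range_fromSpec]; exact hz
    refine ⟨z', hV.fromSpec.isOpenEmbedding.injective ?_⟩
    rw [← hzv]
    exact congr($(IsAffineOpen.SpecMap_appLE_fromSpec q hV (hWaff none) (hWV none)) z')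
  -- the coordinates of the frames
  let WW : T → T → O.base.Opens := fun i j => a.base ⁻¹ᵁ W i ⊓ b.base ⁻¹ᵁ W j
  choose dA hdA _hA using fun i j : T => exists_rel a (inf_le_left : WW i j ≤ a.base ⁻¹ᵁ W i) (e i)
  choose dB hdB _hB using fun i j : T => exists_rel b (inf_le_right : WW i j ≤ b.base ⁻¹ᵁ W j) (e j)
  choose w hw using fun i j : T => isUnit_coord (rel_isFrame (hdA i j) (he _)) (rel_isFrame (hdB i j) (he _))
  have hep : ∀ i j : T, ∃ eps : S i ⊗[R₀] S j ≃+* Γ(O.base, WW i j), ∀ (s : S i) (t : S j),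
      eps (s ⊗ₜ[R₀] t) = a.base.appLE (W i) (WW i j) inf_le_left s * b.base.appLE (W j) (WW i j) inf_le_right t := by
    intro i j
    have hpo : IsPushout (q.appLE V (W i) (hWV _)) (q.appLE V (W j) (hWV _))
        (a.base.appLE (W i) (WW i j) inf_le_left) (b.base.appLE (W j) (WW i j) inf_le_right) :=
      (isIso_pushoutSection_iff H (hWV _) (hWV _) rfl).1
        (isIso_pushoutSection_of_isAffineOpen H (hWV _) (hWV _) rfl hV (hWaff _) (hWaff _))
    let T₂ := Γ(O.base, WW i j)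
    letI : Algebra (S i) T₂ := (a.base.appLE (W i) (WW i j) inf_le_left).hom.toAlgebra
    letI : Algebra (S j) T₂ := (b.base.appLE (W j) (WW i j) inf_le_right).hom.toAlgebra
    letI : Algebra R₀ T₂ := ((algebraMap (S i) T₂).comp (algebraMap R₀ (S i))).toAlgebra
    haveI : IsScalarTower R₀ (S i) T₂ := IsScalarTower.of_algebraMap_eq' rfl
    haveI : IsScalarTower R₀ (S j) T₂ := IsScalarTower.of_algebraMap_eq' (congrArg CommRingCat.Hom.hom hpo.w)
    haveI : Algebra.IsPushout R₀ (S i) (S j) T₂ := CommRingCat.isPushout_iff_isPushout.1 hpo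
    exact ⟨(Algebra.IsPushout.equiv R₀ (S i) (S j) T₂).toRingEquiv,
      fun s t => Algebra.IsPushout.equiv_tmul R₀ (S i) (S j) T₂ s t⟩
  choose eps hep using hep
  let u : ∀ i j : T, S i ⊗[R₀] S j := fun i j => (eps i j).symm (w i j : Γ(O.base, WW i j))
  have hepu : ∀ i j, eps i j (u i j) = (w i j : Γ(O.base, WW i j)) := fun i j => RingEquiv.apply_symm_apply _ _
  -- the value of a tensor at a point
  have heval : ∀ (i j : T) {B : CommRingCat.{u}} (g : Spec B ⟶ O.base) (hg : (⊤ : (Spec B).Opens) ≤ g ⁻¹ᵁ WW i j)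
      (h₁ : (⊤ : (Spec B).Opens) ≤ (g ≫ a.base) ⁻¹ᵁ W i) (h₂ : (⊤ : (Spec B).Opens) ≤ (g ≫ b.base) ⁻¹ᵁ W j)
      (s : S i) (t : S j), g.appLE (WW i j) ⊤ hg (eps i j (s ⊗ₜ[R₀] t)) =
        (g ≫ a.base).appLE (W i) ⊤ h₁ s * (g ≫ b.base).appLE (W j) ⊤ h₂ t := by
    intro i j B g hg h₁ h₂ s t
    rw [hep, map_mul, appLE_appLE g a.base _ hg h₁, appLE_appLE g b.base _ hg h₂]
  have hunit : ∀ i, Algebra.TensorProduct.lmul' R₀ (u i i) = 1 := by
    intro i
    obtain ⟨hc, hcs⟩ := exists_point (hWaff i) (𝟙 (CommRingCat.of (S i)))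
    set c : Spec (CommRingCat.of (S i)) ⟶ P.base := Spec.map (𝟙 (CommRingCat.of (S i))) ≫ (hWaff i).fromSpec
    let z : Spec (CommRingCat.of (S i)) ⟶ O.base := H.lift c c rfl
    have hza : z ≫ a.base = c := H.lift_fst _ _ _
    have hzb : z ≫ b.base = c := H.lift_snd _ _ _
    let R' : Pseudofunctor.CoGrothendieck modPF.{u} := ⟨_, (Scheme.Modules.pullback c).obj (mod P)⟩
    let c' : R' ⟶ P := ⟨c, 𝟙 _⟩
    haveI : IsIso c'.fiber := inferInstanceAs (IsIso (𝟙 ((Scheme.Modules.pullback c).obj (mod P))))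
    obtain ⟨z', ⟨hz', hz'a⟩, -⟩ := existsUnique_lift a c' z hza.symm
    haveI : IsIso (z' ≫ a).fiber := by rw [hz'a]; infer_instance
    haveI := lift_fiber_isIso a z'
    have hz'b : z' ≫ b = c' := by
      rw [← hdiag R' z' inferInstance (by show z'.base ≫ _ = z'.base ≫ _; rw [hz', hza, hzb]), hz'a]
    obtain ⟨f, hf, -⟩ := exists_rel c' hc (e i)
    have za : z'.base ≫ a.base = c := by rw [hz', hza]
    have zb : z'.base ≫ b.base = c := by rw [hz', hzb]
    have hc1 : (⊤ : (Spec (CommRingCat.of (S i))).Opens) ≤ (z'.base ≫ a.base) ⁻¹ᵁ W i := by rw [za]; exact hc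
    have hc2 : (⊤ : (Spec (CommRingCat.of (S i))).Opens) ≤ (z'.base ≫ b.base) ⁻¹ᵁ W i := by rw [zb]; exact hc
    have hzW : (⊤ : (Spec (CommRingCat.of (S i))).Opens) ≤ z'.base ⁻¹ᵁ WW i i := fun p hp => ⟨hc1 hp, hc2 hp⟩
    have h1 := coord_pull a b _ _ (hdA i i) (hdB i i) (hw i i) z' c' c' hz'a hz'b hzW hc hc hf hf
    have h2 : z'.base.appLE (WW i i) ⊤ hzW (w i i : Γ(O.base, WW i i)) = 1 :=
      (rel_isFrame hf (he _)).coord_unique le_rfl (by rw [AModX.res_self, ← h1, one_smul])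
    have h3 : ∀ t : S i ⊗[R₀] S i, z'.base.appLE (WW i i) ⊤ hzW (eps i i t) =
        (Scheme.ΓSpecIso (CommRingCat.of (S i))).inv (Algebra.TensorProduct.lmul' R₀ t) := fun t => by
      induction t using TensorProduct.induction_on with
      | zero => simp
      | tmul s t =>
        refine (heval i i z'.base hzW hc1 hc2 s t).trans ((congrArg₂ (· * ·) ((appLE_of_eq za hc1 hc s).trans (hcs s))
          ((appLE_of_eq zb hc2 hc t).trans (hcs t))).trans ?_)
        rw [Algebra.TensorProduct.lmul'_apply_tmul]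
        exact (map_mul _ _ _).symm
      | add x y hx hy => rw [map_add, map_add, hx, hy, map_add, map_add]
    refine (ConcreteCategory.bijective_of_isIso (Scheme.ΓSpecIso (CommRingCat.of (S i))).inv).1 ?_
    rw [← h3, hepu, h2, map_one]
  have hcoc : ∀ l i j, Algebra.TensorProduct.map (AlgHom.id R₀ (S l)) Algebra.TensorProduct.includeRight (u l j) =
      (1 : S l) ⊗ₜ[R₀] u i j *
        Algebra.TensorProduct.map (AlgHom.id R₀ (S l)) Algebra.TensorProduct.includeLeft (u l i) := by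
    intro l i j
    let B := CommRingCat.of (S l ⊗[R₀] (S i ⊗[R₀] S j))
    let σl : CommRingCat.of (S l) ⟶ B :=
      CommRingCat.ofHom (Algebra.TensorProduct.includeLeft : S l →ₐ[R₀] S l ⊗[R₀] (S i ⊗[R₀] S j)).toRingHom
    let σi : CommRingCat.of (S i) ⟶ B :=
      CommRingCat.ofHom ((Algebra.TensorProduct.includeRight : S i ⊗[R₀] S j →ₐ[R₀] S l ⊗[R₀] (S i ⊗[R₀] S j)).comp
        (Algebra.TensorProduct.includeLeft : S i →ₐ[R₀] S i ⊗[R₀] S j)).toRingHom
    let σj : CommRingCat.of (S j) ⟶ B :=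
      CommRingCat.ofHom ((Algebra.TensorProduct.includeRight : S i ⊗[R₀] S j →ₐ[R₀] S l ⊗[R₀] (S i ⊗[R₀] S j)).comp
        (Algebra.TensorProduct.includeRight : S j →ₐ[R₀] S i ⊗[R₀] S j)).toRingHom
    have halg : ∀ (m : T) (σ : CommRingCat.of (S m) ⟶ B) (hσ : ∀ r, σ (algebraMap R₀ (S m) r) = algebraMap R₀ _ r),
        (Spec.map σ ≫ (hWaff m).fromSpec) ≫ q =
          Spec.map (CommRingCat.ofHom (algebraMap R₀ (S l ⊗[R₀] (S i ⊗[R₀] S j)))) ≫ hV.fromSpec := by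
      intro m σ hσ
      rw [Category.assoc, ← IsAffineOpen.SpecMap_appLE_fromSpec q hV (hWaff m) (hWV _), ← Category.assoc,
        ← Spec.map_comp]
      congr 2
      ext r
      exact hσ r
    obtain ⟨hcl, hcls⟩ := exists_point (hWaff l) σl
    obtain ⟨hci, hcis⟩ := exists_point (hWaff i) σi
    obtain ⟨hcj, hcjs⟩ := exists_point (hWaff j) σj
    set cl : Spec B ⟶ P.base := Spec.map σl ≫ (hWaff l).fromSpec
    set ci : Spec B ⟶ P.base := Spec.map σi ≫ (hWaff i).fromSpec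
    set cj : Spec B ⟶ P.base := Spec.map σj ≫ (hWaff j).fromSpec
    have ql := halg l σl fun r => (Algebra.TensorProduct.includeLeft : S l →ₐ[R₀] S l ⊗[R₀] (S i ⊗[R₀] S j)).commutes r
    have qi := halg i σi fun r => AlgHom.commutes _ r
    have qj := halg j σj fun r => AlgHom.commutes _ r
    let R' : Pseudofunctor.CoGrothendieck modPF.{u} := ⟨Spec B, (Scheme.Modules.pullback cl).obj (mod P)⟩
    let cl' : R' ⟶ P := ⟨cl, 𝟙 _⟩
    haveI : IsIso cl'.fiber := inferInstanceAs (IsIso (𝟙 ((Scheme.Modules.pullback cl).obj (mod P))))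
    let z12 : Spec B ⟶ O.base := H.lift cl ci (ql.trans qi.symm)
    let z23 : Spec B ⟶ O.base := H.lift ci cj (qi.trans qj.symm)
    let z13 : Spec B ⟶ O.base := H.lift cl cj (ql.trans qj.symm)
    obtain ⟨g12, ⟨hg12, hg12a⟩, -⟩ := existsUnique_lift a cl' z12 (H.lift_fst _ _ _).symm
    haveI : IsIso (g12 ≫ a).fiber := by rw [hg12a]; infer_instance
    haveI := lift_fiber_isIso a g12
    haveI := fib_comp_isIso g12 b
    have b12 : (g12 ≫ b).base = ci := by
      show g12.base ≫ b.base = ci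
      rw [hg12]; exact H.lift_snd _ _ _
    obtain ⟨g23, ⟨hg23, hg23a⟩, -⟩ := existsUnique_lift a (g12 ≫ b) z23 (by
      rw [b12]; exact (H.lift_fst _ _ _).symm)
    haveI : IsIso (g23 ≫ a).fiber := by rw [hg23a]; infer_instance
    haveI := lift_fiber_isIso a g23
    haveI := fib_comp_isIso g23 b
    obtain ⟨g13, ⟨hg13, hg13a⟩, -⟩ := existsUnique_lift a cl' z13 (H.lift_fst _ _ _).symm
    haveI : IsIso (g13 ≫ a).fiber := by rw [hg13a]; infer_instance
    haveI := lift_fiber_isIso a g13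
    haveI := fib_comp_isIso g13 b
    have b23 : (g23 ≫ b).base = cj := by
      show g23.base ≫ b.base = cj
      rw [hg23]; exact H.lift_snd _ _ _
    have b13 : (g13 ≫ b).base = cj := by
      show g13.base ≫ b.base = cj
      rw [hg13]; exact H.lift_snd _ _ _
    have e23 : g23 ≫ b = g13 ≫ b :=
      htrans R' g12 g23 g13 inferInstance inferInstance inferInstance hg23a.symm (hg12a.trans hg13a.symm)
        (b23.trans b13.symm)
    obtain ⟨fl, hfl, -⟩ := exists_rel cl' hcl (e l)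
    obtain ⟨fi, hfi, -⟩ := exists_rel (g12 ≫ b) (show ⊤ ≤ (g12 ≫ b).base ⁻¹ᵁ W i by rw [b12]; exact hci) (e i)
    obtain ⟨fj, hfj, -⟩ := exists_rel (g13 ≫ b) (show ⊤ ≤ (g13 ≫ b).base ⁻¹ᵁ W j by rw [b13]; exact hcj) (e j)
    have hle : ∀ (m n : T) (g : R' ⟶ O) (cm cn : Spec B ⟶ P.base), g.base ≫ a.base = cm → g.base ≫ b.base = cn →
        (⊤ : (Spec B).Opens) ≤ cm ⁻¹ᵁ W m → (⊤ : (Spec B).Opens) ≤ cn ⁻¹ᵁ W n →
        (⊤ : (Spec B).Opens) ≤ g.base ⁻¹ᵁ WW m n := by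
      intro m n g cm cn h1 h2 h3 h4
      subst h1 h2
      exact le_inf h3 h4
    have a12 : g12.base ≫ a.base = cl := congrArg Pseudofunctor.CoGrothendieck.Hom.base hg12a
    have a23 : g23.base ≫ a.base = ci := (congrArg Pseudofunctor.CoGrothendieck.Hom.base hg23a).trans b12
    have a13 : g13.base ≫ a.base = cl := congrArg Pseudofunctor.CoGrothendieck.Hom.base hg13a
    have k12 := hle l i g12 _ _ a12 b12 hcl hci
    have k23 := hle i j g23 _ _ a23 b23 hci hcj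
    have k13 := hle l j g13 _ _ a13 b13 hcl hcj
    have r12 := coord_pull a b _ _ (hdA l i) (hdB l i) (hw l i) g12 cl' (g12 ≫ b) hg12a rfl k12 _ _ hfl hfi
    have r23 := coord_pull a b _ _ (hdA i j) (hdB i j) (hw i j) g23 (g12 ≫ b) (g13 ≫ b) hg23a e23 k23 _ _ hfi hfj
    have r13 := coord_pull a b _ _ (hdA l j) (hdB l j) (hw l j) g13 cl' (g13 ≫ b) hg13a rfl k13 _ _ hfl hfj
    have key : g13.base.appLE (WW l j) ⊤ k13 (w l j : Γ(O.base, WW l j)) =
        g12.base.appLE (WW l i) ⊤ k12 (w l i : Γ(O.base, WW l i)) *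
          g23.base.appLE (WW i j) ⊤ k23 (w i j : Γ(O.base, WW i j)) :=
      (rel_isFrame hfj (he _)).coord_unique le_rfl (by rw [AModX.res_self, mul_smul, ← r23, ← r12, ← r13])
    let ψ := (Scheme.ΓSpecIso B).inv
    have t13 : ∀ t, g13.base.appLE (WW l j) ⊤ k13 (eps l j t) =
        ψ (Algebra.TensorProduct.map (AlgHom.id R₀ (S l)) Algebra.TensorProduct.includeRight t) := fun t => by
      induction t using TensorProduct.induction_on with
      | zero => simp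
      | tmul s t =>
        have hb1 : g13.base ≫ b.base = cj := b13
        refine (heval l j g13.base k13 (by rw [a13]; exact hcl) (by rw [hb1]; exact hcj) s t).trans
          ((congrArg₂ (· * ·) ((appLE_of_eq a13 _ hcl s).trans (hcls s))
            ((appLE_of_eq hb1 _ hcj t).trans (hcjs t))).trans ((map_mul _ _ _).symm.trans (congrArg ψ ?_)))
        show (s ⊗ₜ[R₀] (1 : S i ⊗[R₀] S j)) * ((1 : S l) ⊗ₜ[R₀] ((1 : S i) ⊗ₜ[R₀] t)) = s ⊗ₜ[R₀] ((1 : S i) ⊗ₜ[R₀] t)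
        rw [Algebra.TensorProduct.tmul_mul_tmul, mul_one, one_mul]
      | add x y hx hy => rw [map_add, map_add, hx, hy, map_add, map_add]
    have t12 : ∀ t, g12.base.appLE (WW l i) ⊤ k12 (eps l i t) =
        ψ (Algebra.TensorProduct.map (AlgHom.id R₀ (S l)) Algebra.TensorProduct.includeLeft t) := fun t => by
      induction t using TensorProduct.induction_on with
      | zero => simp
      | tmul s t =>
        have hb1 : g12.base ≫ b.base = ci := b12
        refine (heval l i g12.base k12 (by rw [a12]; exact hcl) (by rw [hb1]; exact hci) s t).trans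
          ((congrArg₂ (· * ·) ((appLE_of_eq a12 _ hcl s).trans (hcls s))
            ((appLE_of_eq hb1 _ hci t).trans (hcis t))).trans ((map_mul _ _ _).symm.trans (congrArg ψ ?_)))
        show (s ⊗ₜ[R₀] (1 : S i ⊗[R₀] S j)) * ((1 : S l) ⊗ₜ[R₀] (t ⊗ₜ[R₀] (1 : S j))) = s ⊗ₜ[R₀] (t ⊗ₜ[R₀] (1 : S j))
        rw [Algebra.TensorProduct.tmul_mul_tmul, mul_one, one_mul]
      | add x y hx hy => rw [map_add, map_add, hx, hy, map_add, map_add]
    have t23 : ∀ t, g23.base.appLE (WW i j) ⊤ k23 (eps i j t) = ψ ((1 : S l) ⊗ₜ[R₀] t) := fun t => by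
      induction t using TensorProduct.induction_on with
      | zero => simp
      | tmul s t =>
        have hb1 : g23.base ≫ b.base = cj := b23
        refine (heval i j g23.base k23 (by rw [a23]; exact hci) (by rw [hb1]; exact hcj) s t).trans
          ((congrArg₂ (· * ·) ((appLE_of_eq a23 _ hci s).trans (hcis s))
            ((appLE_of_eq hb1 _ hcj t).trans (hcjs t))).trans ((map_mul _ _ _).symm.trans (congrArg ψ ?_)))
        show ((1 : S l) ⊗ₜ[R₀] (s ⊗ₜ[R₀] (1 : S j))) * ((1 : S l) ⊗ₜ[R₀] ((1 : S i) ⊗ₜ[R₀] t)) = (1 : S l) ⊗ₜ[R₀] (s ⊗ₜ[R₀] t)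
        rw [Algebra.TensorProduct.tmul_mul_tmul, mul_one, Algebra.TensorProduct.tmul_mul_tmul, mul_one, one_mul]
      | add x y hx hy => rw [map_add, map_add, hx, hy, TensorProduct.tmul_add, map_add]
    apply (ConcreteCategory.bijective_of_isIso ψ).1
    rw [map_mul, ← t13, ← t12, ← t23, hepu, hepu, hepu, key, mul_comm]
  -- a point of the fibre and an invariant element nonzero at it
  let l : T := none
  have hx₀ : x₀ ∈ W l := (hnone none rfl).1
  have hspan := span_inv_eq_top u hflat hcoc hunit l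
  obtain ⟨m, hm, hmx⟩ : ∃ m : ∀ i, S i, (∀ i j, (1 : S i) ⊗ₜ[R₀] m j = u i j * (m i ⊗ₜ[R₀] (1 : S j))) ∧
      x₀ ∈ P.base.basicOpen (U := W l) (m l) := by
    by_contra hn
    push Not at hn
    let ev : S l →+* P.base.residueField x₀ := ((P.base.residue x₀).hom.comp (P.base.presheaf.germ (W l) x₀ hx₀).hom)
    have hle : Ideal.span {x : S l | ∃ m : ∀ i, S i,
        (∀ i j, (1 : S i) ⊗ₜ[R₀] m j = u i j * (m i ⊗ₜ[R₀] (1 : S j))) ∧ m l = x} ≤ RingHom.ker ev := by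
      rw [Ideal.span_le]
      rintro _ ⟨m, hm, rfl⟩
      have h := hn m hm
      rw [Scheme.mem_basicOpen _ _ _ hx₀] at h
      exact (IsLocalRing.residue_eq_zero_iff _).2 h
    rw [hspan] at hle
    exact one_ne_zero ((map_one ev).symm.trans (hle Submodule.mem_top))
  have hwm : ∀ i j, b.base.appLE (W j) (WW i j) inf_le_right (m j) =
      (w i j : Γ(O.base, WW i j)) * a.base.appLE (W i) (WW i j) inf_le_left (m i) := fun i j => by
    have h := congrArg (eps i j) (hm i j)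
    rwa [map_mul, hep, hep, hepu, map_one, map_one, one_mul, mul_one] at h
  let D : T → P.base.Opens := fun i => P.base.basicOpen (U := W i) (m i)
  have hDW : ∀ i, D i ≤ W i := fun i => P.base.basicOpen_le _
  let DD : P.base.Opens := ⨆ i, D i
  have hDV : DD ≤ q ⁻¹ᵁ V := iSup_le fun i => (hDW i).trans (hWV _)
  have hbase : ∀ {X₁ X₂ : Scheme.{u}} (f : X₁ ⟶ X₂) {W' : X₂.Opens} {U' : X₁.Opens} (h : U' ≤ f ⁻¹ᵁ W')
      (s : Γ(X₂, W')) (z : X₁), z ∈ U' → (z ∈ X₁.basicOpen (f.appLE W' U' h s) ↔ f z ∈ X₂.basicOpen s) := by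
    intro X₁ X₂ f W' U' h s z hz
    rw [Scheme.Hom.appLE, ConcreteCategory.comp_apply, Scheme.basicOpen_res, ← Scheme.preimage_basicOpen]
    exact ⟨fun hh => hh.2, fun hh => ⟨hz, hh⟩⟩
  have hsat : ∀ (z : O.base) (i j : T), z ∈ WW i j → (a.base z ∈ D i ↔ b.base z ∈ D j) := fun z i j hz => by
    rw [← hbase a.base inf_le_left (m i) z hz, ← hbase b.base inf_le_right (m j) z hz, hwm, Scheme.basicOpen_mul,
      Scheme.basicOpen_of_isUnit _ (w i j).isUnit]
    exact ⟨fun hh => ⟨hz, hh⟩, fun hh => hh.2⟩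
  have hcovW : ∀ x ∈ q ⁻¹ᵁ V, ∃ i : T, x ∈ W i := fun x hx =>
    ⟨some ⟨x, hx⟩, hpW (some ⟨x, hx⟩) ⟨x, hx⟩ rfl⟩
  have hqq : ∀ z : O.base, q (a.base z) = q (b.base z) := fun z => by
    rw [← Scheme.Hom.comp_apply, H.w, Scheme.Hom.comp_apply]
  have hsat' : ∀ z : O.base, a.base z ∈ DD ↔ b.base z ∈ DD := by
    intro z
    constructor <;> intro h <;> obtain ⟨i, hi⟩ := Opens.mem_iSup.1 h
    · obtain ⟨j, hj⟩ := hcovW (b.base z) (show q (b.base z) ∈ V from hqq z ▸ hWV _ (hDW i hi))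
      exact Opens.mem_iSup.2 ⟨j, (hsat z i j ⟨hDW i hi, hj⟩).1 hi⟩
    · obtain ⟨j, hj⟩ := hcovW (a.base z) (show q (a.base z) ∈ V from (hqq z).symm ▸ hWV _ (hDW i hi))
      exact Opens.mem_iSup.2 ⟨j, (hsat z j i ⟨hj, hDW i hi⟩).2 hi⟩
  have hopen : IsOpen (q '' (DD : Set P.base)) := q.isOpenMap _ DD.2
  let U : Y.Opens := ⟨q '' (DD : Set P.base), hopen⟩
  have hUD : q ⁻¹ᵁ U ≤ DD := by
    rintro x ⟨x', hx', hxx'⟩
    obtain ⟨z, hz₁, hz₂⟩ := Scheme.Pullback.exists_preimage_pullback x' x hxx'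
    have e1 : a.base (H.isoPullback.inv z) = x' := by
      rw [← Scheme.Hom.comp_apply, IsPullback.isoPullback_inv_fst]; exact hz₁
    have e2 : b.base (H.isoPullback.inv z) = x := by
      rw [← Scheme.Hom.comp_apply, IsPullback.isoPullback_inv_snd]; exact hz₂
    exact e2 ▸ (hsat' _).1 (e1.symm ▸ hx')
  have hDU : ∀ i, D i ≤ q ⁻¹ᵁ U := fun i x hx => ⟨x, Opens.mem_iSup.2 ⟨i, hx⟩, rfl⟩
  let s : ∀ i, Γ(mod P, D i) := fun i =>
    resR (hDW i) (m i : Γ(P.base, W i)) • AModX.res (mod P) (hDW i) (e i)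
  have hsf : ∀ i, IsFrame (s i) := fun i => ((he i).res _).isUnit_smul
    (RingedSpace.isUnit_res_basicOpen (X := P.base.toSheafedSpace) (m i))
  have hglue : ∀ i j, LogModGeo.rs (mod P) (inf_le_left : D i ⊓ D j ≤ D i) (s i) =
      LogModGeo.rs (mod P) (inf_le_right : D i ⊓ D j ≤ D j) (s j) := by
    intro i j
    let U' : P.base.Opens := D i ⊓ D j
    have hi : U' ≤ W i := inf_le_left.trans (hDW i)
    have hj : U' ≤ W j := inf_le_right.trans (hDW j)
    let R' : Pseudofunctor.CoGrothendieck modPF.{u} := ⟨(U' : Scheme.{u}), (Scheme.Modules.pullback U'.ι).obj (mod P)⟩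
    let c' : R' ⟶ P := ⟨U'.ι, 𝟙 _⟩
    haveI : IsIso c'.fiber := inferInstanceAs (IsIso (𝟙 ((Scheme.Modules.pullback U'.ι).obj (mod P))))
    let z : (U' : Scheme.{u}) ⟶ O.base := H.lift U'.ι U'.ι rfl
    obtain ⟨z', ⟨hz', hz'a⟩, -⟩ := existsUnique_lift a c' z (H.lift_fst _ _ _).symm
    haveI : IsIso (z' ≫ a).fiber := by rw [hz'a]; infer_instance
    haveI := lift_fiber_isIso a z'
    have za : z'.base ≫ a.base = U'.ι := congrArg Pseudofunctor.CoGrothendieck.Hom.base hz'a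
    have zb : z'.base ≫ b.base = U'.ι := by rw [hz']; exact H.lift_snd _ _ _
    have hz'b : z' ≫ b = c' := by
      rw [← hdiag R' z' inferInstance (za.trans zb.symm), hz'a]
    let O' := U'.ι ⁻¹ᵁ U'
    have hi' : O' ≤ c'.base ⁻¹ᵁ W i := U'.ι.preimage_mono hi
    have hj' : O' ≤ c'.base ⁻¹ᵁ W j := U'.ι.preimage_mono hj
    have hza' : O' ≤ (z'.base ≫ a.base) ⁻¹ᵁ W i := by rw [za]; exact hi'
    have hzb' : O' ≤ (z'.base ≫ b.base) ⁻¹ᵁ W j := by rw [zb]; exact hj'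
    have hzW : O' ≤ z'.base ⁻¹ᵁ WW i j := fun p hp => ⟨hza' hp, hzb' hp⟩
    obtain ⟨fi, hfi, -⟩ := exists_rel c' hi' (e i)
    obtain ⟨fj, hfj, -⟩ := exists_rel c' hj' (e j)
    have hrel := coord_pull a b _ _ (hdA i j) (hdB i j) (hw i j) z' c' c' hz'a hz'b hzW hi' hj' hfi hfj
    have hmm : c'.base.appLE (W j) O' hj' (m j) =
        z'.base.appLE (WW i j) O' hzW (w i j : Γ(O.base, WW i j)) * c'.base.appLE (W i) O' hi' (m i) := by
      have h := congrArg (z'.base.appLE (WW i j) O' hzW) (hwm i j)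
      rw [map_mul, appLE_appLE z'.base b.base _ hzW (by rw [zb]; exact hj'),
        appLE_appLE z'.base a.base _ hzW (by rw [za]; exact hi')] at h
      simpa only [za, zb] using h
    have hpi := rel_res c' (hi) (le_refl O') le_rfl (rel_smul c' (m i : Γ(P.base, W i)) hfi)
    have hpj := rel_res c' (hj) (le_refl O') le_rfl (rel_smul c' (m j : Γ(P.base, W j)) hfj)
    rw [AModX.res_self] at hpi hpj
    rw [hrel, ← mul_smul, mul_comm, ← hmm] at hpi
    have hres : ∀ (k : T) (hk : U' ≤ D k), LogModGeo.rs (mod P) hk (s k) =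
        AModX.res (mod P) (hk.trans (hDW k)) ((m k : Γ(P.base, W k)) • e k) := fun k hk => by
      show AModX.res _ hk (resR (hDW k) (m k : Γ(P.base, W k)) • AModX.res _ (hDW k) (e k)) = _
      rw [← res_smul, res_res]
    rw [hres i inf_le_left, hres j inf_le_right]
    refine (bijective_pullSec U'.ι hP (le_of_eq U'.opensRange_ι.symm)).1 ?_
    exact hpi.symm.trans hpj
  obtain ⟨x, hx⟩ := LogModGeo.exists_glue (mod P) (U := q ⁻¹ᵁ U) D hDU
    (fun z hz => Opens.mem_iSup.1 (hUD hz)) s hglue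
  refine ⟨U, x, ⟨x₀, Opens.mem_iSup.2 ⟨l, hmx⟩, rfl⟩, ?_, ?_⟩
  · have hloc : ∀ z ∈ q ⁻¹ᵁ U, ∃ i, z ∈ D i := fun z hz => Opens.mem_iSup.1 (hUD hz)
    intro W' hW'
    have hwi : ∀ i, (W' ⊓ D i : P.base.Opens) ≤ q ⁻¹ᵁ U := fun i => inf_le_left.trans hW'
    have hxi : ∀ i, AModX.res (mod P) (hwi i) x = AModX.res (mod P) (inf_le_right : W' ⊓ D i ≤ D i) (s i) := fun i => by
      rw [← hx i]; exact (res_res _ _ _).symm
    refine ⟨fun r r' h => LogModGeo.eq_of_locally_fun r r' fun z hz => ?_, fun t => ?_⟩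
    · obtain ⟨i, hi⟩ := hloc z (hW' hz)
      refine ⟨W' ⊓ D i, inf_le_left, ⟨hz, hi⟩, (hsf i).coord_unique inf_le_right ?_⟩
      have h' := congrArg (AModX.res (mod P) (inf_le_left : W' ⊓ D i ≤ W')) h
      simp only [res_smul, res_res, hxi] at h'
      exact h'
    · choose g hg using fun i => (hsf i).exists_coord (inf_le_right : W' ⊓ D i ≤ D i) (AModX.res (mod P) inf_le_left t)
      have hc : ∀ i j, resR (inf_le_left : (W' ⊓ D i) ⊓ (W' ⊓ D j) ≤ W' ⊓ D i) (g i) =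
          resR (inf_le_right : (W' ⊓ D i) ⊓ (W' ⊓ D j) ≤ W' ⊓ D j) (g j) := fun i j => by
        refine (hsf i).coord_unique (inf_le_left.trans inf_le_right) ?_
        have h1 := congrArg (AModX.res (mod P) (inf_le_left : (W' ⊓ D i) ⊓ (W' ⊓ D j) ≤ W' ⊓ D i)) (hg i)
        have h2 := congrArg (AModX.res (mod P) (inf_le_right : (W' ⊓ D i) ⊓ (W' ⊓ D j) ≤ W' ⊓ D j)) (hg j)
        rw [res_smul, res_res, res_res] at h1 h2
        have hk : ∀ (k : T) (h : (W' ⊓ D i) ⊓ (W' ⊓ D j) ≤ W' ⊓ D k),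
            AModX.res (mod P) (h.trans inf_le_right) (s k) = AModX.res (mod P) (h.trans (hwi k)) x := fun k h =>
          (res_res (inf_le_right : W' ⊓ D k ≤ D k) h (s k)).symm.trans ((congrArg (AModX.res (mod P) h) (hxi k).symm).trans (res_res _ _ _))
        rw [hk i inf_le_left] at *
        rw [hk j inf_le_right] at h2
        exact h1.symm.trans h2
      obtain ⟨r, hr, -⟩ : ∃! r : Γ(P.base, W'), ∀ i, resR (inf_le_left : W' ⊓ D i ≤ W') r = g i :=
        AModX.existsUnique_glue (M := Coh.structureModule P.base) (V := W') (fun i => W' ⊓ D i)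
        (fun i => inf_le_left) (fun z hz => (hloc z (hW' hz)).imp fun i hi => ⟨hz, hi⟩) g hc
      refine ⟨r, AModX.eq_of_locally _ _ fun z hz => ?_⟩
      obtain ⟨i, hi⟩ := hloc z (hW' hz)
      refine ⟨W' ⊓ D i, inf_le_left, ⟨hz, hi⟩, ?_⟩
      show AModX.res _ inf_le_left (r • AModX.res _ hW' x) = _
      rw [res_smul, res_res, hxi, hg i, show resR inf_le_left r = g i from hr i]
  · intro W' ha hb d hd
    obtain ⟨d', hd', -⟩ := exists_rel b hb x
    suffices d = d' by rw [this]; exact hd'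
    refine AModX.eq_of_locally _ _ fun z hz => ?_
    obtain ⟨i, hi⟩ := Opens.mem_iSup.1 (hUD (ha hz))
    obtain ⟨j, hj⟩ := Opens.mem_iSup.1 (hUD (hb hz))
    let W'' := W' ⊓ (a.base ⁻¹ᵁ D i ⊓ b.base ⁻¹ᵁ D j)
    have hW''a : W'' ≤ a.base ⁻¹ᵁ D i := inf_le_right.trans inf_le_left
    have hW''b : W'' ≤ b.base ⁻¹ᵁ D j := inf_le_right.trans inf_le_right
    have hWW : W'' ≤ WW i j := le_inf (hW''a.trans (a.base.preimage_mono (hDW i))) (hW''b.trans (b.base.preimage_mono (hDW j)))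
    refine ⟨W'', inf_le_left, ⟨hz, hi, hj⟩, ?_⟩
    have h1 : Rel a hW''a (s i) (AModX.res _ (inf_le_left : W'' ≤ W') d) := by
      have := rel_res a (hDU i) (inf_le_left : W'' ≤ W') hW''a hd
      rwa [show AModX.res (mod P) (hDU i) x = s i from hx i] at this
    have h2 : Rel b hW''b (s j) (AModX.res _ (inf_le_left : W'' ≤ W') d') := by
      have := rel_res b (hDU j) (inf_le_left : W'' ≤ W') hW''b hd'
      rwa [show AModX.res (mod P) (hDU j) x = s j from hx j] at this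
    have h3 := rel_res a (hDW i) hWW hW''a (rel_smul a (m i : Γ(P.base, W i)) (hdA i j))
    have h4 := rel_res b (hDW j) hWW hW''b (rel_smul b (m j : Γ(P.base, W j)) (hdB i j))
    rw [res_smul] at h3 h4
    rw [(exists_rel a hW''a (s i)).unique h1 h3, (exists_rel b hW''b (s j)).unique h2 h4, hwm,
      hw, ← mul_smul, mul_comm (a.base.appLE _ _ _ _)]

include H in
/-- The ratio of two invariant frames descends. -/
theorem exists_ratio [Flat q] [Surjective q] [LocallyOfFinitePresentation q] {U : Y.Opens}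
    {x x' : Γ(mod P, q ⁻¹ᵁ U)} (hx : IsFrame x) (hinv : Inv a b x) (hinv' : Inv a b x') {c : Γ(P.base, q ⁻¹ᵁ U)}
    (hc : x' = c • x) : ∃ d : Γ(Y, U), q.app U d = c := by
  -- descend `c` as a morphism to the affine line
  let A₁ : CommRingCat.{u} := CommRingCat.of (Polynomial (ULift.{u} ℤ))
  suffices h : ∀ {Z : Scheme.{u}} (a₀ b₀ : Z ⟶ P.base) (ha : (⊤ : Z.Opens) ≤ a₀ ⁻¹ᵁ (q ⁻¹ᵁ U))
      (hb : (⊤ : Z.Opens) ≤ b₀ ⁻¹ᵁ (q ⁻¹ᵁ U)), a₀ ≫ q = b₀ ≫ q →
      a₀.appLE _ ⊤ ha c = b₀.appLE _ ⊤ hb c from exists_app_eq_fun q U c h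
  intro Z a₀ b₀ ha hb e
  let z := H.lift a₀ b₀ e
  have za : z ≫ a.base = a₀ := H.lift_fst _ _ _
  have zb : z ≫ b.base = b₀ := H.lift_snd _ _ _
  let W := a.base ⁻¹ᵁ (q ⁻¹ᵁ U)
  have hWb : W ≤ b.base ⁻¹ᵁ (q ⁻¹ᵁ U) := fun p hp => by
    show (b.base ≫ q) p ∈ U
    rw [← H.w]; exact hp
  obtain ⟨d, hd, -⟩ := exists_rel a (le_refl W) x
  have h1 := rel_smul a c hd
  rw [← hc] at h1
  have h2 := rel_smul b c (hinv W le_rfl hWb d hd)
  rw [← hc] at h2
  have e1 := (exists_rel b hWb x').unique (hinv' W le_rfl hWb _ h1) h2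
  have e2 : a.base.appLE (q ⁻¹ᵁ U) W le_rfl c = b.base.appLE (q ⁻¹ᵁ U) W hWb c :=
    (rel_isFrame hd hx).coord_unique le_rfl (by rw [AModX.res_self]; exact e1)
  have hzW : (⊤ : Z.Opens) ≤ z ⁻¹ᵁ W := fun p hp => by
    show (z ≫ a.base) p ∈ q ⁻¹ᵁ U
    rw [za]; exact ha hp
  have e3 := congrArg (z.appLE W ⊤ hzW) e2
  rw [appLE_appLE z a.base _ hzW (by rw [za]; exact ha), appLE_appLE z b.base _ hzW (by rw [zb]; exact hb)] at e3
  exact (appLE_of_eq za _ ha c).symm.trans (e3.trans (appLE_of_eq zb _ hb c))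

include H hdiag htrans in
/-- An invertible module with descent data descends. -/
theorem exists_eff_desc [Flat q] [LocallyOfFinitePresentation q] [Surjective q]
    (hP : PicF.IsInvertible (mod P)) :
    ∃ M : Y.Modules, PicF.IsInvertible M ∧
      ∃ π : P ⟶ (⟨Y, M⟩ : Pseudofunctor.CoGrothendieck modPF.{u}), π.base = q ∧ IsIso π.fiber := by
  choose U x hyU hx hinv using exists_inv_frames q a b H hdiag htrans hP
  let g := a.base ≫ q
  obtain ⟨φa, hφa⟩ := exists_pullMap q a g rfl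
  obtain ⟨φb, hφb⟩ := exists_pullMap q b g H.w.symm
  let M := kernel (φa - φb)
  let ι' := kernel.ι (φa - φb)
  have hι : ∀ V, Function.Injective (ι'.app V) := fun V => QCoh.app_injective ι' V
  have hker : ∀ (V : Y.Opens) (s : Γ(mod P, q ⁻¹ᵁ V)), Inv a b s → ∃ t : Γ(M, V), ι'.app V t = s := fun V s hs => by
    refine QCoh.exists_kernel_lift (φa - φb) V s ?_
    have hb : g ⁻¹ᵁ V ≤ b.base ⁻¹ᵁ (q ⁻¹ᵁ V) := fun p hp => by
      show (b.base ≫ q) p ∈ V
      rw [← H.w]; exact hp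
    have h := (exists_rel b hb s).unique (hs _ le_rfl hb _ (hφa V le_rfl s)) (hφb V hb s)
    show φa.app V s - φb.app V s = 0
    rw [h, sub_self]
  have hinvM : ∀ (V : Y.Opens) (t : Γ(M, V)), Inv a b (show Γ(mod P, q ⁻¹ᵁ V) from ι'.app V t) := fun V t W ha hb d hd => by
    have h0 := congrArg (fun φ => Scheme.Modules.Hom.app φ V t) (kernel.condition (φa - φb))
    have h1 : φa.app V (ι'.app V t) = φb.app V (ι'.app V t) := sub_eq_zero.1 h0
    have hb' : g ⁻¹ᵁ V ≤ b.base ⁻¹ᵁ (q ⁻¹ᵁ V) := fun p hp => by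
      show (b.base ≫ q) p ∈ V
      rw [← H.w]; exact hp
    have h2 := hφb V hb' (ι'.app V t)
    rw [← h1] at h2
    have e := rel_res a (le_refl (q ⁻¹ᵁ V)) ha ha (hφa V le_rfl (ι'.app V t))
    rw [AModX.res_self] at e
    obtain rfl := (exists_rel a ha _).unique hd e
    have e' := rel_res b (le_refl (q ⁻¹ᵁ V)) (show W ≤ g ⁻¹ᵁ V from ha) hb h2
    rwa [AModX.res_self] at e'
  choose xM hxM using fun y => hker (U y) (x y) (hinv y)
  have hres : ∀ {V W : Y.Opens} (h : W ≤ V) (t : Γ(M, V)),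
      (show Γ(mod P, q ⁻¹ᵁ W) from ι'.app W (AModX.res M h t)) =
        AModX.res (mod P) (q.preimage_mono h) (ι'.app V t) := fun h t => AModX.app_res ι' h t
  have hsmul : ∀ {V : Y.Opens} (r : Γ(Y, V)) (t : Γ(M, V)),
      (show Γ(mod P, q ⁻¹ᵁ V) from ι'.app V (r • t)) = q.app V r • (show Γ(mod P, q ⁻¹ᵁ V) from ι'.app V t) :=
    fun r t => Scheme.Modules.Hom.app_smul ι' r t
  have hxMf : ∀ y, IsFrame (xM y) := fun y W hW => by
    have key : ∀ r : Γ(Y, W), (show Γ(mod P, q ⁻¹ᵁ W) from ι'.app W (r • AModX.res M hW (xM y))) =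
        q.app W r • AModX.res (mod P) (q.preimage_mono hW) (x y) := fun r => by
      rw [hsmul, hres hW, hxM]
    refine ⟨fun r r' h => app_injective q W ?_, fun t => ?_⟩
    · refine (hx y).coord_unique (q.preimage_mono hW) ?_
      rw [← key, ← key]
      exact congrArg _ h
    · obtain ⟨c, hc⟩ := (hx y).exists_coord (q.preimage_mono hW) (ι'.app W t)
      have hinvres : Inv a b (AModX.res (mod P) (q.preimage_mono hW) (x y)) := by
        rw [← hxM, ← hres hW]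
        exact hinvM _ _
      obtain ⟨d, hd⟩ := exists_ratio q a b H ((hx y).res _) hinvres (hinvM W t) hc
      exact ⟨d, hι W ((key d).trans (by rw [hd]; exact hc.symm))⟩
  have hM : PicF.IsInvertible M := InvX.isInvertible_of_frames fun y => ⟨U y, hyU y, xM y, hxMf y⟩
  refine ⟨M, hM, ?_⟩
  have hcov : ∀ p : P.base, ∃ y, p ∈ q ⁻¹ᵁ U y := fun p => ⟨q p, hyU (q p)⟩
  let N := (Scheme.Modules.pullback q).obj M
  let n : ∀ y, Γ(N, q ⁻¹ᵁ U y) := fun y => QCoh.pullSec q M le_rfl (xM y)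
  have hn : ∀ y, IsFrame (n y) := fun y => isFrame_pullSec q le_rfl (hxMf y)
  have hcomp : ∀ (y y' : Y) (W : P.base.Opens) (ha : W ≤ q ⁻¹ᵁ U y) (hb : W ≤ q ⁻¹ᵁ U y') (c : Γ(P.base, W)),
      AModX.res (mod P) hb (x y') = c • AModX.res (mod P) ha (x y) →
        AModX.res N hb (n y') = c • AModX.res N ha (n y) := by
    intro y y' W ha hb c hc
    have hW : W ≤ q ⁻¹ᵁ (U y ⊓ U y') := fun p hp => ⟨ha hp, hb hp⟩
    obtain ⟨d, hd⟩ := (hxMf y).exists_coord (inf_le_left : U y ⊓ U y' ≤ U y)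
      (AModX.res M (inf_le_right : U y ⊓ U y' ≤ U y') (xM y'))
    have h1 : AModX.res (mod P) (q.preimage_mono inf_le_right) (x y') =
        q.app (U y ⊓ U y') d • AModX.res (mod P) (q.preimage_mono inf_le_left) (x y) := by
      rw [← hxM, ← hxM, ← hres (inf_le_right : U y ⊓ U y' ≤ U y'), ← hres (inf_le_left : U y ⊓ U y' ≤ U y), hd, hsmul]
    have h2 := congrArg (AModX.res (mod P) hW) h1
    rw [res_smul, res_res, res_res] at h2
    have hcd : c = q.appLE (U y ⊓ U y') W hW d := (hx y).coord_unique ha (by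
      rw [← hc, h2, Scheme.Hom.appLE]
      rfl)
    have hp : ∀ (z : Y) (hle : U y ⊓ U y' ≤ U z) (hz : W ≤ q ⁻¹ᵁ U z),
        AModX.res N hz (n z) = QCoh.pullSec q M hW (AModX.res M hle (xM z)) := fun z hle hz =>
      ExistEasy.pullSec_res q M hle hz le_rfl hW (xM z)
    rw [hp y' inf_le_right hb, hp y inf_le_left ha, hd, QCoh.pullSec_smul, hcd]
  let m := ofFrames (U := fun y => q ⁻¹ᵁ U y) hcov hx hcomp
  let π : P ⟶ (⟨Y, M⟩ : Pseudofunctor.CoGrothendieck modPF.{u}) := ⟨q, m⟩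
  exact ⟨π, rfl, isIso_ofFrames hcov hx hn hcomp⟩

end Groth.Agent.PicFRel.EffFppf
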