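import Groth.Agent.ThetaG.EffAlg
import Mathlib.RingTheory.TensorProduct.IncludeLeftSubRight
import Mathlib.RingTheory.Flat.FaithfullyFlat.Basic

/-!
Invariant elements for a cocycle of a family of flat algebras, one of them faithfully flat, generate
the unit ideal of that one; the family need not be finite.
-/

set_option autoImplicit false

universe u

open TensorProduct

namespace Groth.Agent.PicFRel.EffFppf

variable {R : Type u} [CommRing R] {ι : Type u} {S : ι → Type u} [∀ i, CommRing (S i)]
  [∀ i, Algebra R (S i)]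

/-- An element of `S ⊗ M` equalised by the two inclusions into `S ⊗ S ⊗ M` comes from `M`. -/
theorem exists_one_tmul {T M : Type u} [CommRing T] [Algebra R T] [Module.FaithfullyFlat R T]
    [CommRing M] [Algebra R M] [Module.Flat R M] (c : T ⊗[R] M)
    (h : Algebra.TensorProduct.map (Algebra.TensorProduct.includeLeft : T →ₐ[R] T ⊗[R] T) (AlgHom.id R M) c =
      Algebra.TensorProduct.map (Algebra.TensorProduct.includeRight : T →ₐ[R] T ⊗[R] T) (AlgHom.id R M) c) :
    ∃ m : M, c = (1 : T) ⊗ₜ[R] m := by
  have hex := Module.Flat.rTensor_exact M (Algebra.IsEffective.of_faithfullyFlat R T)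
  have hc : (Algebra.TensorProduct.includeLeftSubRight R T).rTensor M c = 0 := by
    have : ∀ z : T ⊗[R] M, (Algebra.TensorProduct.includeLeftSubRight R T).rTensor M z =
        Algebra.TensorProduct.map (Algebra.TensorProduct.includeLeft : T →ₐ[R] T ⊗[R] T) (AlgHom.id R M) z -
        Algebra.TensorProduct.map (Algebra.TensorProduct.includeRight : T →ₐ[R] T ⊗[R] T) (AlgHom.id R M) z := by
      intro z
      induction z using TensorProduct.induction_on with
      | zero => simp
      | tmul t m => simp [Algebra.TensorProduct.includeLeftSubRight_apply, TensorProduct.sub_tmul]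
      | add x y hx hy => simp only [map_add, hx, hy]; abel
    rw [this, h, sub_self]
  obtain ⟨w, hw⟩ := (hex c).1 hc
  refine ⟨TensorProduct.lid R M w, ?_⟩
  rw [← hw]
  clear hw
  induction w using TensorProduct.induction_on with
  | zero => simp
  | tmul r m =>
    rw [LinearMap.rTensor_tmul, Algebra.linearMap_apply, TensorProduct.lid_tmul, Algebra.algebraMap_eq_smul_one,
      TensorProduct.smul_tmul]
  | add x y hx hy => rw [map_add, map_add, TensorProduct.tmul_add, hx, hy]

/-- The elements invariant under a cocycle generate the unit ideal of a faithfully flat member. -/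
theorem span_inv_eq_top (u : ∀ i j, S i ⊗[R] S j) (hflat : ∀ i, Module.Flat R (S i))
    (hcoc : ∀ l i j, Algebra.TensorProduct.map (AlgHom.id R (S l)) Algebra.TensorProduct.includeRight (u l j) =
      (1 : S l) ⊗ₜ[R] u i j *
        Algebra.TensorProduct.map (AlgHom.id R (S l)) Algebra.TensorProduct.includeLeft (u l i))
    (huu : ∀ i, Algebra.TensorProduct.lmul' R (u i i) = 1) (l : ι) [Module.FaithfullyFlat R (S l)] :
    Ideal.span {x : S l | ∃ m : ∀ i, S i, (∀ i j, (1 : S i) ⊗ₜ[R] m j = u i j * (m i ⊗ₜ[R] (1 : S j))) ∧ m l = x} = ⊤ := by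
  classical
  refine top_unique ((ThetaG.span_inv_eq_top (S := fun _ : PUnit.{u + 1} => S l) (fun _ _ => u l l)
    (fun _ => hflat l) (fun _ _ _ => hcoc l l l) (fun _ => huu l) PUnit.unit).ge.trans (Ideal.span_mono ?_))
  rintro x ⟨m₀, hm₀, rfl⟩
  have hll := hm₀ PUnit.unit PUnit.unit
  generalize m₀ PUnit.unit = a at hll
  -- the values on the other members
  have hex : ∀ i, ∃ b : S i, u l i * (a ⊗ₜ[R] (1 : S i)) = (1 : S l) ⊗ₜ[R] b := by
    intro i
    haveI := hflat i
    refine exists_one_tmul _ ?_
    -- compare through `S l ⊗ (S l ⊗ S i)`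
    apply (Algebra.TensorProduct.assoc R R R (S l) (S l) (S i)).injective
    have hA : ∀ z : S l ⊗[R] S i, Algebra.TensorProduct.assoc R R R (S l) (S l) (S i)
        (Algebra.TensorProduct.map (Algebra.TensorProduct.includeLeft : S l →ₐ[R] S l ⊗[R] S l) (AlgHom.id R (S i)) z) =
        Algebra.TensorProduct.map (AlgHom.id R (S l)) Algebra.TensorProduct.includeRight z := fun z => by
      induction z using TensorProduct.induction_on with
      | zero => simp
      | tmul t m => simp
      | add x y hx hy => simp only [map_add, hx, hy]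
    have hB : ∀ z : S l ⊗[R] S i, Algebra.TensorProduct.assoc R R R (S l) (S l) (S i)
        (Algebra.TensorProduct.map (Algebra.TensorProduct.includeRight : S l →ₐ[R] S l ⊗[R] S l) (AlgHom.id R (S i)) z) =
        (1 : S l) ⊗ₜ[R] z := fun z => by
      induction z using TensorProduct.induction_on with
      | zero => simp
      | tmul t m => simp
      | add x y hx hy => simp only [map_add, hx, hy, TensorProduct.tmul_add]
    rw [hA, hB, map_mul, hcoc l l i]
    have h1 : Algebra.TensorProduct.map (AlgHom.id R (S l))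
        (Algebra.TensorProduct.includeLeft : S l →ₐ[R] S l ⊗[R] S i) ((1 : S l) ⊗ₜ[R] a) =
        Algebra.TensorProduct.map (AlgHom.id R (S l)) Algebra.TensorProduct.includeLeft (u l l) *
          Algebra.TensorProduct.map (AlgHom.id R (S l)) Algebra.TensorProduct.includeLeft
            (a ⊗ₜ[R] (1 : S l)) := by rw [hll, map_mul]
    simp only [Algebra.TensorProduct.map_tmul, AlgHom.coe_id, id_eq, map_one,
      Algebra.TensorProduct.includeLeft_apply, Algebra.TensorProduct.includeRight_apply] at h1 ⊢
    rw [mul_assoc]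
    erw [← h1]
    rw [Algebra.TensorProduct.tmul_mul_tmul, one_mul]
  choose b hb using hex
  refine ⟨b, fun i j => ?_, ?_⟩
  · haveI := hflat i; haveI := hflat j
    -- insert a factor `S l`
    apply Module.FaithfullyFlat.tensorProduct_mk_injective (A := R) (B := S l) (S i ⊗[R] S j)
    show (1 : S l) ⊗ₜ[R] ((1 : S i) ⊗ₜ[R] b j) = (1 : S l) ⊗ₜ[R] (u i j * (b i ⊗ₜ[R] (1 : S j)))
    have hj : Algebra.TensorProduct.map (AlgHom.id R (S l))
        (Algebra.TensorProduct.includeRight : S j →ₐ[R] S i ⊗[R] S j) ((1 : S l) ⊗ₜ[R] b j) =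
        Algebra.TensorProduct.map (AlgHom.id R (S l)) Algebra.TensorProduct.includeRight
          (u l j * (a ⊗ₜ[R] (1 : S j))) := by rw [hb]
    have hi : Algebra.TensorProduct.map (AlgHom.id R (S l))
        (Algebra.TensorProduct.includeLeft : S i →ₐ[R] S i ⊗[R] S j) ((1 : S l) ⊗ₜ[R] b i) =
        Algebra.TensorProduct.map (AlgHom.id R (S l)) Algebra.TensorProduct.includeLeft
          (u l i * (a ⊗ₜ[R] (1 : S i))) := by rw [hb]
    rw [map_mul, hcoc l i j] at hj
    rw [map_mul] at hi
    simp only [Algebra.TensorProduct.map_tmul, AlgHom.coe_id, id_eq, map_one,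
      Algebra.TensorProduct.includeLeft_apply, Algebra.TensorProduct.includeRight_apply,
      ← Algebra.TensorProduct.one_def] at hj hi
    erw [mul_assoc, ← hi] at hj
    refine hj.trans ?_
    erw [Algebra.TensorProduct.tmul_mul_tmul, one_mul]
  · haveI := hflat l
    apply Module.FaithfullyFlat.tensorProduct_mk_injective (A := R) (B := S l) (S l)
    show (1 : S l) ⊗ₜ[R] b l = (1 : S l) ⊗ₜ[R] a
    rw [← hb, hll]

end Groth.Agent.PicFRel.EffFppf
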