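import Groth.Agent.PicFRel.FunDescent
import Groth.Agent.InvX.Frame
import Groth.Agent.QCoh.Sections
import Groth.Prelude.Def_Coh
import Mathlib.RingTheory.TensorProduct.IncludeLeftSubRight
import Mathlib.RingTheory.Flat.FaithfullyFlat.Basic
import Mathlib.AlgebraicGeometry.Pullbacks

/-!
# Functions glued from units on a faithfully flat cover of the base

For `f : X → Spec A` whose functions are those of the base, universally, units on the pieces of a
covering of the pulled back family which differ by functions from below become, after multiplication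
by a function on the covering base, functions from below.
-/

set_option autoImplicit false
set_option backward.isDefEq.respectTransparency false
set_option backward.isDefEq.respectTransparency.types false
set_option linter.style.haveILetI false

universe u

open CategoryTheory CategoryTheory.Limits AlgebraicGeometry TopologicalSpace
open scoped TensorProduct

namespace Groth.Agent.PicFRel.FppfUnit

open Groth.Agent.AModX

/-! ### Algebra -/

section Algebra

variable {A B : Type u} [CommRing A] [CommRing B] [Algebra A B]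

local notation "B₂" => B ⊗[A] B
local notation "B₃" => B₂ ⊗[A] B

/-- The first two factors. -/
noncomputable def i12 : B₂ →ₐ[A] B₃ := Algebra.TensorProduct.includeLeft

/-- The outer factors. -/
noncomputable def i13 : B₂ →ₐ[A] B₃ :=
  Algebra.TensorProduct.map Algebra.TensorProduct.includeLeft (AlgHom.id A B)

/-- The last two factors. -/
noncomputable def i23 : B₂ →ₐ[A] B₃ :=
  Algebra.TensorProduct.map Algebra.TensorProduct.includeRight (AlgHom.id A B)

/-- A multiplicative cocycle has twisted invariants outside every prime. -/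
theorem exists_twisted [Module.Flat A B] (v : B₂) (hv : i13 v = i12 v * i23 v)
    (h1 : Algebra.TensorProduct.lmul' A v = (1 : B)) (P : Ideal B) [P.IsPrime] :
    ∃ n : B, n ∉ P ∧ (Algebra.TensorProduct.includeLeft : B →ₐ[A] B₂) n =
      v * Algebra.TensorProduct.includeRight n := by
  let δ : B →ₗ[A] B₂ := (Algebra.TensorProduct.includeLeft : B →ₐ[A] B₂).toLinearMap -
    (LinearMap.mulLeft A v).comp (Algebra.TensorProduct.includeRight : B →ₐ[A] B₂).toLinearMap
  have hδ : ∀ z : B₂, δ.rTensor B z = i13 z - i12 v * i23 z := by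
    intro z
    induction z using TensorProduct.induction_on with
    | zero => simp
    | add x y hx hy => simp only [map_add, hx, hy]; ring
    | tmul b c =>
      simp [δ, i12, i13, i23, Algebra.TensorProduct.tmul_mul_tmul]
  have hex : Function.Exact (LinearMap.ker δ).subtype δ := LinearMap.exact_subtype_ker_map δ
  obtain ⟨w, hw⟩ := ((Module.Flat.rTensor_exact B hex) v).1 (by rw [hδ, hv, sub_self])
  by_contra hcon
  push Not at hcon
  have hN : ∀ n : LinearMap.ker δ, (n : B) ∈ P := fun n => by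
    by_contra hn
    exact hcon n hn (sub_eq_zero.1 n.2)
  have key : ∀ w : (LinearMap.ker δ) ⊗[A] B,
      Algebra.TensorProduct.lmul' A ((LinearMap.ker δ).subtype.rTensor B w) ∈ P := by
    intro w
    induction w using TensorProduct.induction_on with
    | zero => simp
    | add x y hx hy => simp only [map_add]; exact add_mem hx hy
    | tmul n c => simp [Ideal.mul_mem_right c P (hN n)]
  refine Ideal.IsPrime.ne_top ‹P.IsPrime› ((Ideal.eq_top_iff_one P).2 ?_)
  rw [← h1, ← hw]
  exact key w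

end Algebra

/-! ### Base change along algebras -/

variable {A : Type u} [CommRing A] {X : Scheme.{u}} (f : X ⟶ Spec (CommRingCat.of A))

section Family

variable (C : Type u) [CommRing C] [Algebra A C] {D : Type u} [CommRing D] [Algebra A D]
  {E : Type u} [CommRing E] [Algebra A E]

variable (A) in
/-- The structure map of an algebra. -/
noncomputable abbrev sp : Spec (CommRingCat.of C) ⟶ Spec (CommRingCat.of A) :=
  Spec.map (CommRingCat.ofHom (algebraMap A C))

/-- The base change of the family. -/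
noncomputable abbrev XA : Scheme.{u} := pullback f (sp A C)

/-- The projection to the family. -/
noncomputable abbrev pr : XA f C ⟶ X := pullback.fst f (sp A C)

variable {C}

/-- The map of base changes given by a map of algebras. -/
noncomputable def mapA (φ : C →ₐ[A] D) : XA f D ⟶ XA f C :=
  pullback.lift (pr f D) (pullback.snd f (sp A D) ≫ Spec.map (CommRingCat.ofHom φ.toRingHom))
    (by rw [pullback.condition, Category.assoc, ← Spec.map_comp, ← CommRingCat.ofHom_comp]
        simp only [sp, AlgHom.toRingHom_eq_coe, AlgHom.comp_algebraMap])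

@[reassoc (attr := simp)]
theorem mapA_pr (φ : C →ₐ[A] D) : mapA f φ ≫ pr f C = pr f D := pullback.lift_fst _ _ _

@[reassoc]
theorem mapA_snd (φ : C →ₐ[A] D) :
    mapA f φ ≫ pullback.snd f (sp A C) =
      pullback.snd f (sp A D) ≫ Spec.map (CommRingCat.ofHom φ.toRingHom) := pullback.lift_snd _ _ _

theorem mapA_comp (φ : C →ₐ[A] D) (ψ : D →ₐ[A] E) : mapA f (ψ.comp φ) = mapA f ψ ≫ mapA f φ := by
  apply pullback.hom_ext
  · simp
  · rw [mapA_snd, Category.assoc, mapA_snd, ← Category.assoc, mapA_snd, Category.assoc, ← Spec.map_comp]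
    rfl

theorem isPullback_mapA (φ : C →ₐ[A] D) :
    IsPullback (mapA f φ) (pullback.snd f (sp A D)) (pullback.snd f (sp A C))
      (Spec.map (CommRingCat.ofHom φ.toRingHom)) := by
  refine IsPullback.of_right ?_ (mapA_snd f φ) (IsPullback.of_hasPullback f (sp A C))
  rw [mapA_pr, ← Spec.map_comp, ← CommRingCat.ofHom_comp]
  simp only [AlgHom.toRingHom_eq_coe, AlgHom.comp_algebraMap]
  exact IsPullback.of_hasPullback f (sp A D)

theorem isPullback_pair (C : Type u) [CommRing C] [Algebra A C] (B : Type u) [CommRing B] [Algebra A B] :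
    IsPullback (mapA f (Algebra.TensorProduct.includeLeft : C →ₐ[A] C ⊗[A] B))
      (mapA f (Algebra.TensorProduct.includeRight : B →ₐ[A] C ⊗[A] B)) (pr f C) (pr f B) := by
  refine IsPullback.of_bot ?_ (by simp) (IsPullback.of_hasPullback f (sp A B))
  rw [mapA_snd, pullback.condition]
  refine (isPullback_mapA f _).paste_vert ?_
  exact IsPullback.of_iso_pullback ⟨by
    rw [← Spec.map_comp, ← Spec.map_comp, ← CommRingCat.ofHom_comp, ← CommRingCat.ofHom_comp]
    simp only [AlgHom.toRingHom_eq_coe, AlgHom.comp_algebraMap]⟩ (pullbackSpecIso A C B).symm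
    (pullbackSpecIso_inv_fst A C B) (pullbackSpecIso_inv_snd A C B)

/-- The base ring acts by functions. -/
noncomputable def ρ (C : Type u) [CommRing C] [Algebra A C] (O : (XA f C).Opens) : C →+* Γ(XA f C, O) :=
  (resR (le_top : O ≤ ⊤)).comp (Coh.toGlobal (pullback.snd f (sp A C)))

theorem resR_ρ {O O' : (XA f C).Opens} (h : O' ≤ O) (c : C) : resR h (ρ f C O c) = ρ f C O' c :=
  resR_resR _ _ _

theorem appLE_resR {Y Z : Scheme.{u}} (m : Y ⟶ Z) {U U' : Z.Opens} {O O' : Y.Opens} (hU : U' ≤ U) (hO : O' ≤ O)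
    (e : O ≤ m ⁻¹ᵁ U) (e' : O' ≤ m ⁻¹ᵁ U') (a : Γ(Z, U)) :
    m.appLE U' O' e' (resR hU a) = resR hO (m.appLE U O e a) := by
  show (Z.presheaf.map (homOfLE hU).op ≫ m.appLE U' O' e') a =
    (m.appLE U O e ≫ Y.presheaf.map (homOfLE hO).op) a
  rw [Scheme.Hom.map_appLE, Scheme.Hom.appLE_map]

theorem mapA_ρ (φ : C →ₐ[A] D) (O : (XA f C).Opens) (O' : (XA f D).Opens) (e : O' ≤ mapA f φ ⁻¹ᵁ O) (c : C) :
    (mapA f φ).appLE O O' e (ρ f C O c) = ρ f D O' (φ c) := by
  have h1 : Coh.toGlobal (pullback.snd f (sp A D)) (φ c) =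
      (mapA f φ).appLE ⊤ ⊤ le_rfl (Coh.toGlobal (pullback.snd f (sp A C)) c) := by
    show ((CommRingCat.ofHom φ.toRingHom ≫ (Scheme.ΓSpecIso _).inv) ≫ (pullback.snd f (sp A D)).appTop) c =
      (((Scheme.ΓSpecIso _).inv ≫ (pullback.snd f (sp A C)).appTop) ≫ (mapA f φ).appLE ⊤ ⊤ le_rfl) c
    refine ConcreteCategory.congr_hom (X := CommRingCat.of C) ?_ c
    rw [Scheme.ΓSpecIso_inv_naturality, Category.assoc, Category.assoc, ← Scheme.Hom.comp_appTop, ← mapA_snd,
      Scheme.Hom.comp_appTop]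
    congr 2
    exact ((mapA f φ).appLE_eq_app (U := ⊤)).symm
  show (mapA f φ).appLE O O' e (resR le_top _) = resR le_top _
  exact (appLE_resR (mapA f φ) le_top (le_top : O' ≤ ⊤) le_rfl e _).trans (congrArg _ h1.symm)

theorem pr_appLE_ρ (a : A) (U : X.Opens) (O : (XA f C).Opens) (e : O ≤ pr f C ⁻¹ᵁ U) :
    (pr f C).appLE U O e (resR (le_top : U ≤ ⊤) (Coh.toGlobal f a)) = ρ f C O (algebraMap A C a) := by
  have h1 : Coh.toGlobal (pullback.snd f (sp A C)) (algebraMap A C a) =
      (pr f C).appLE ⊤ ⊤ le_rfl (Coh.toGlobal f a) := by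
    show ((CommRingCat.ofHom (algebraMap A C) ≫ (Scheme.ΓSpecIso _).inv) ≫ (pullback.snd f (sp A C)).appTop) a =
      (((Scheme.ΓSpecIso _).inv ≫ f.appTop) ≫ (pr f C).appLE ⊤ ⊤ le_rfl) a
    refine ConcreteCategory.congr_hom (X := CommRingCat.of A) ?_ a
    rw [Scheme.ΓSpecIso_inv_naturality, Category.assoc, Category.assoc, ← Scheme.Hom.comp_appTop,
      ← pullback.condition, Scheme.Hom.comp_appTop]
    congr 2
    exact ((pr f C).appLE_eq_app (U := ⊤)).symm
  exact (appLE_resR (pr f C) (le_top : U ≤ ⊤) (le_top : O ≤ ⊤) le_rfl e _).trans (congrArg _ h1.symm)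

end Family

/-! ### Ratios -/

variable {B : Type u} [CommRing B] [Algebra A B] {ι : Type u} (W : ι → X.Opens)
  (g : ∀ i, Γ(XA f B, pr f B ⁻¹ᵁ W i))

/-- The units, pulled back along a map of algebras. -/
noncomputable def G {C : Type u} [CommRing C] [Algebra A C] (φ : B →ₐ[A] C) (i : ι) :
    Γ(XA f C, pr f C ⁻¹ᵁ W i) :=
  (mapA f φ).appLE (pr f B ⁻¹ᵁ W i) (pr f C ⁻¹ᵁ W i)
    (by rw [← Scheme.Hom.comp_preimage, mapA_pr]) (g i)

theorem G_comp {C D : Type u} [CommRing C] [Algebra A C] [CommRing D] [Algebra A D] (φ : B →ₐ[A] C)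
    (χ : C →ₐ[A] D) (i : ι) :
    (mapA f χ).appLE (pr f C ⁻¹ᵁ W i) (pr f D ⁻¹ᵁ W i) (by rw [← Scheme.Hom.comp_preimage, mapA_pr])
      (G f W g φ i) = G f W g (χ.comp φ) i := by
  show ((mapA f φ).appLE _ _ _ ≫ (mapA f χ).appLE _ _ _) (g i) = (mapA f (χ.comp φ)).appLE _ _ _ (g i)
  refine ConcreteCategory.congr_hom ?_ (g i)
  rw [Scheme.Hom.appLE_comp_appLE]
  simp only [mapA_comp]

variable (hW : ∀ x, ∃ i, x ∈ W i) (hg : ∀ i, IsUnit (g i))
  (ht : ∀ i j, ∃ t : Γ(X, W i ⊓ W j),
    resR ((pr f B).preimage_mono inf_le_left) (g i) =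
      (pr f B).app (W i ⊓ W j) t * resR ((pr f B).preimage_mono inf_le_right) (g j))
  (hH : ∀ (C : Type u) [CommRing C] [Algebra A C],
    Function.Bijective (Coh.toGlobal (pullback.snd f (sp A C))))

section Ratio

variable {C D : Type u} [CommRing C] [Algebra A C] [CommRing D] [Algebra A D]

/-- The defining property of the ratio. -/
def IsRatio (φ ψ : B →ₐ[A] C) (c : C) : Prop :=
  ∀ i, G f W g ψ i = ρ f C _ c * G f W g φ i

include hg in
theorem isUnit_G (φ : B →ₐ[A] C) (i : ι) : IsUnit (G f W g φ i) := (hg i).map _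

include hW hg hH in
theorem IsRatio.unique {φ ψ : B →ₐ[A] C} {c c' : C} (h : IsRatio f W g φ ψ c) (h' : IsRatio f W g φ ψ c') :
    c = c' := by
  refine (hH C).1 (AModX.eq_of_locally (M := Coh.structureModule (XA f C)) _ _ fun p _ => ?_)
  obtain ⟨i, hi⟩ := hW (pr f C p)
  exact ⟨pr f C ⁻¹ᵁ W i, le_top, hi, (isUnit_G f W g hg φ i).mul_right_cancel ((h i).symm.trans (h' i))⟩

theorem IsRatio.trans {φ ψ χ : B →ₐ[A] C} {c c' : C} (h : IsRatio f W g φ ψ c) (h' : IsRatio f W g ψ χ c') :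
    IsRatio f W g φ χ (c * c') := fun i => by
  rw [h' i, h i, ← mul_assoc, ← map_mul, mul_comm c c']

theorem IsRatio.map {φ ψ : B →ₐ[A] C} {c : C} (h : IsRatio f W g φ ψ c) (χ : C →ₐ[A] D) :
    IsRatio f W g (χ.comp φ) (χ.comp ψ) (χ c) := fun i => by
  rw [← G_comp, ← G_comp, h i, map_mul, mapA_ρ]

theorem isRatio_one (φ : B →ₐ[A] C) : IsRatio f W g φ φ 1 := fun i => by rw [map_one, one_mul]

include hW hg ht hH in
theorem exists_ratio (φ ψ : B →ₐ[A] C) : ∃ c : C, IsRatio f W g φ ψ c := by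
  choose w hw using fun i => (isUnit_G f W g hg φ i).exists_left_inv
  have hcompat : ∀ i j, resR (inf_le_left : pr f C ⁻¹ᵁ W i ⊓ pr f C ⁻¹ᵁ W j ≤ _) (G f W g ψ i * w i) =
      resR (inf_le_right : pr f C ⁻¹ᵁ W i ⊓ pr f C ⁻¹ᵁ W j ≤ _) (G f W g ψ j * w j) := by
    intro i j
    obtain ⟨t, htij⟩ := ht i j
    have key : ∀ χ : B →ₐ[A] C, resR (inf_le_left : pr f C ⁻¹ᵁ W i ⊓ pr f C ⁻¹ᵁ W j ≤ _) (G f W g χ i) =
        (show Γ(XA f C, pr f C ⁻¹ᵁ W i ⊓ pr f C ⁻¹ᵁ W j) from (pr f C).app (W i ⊓ W j) t) *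
          resR (inf_le_right : pr f C ⁻¹ᵁ W i ⊓ pr f C ⁻¹ᵁ W j ≤ _) (G f W g χ j) := by
      intro χ
      have e : pr f C ⁻¹ᵁ W i ⊓ pr f C ⁻¹ᵁ W j ≤ mapA f χ ⁻¹ᵁ pr f B ⁻¹ᵁ (W i ⊓ W j) := by
        rw [← Scheme.Hom.comp_preimage, mapA_pr]; exact le_rfl
      have := congrArg ((mapA f χ).appLE (pr f B ⁻¹ᵁ (W i ⊓ W j)) (pr f C ⁻¹ᵁ W i ⊓ pr f C ⁻¹ᵁ W j) e) htij
      rw [map_mul, appLE_resR _ _ inf_le_left (by rw [← Scheme.Hom.comp_preimage, mapA_pr]),
        appLE_resR _ _ inf_le_right (by rw [← Scheme.Hom.comp_preimage, mapA_pr])] at this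
      refine this.trans (congrArg (· * _) ?_)
      show ((pr f B).app _ ≫ (mapA f χ).appLE _ _ _) t = (pr f C).app _ t
      refine ConcreteCategory.congr_hom ?_ t
      rw [← Scheme.Hom.appLE_eq_app, Scheme.Hom.appLE_comp_appLE, ← Scheme.Hom.appLE_eq_app (pr f C)]
      simp only [mapA_pr]
    have hi := congrArg (resR (inf_le_left : pr f C ⁻¹ᵁ W i ⊓ pr f C ⁻¹ᵁ W j ≤ _)) (hw i)
    have hj := congrArg (resR (inf_le_right : pr f C ⁻¹ᵁ W i ⊓ pr f C ⁻¹ᵁ W j ≤ _)) (hw j)
    rw [map_mul, map_one, key φ] at hi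
    rw [map_mul, map_one] at hj
    rw [map_mul, map_mul, key ψ]
    linear_combination (resR inf_le_right (G f W g ψ j) * resR inf_le_right (w j)) * hi -
      ((show Γ(XA f C, pr f C ⁻¹ᵁ W i ⊓ pr f C ⁻¹ᵁ W j) from (pr f C).app (W i ⊓ W j) t) * resR inf_le_left (w i) * resR inf_le_right (G f W g ψ j)) * hj
  obtain ⟨r, hr, -⟩ := AModX.existsUnique_glue (M := Coh.structureModule (XA f C)) (V := ⊤)
    (fun i => pr f C ⁻¹ᵁ W i) (fun _ => le_top) (fun p _ => hW (pr f C p))
    (fun i => (G f W g ψ i * w i : Γ(XA f C, pr f C ⁻¹ᵁ W i))) hcompat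
  obtain ⟨c, rfl⟩ := (hH C).2 r
  refine ⟨c, fun i => ?_⟩
  rw [show ρ f C _ c = G f W g ψ i * w i from hr i, mul_assoc, hw, mul_one]

end Ratio

include hW hg ht hH in
/-- Near every point of the base, multiples of the units come from below. -/
theorem exists_twist [Module.FaithfullyFlat A B] (p : PrimeSpectrum A) :
    ∃ (a : A) (n m : B), a ∉ p.asIdeal ∧ algebraMap A B a = n * m ∧
      ∀ i, ∃ h : Γ(X, W i), (pr f B).app (W i) h = ρ f B _ n * g i := by
  let l : B →ₐ[A] B ⊗[A] B := Algebra.TensorProduct.includeLeft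
  let r : B →ₐ[A] B ⊗[A] B := Algebra.TensorProduct.includeRight
  obtain ⟨v, hv⟩ := exists_ratio f W g hW hg ht hH l r
  obtain ⟨v', hv'⟩ := exists_ratio f W g hW hg ht hH r l
  have hinv : v * v' = 1 := IsRatio.unique f W g hW hg hH (hv.trans f W g hv') (isRatio_one f W g l)
  have h13l : (i13.comp l : B →ₐ[A] _) = i12.comp l := by
    ext b; simp [i13, i12, l]
  have h23r : (i23.comp r : B →ₐ[A] _) = i13.comp r := by
    ext b; simp [i13, i23, r]
  have h23l : (i23.comp l : B →ₐ[A] _) = i12.comp r := by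
    ext b; simp [i12, i23, l, r]
  have hml : ((Algebra.TensorProduct.lmul' A).comp l : B →ₐ[A] B) = AlgHom.id A B := by
    ext b; simp [l]
  have hmr : ((Algebra.TensorProduct.lmul' A).comp r : B →ₐ[A] B) = AlgHom.id A B := by
    ext b; simp [r]
  have hc : i13 v = i12 v * i23 v := by
    have h1 := hv.map f W g i12
    have h2 := hv.map f W g i23
    have h3 := hv.map f W g i13
    rw [h23l, h23r] at h2
    rw [h13l] at h3
    exact IsRatio.unique f W g hW hg hH h3 (h1.trans f W g h2)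
  have hc' : i13 v' = i12 v' * i23 v' := by
    have h1 := hv'.map f W g i12
    have h2 := hv'.map f W g i23
    have h3 := hv'.map f W g i13
    rw [h23l, h23r] at h2
    rw [h13l] at h3
    rw [mul_comm]
    exact IsRatio.unique f W g hW hg hH h3 (h2.trans f W g h1)
  have hd : ∀ {w : B ⊗[A] B} {φ ψ : B →ₐ[A] B ⊗[A] B}, IsRatio f W g φ ψ w →
      ((Algebra.TensorProduct.lmul' A).comp φ : B →ₐ[A] B) = AlgHom.id A B →
      ((Algebra.TensorProduct.lmul' A).comp ψ : B →ₐ[A] B) = AlgHom.id A B →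
      Algebra.TensorProduct.lmul' A w = (1 : B) := fun {w} _ _ h e₁ e₂ => by
    have := h.map f W g (Algebra.TensorProduct.lmul' A)
    rw [e₁, e₂] at this
    exact IsRatio.unique f W g hW hg hH this (isRatio_one f W g _)
  obtain ⟨P, hP⟩ := PrimeSpectrum.comap_surjective_of_faithfullyFlat (B := B) p
  obtain ⟨n, hnP, hn⟩ := exists_twisted v hc (hd hv hml hmr) P.asIdeal
  obtain ⟨m, hmP, hm⟩ := exists_twisted v' hc' (hd hv' hmr hml) P.asIdeal
  obtain ⟨a, ha⟩ : ∃ a, algebraMap A B a = n * m := by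
    refine ((Algebra.IsEffective.of_faithfullyFlat A B) (n * m)).1 ?_
    rw [Algebra.TensorProduct.includeLeftSubRight_apply, sub_eq_zero]
    show l (n * m) = r (n * m)
    rw [map_mul, map_mul, show l n = v * r n from hn, show l m = v' * r m from hm,
      mul_mul_mul_comm, hinv, one_mul]
  refine ⟨a, n, m, fun hap => ?_, ha, fun i => ?_⟩
  · have : algebraMap A B a ∈ P.asIdeal := by
      rw [← hP] at hap
      exact hap
    rw [ha] at this
    exact (P.isPrime.mem_or_mem this).elim hnP hmP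
  · haveI : Flat (sp A B) := Flat.SpecMap_iff.2 (RingHom.flat_algebraMap_iff.2 inferInstance)
    haveI : Surjective (sp A B) :=
      ⟨fun y => PrimeSpectrum.comap_surjective_of_faithfullyFlat (B := B) y⟩
    haveI : Flat (pr f B) := inferInstanceAs (Flat (pullback.fst f (sp A B)))
    haveI : Surjective (pr f B) := inferInstanceAs (Surjective (pullback.fst f (sp A B)))
    haveI : QuasiCompact (pr f B) := inferInstanceAs (QuasiCompact (pullback.fst f (sp A B)))
    refine FunDescent.exists_descend (pr f B) (isPullback_pair f B B) (W i) _ ?_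
    rw [map_mul, map_mul, mapA_ρ, mapA_ρ]
    have hrel : G f W g r i = ρ f _ _ v * G f W g l i := hv i
    have hle : mapA f l ⁻¹ᵁ pr f B ⁻¹ᵁ W i ≤ pr f (B ⊗[A] B) ⁻¹ᵁ W i := by
      rw [← Scheme.Hom.comp_preimage, mapA_pr]
    have e₁ : (mapA f l).appLE (pr f B ⁻¹ᵁ W i) (mapA f l ⁻¹ᵁ pr f B ⁻¹ᵁ W i) le_rfl (g i) =
        resR hle (G f W g l i) := by
      rw [G, ← appLE_resR (mapA f l) le_rfl hle, resR_self]
    have e₂ : (mapA f r).appLE (pr f B ⁻¹ᵁ W i) (mapA f l ⁻¹ᵁ pr f B ⁻¹ᵁ W i)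
        (by rw [← Scheme.Hom.comp_preimage, ← Scheme.Hom.comp_preimage, mapA_pr, mapA_pr]) (g i) =
        resR hle (G f W g r i) := by
      rw [G, ← appLE_resR (mapA f r) le_rfl hle, resR_self]
    show ρ f _ _ (l n) * (mapA f l).appLE _ _ _ (g i) = ρ f _ _ (r n) * (mapA f r).appLE _ _ _ (g i)
    rw [e₁, e₂, hrel, map_mul, resR_ρ, show l n = v * r n from hn, map_mul]
    ring

end Groth.Agent.PicFRel.FppfUnit
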