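import Mathlib.AlgebraicGeometry.Sites.Fpqc
import Mathlib.AlgebraicGeometry.Morphisms.Flat
import Mathlib.Algebra.Polynomial.AlgebraMap

/-!
# Descent of functions along faithfully flat quasi-compact morphisms
-/

set_option autoImplicit false
set_option backward.isDefEq.respectTransparency false
set_option backward.isDefEq.respectTransparency.types false
set_option linter.style.haveILetI false

universe u

open CategoryTheory CategoryTheory.Limits AlgebraicGeometry TopologicalSpace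

namespace Groth.Agent.PicFRel.FunDescent

/-- The affine line over the integers, as a ring. -/
noncomputable abbrev R₁ : CommRingCat.{u} := CommRingCat.of (ULift.{u} (Polynomial ℤ))

/-- The map to the affine line defined by a function. -/
noncomputable def funHom {T : Scheme.{u}} (a : Γ(T, ⊤)) : T ⟶ Spec R₁.{u} :=
  T.toSpecΓ ≫ Spec.map (CommRingCat.ofHom ((Polynomial.aeval a).toRingHom.comp ULift.ringEquiv.toRingHom))

/-- The coordinate on the affine line. -/
noncomputable abbrev coord : Γ(Spec R₁.{u}, ⊤) := (Scheme.ΓSpecIso R₁.{u}).inv ⟨Polynomial.X⟩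

theorem funHom_coord {T : Scheme.{u}} (a : Γ(T, ⊤)) : (funHom a).appTop coord = a := by
  simp [funHom, coord]
  exact Polynomial.aeval_X a

theorem hom_ext_coord {T : Scheme.{u}} {m m' : T ⟶ Spec R₁.{u}} (h : m.appTop coord = m'.appTop coord) :
    m = m' := by
  apply ext_of_isAffine
  rw [← cancel_epi (Scheme.ΓSpecIso R₁.{u}).inv]
  refine CommRingCat.hom_ext ?_
  refine (RingHom.cancel_right (f := (ULift.ringEquiv (R := Polynomial ℤ)).symm.toRingHom)
    (ULift.ringEquiv (R := Polynomial ℤ)).symm.surjective).1 ?_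
  exact Polynomial.ringHom_ext' (RingHom.ext_int _ _) h

/-- A global function agreeing with its twin on the double cover comes from below. -/
theorem exists_descend_top {Y' Y : Scheme.{u}} (q : Y' ⟶ Y) [Flat q] [Surjective q] [QuasiCompact q]
    (g : Γ(Y', ⊤))
    (h : (pullback.fst q q).appTop g = (pullback.snd q q).appTop g) :
    ∃ y : Γ(Y, ⊤), q.appTop y = g := by
  have hc : ∀ {W : Scheme.{u}} (a b : W ⟶ Y'), a ≫ q = b ≫ q → a ≫ funHom g = b ≫ funHom g := by
    intro W a b e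
    apply hom_ext_coord
    rw [Scheme.Hom.comp_appTop, Scheme.Hom.comp_appTop]
    show a.appTop ((funHom g).appTop coord) = b.appTop ((funHom g).appTop coord)
    rw [funHom_coord]
    have ha : pullback.lift a b e ≫ pullback.fst q q = a := pullback.lift_fst _ _ _
    have hb : pullback.lift a b e ≫ pullback.snd q q = b := pullback.lift_snd _ _ _
    conv_lhs => rw [← ha]
    conv_rhs => rw [← hb]
    rw [Scheme.Hom.comp_appTop, Scheme.Hom.comp_appTop]
    exact congrArg _ h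
  refine ⟨(EffectiveEpi.desc q (funHom g) hc).appTop coord, ?_⟩
  conv_rhs => rw [← funHom_coord g, ← EffectiveEpi.fac q (funHom g) hc]
  rw [Scheme.Hom.comp_appTop]
  rfl

/-- Sections over an open are the global functions of the open subscheme. -/
theorem bijective_appLE_ι {Z : Scheme.{u}} (U : Z.Opens) :
    Function.Bijective (U.ι.appLE U ⊤ (fun z _ => z.2)) := by
  rw [show U.ι.appLE U ⊤ (fun z _ => z.2) = U.topIso.inv by
    simp [Scheme.Opens.ι_appLE, Scheme.Opens.topIso]; rfl]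
  exact ConcreteCategory.bijective_of_isIso _

/-- Pulling back functions in two steps. -/
theorem appLE_top_appTop {A B C : Scheme.{u}} (a : A ⟶ B) (v : B ⟶ C) (U : C.Opens) (e : ⊤ ≤ v ⁻¹ᵁ U) :
    v.appLE U ⊤ e ≫ a.appTop = (a ≫ v).appLE U ⊤ (fun t _ => e (show a t ∈ (⊤ : B.Opens) from trivial)) := by
  rw [← Scheme.Hom.appLE_comp_appLE a v U ⊤ ⊤ e le_rfl]
  congr 1
  exact (a.appLE_eq_app (U := ⊤)).symm

/-- The restriction of a morphism, on functions. -/
theorem appTop_restrict {Y' Y : Scheme.{u}} (q : Y' ⟶ Y) (W : Y.Opens) (y : Γ(Y, W)) :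
    (q ∣_ W).appTop (W.ι.appLE W ⊤ (fun z _ => z.2) y) =
      (q ⁻¹ᵁ W).ι.appLE (q ⁻¹ᵁ W) ⊤ (fun z _ => z.2) (q.app W y) := by
  show ((W.ι.appLE W ⊤ _) ≫ (q ∣_ W).appTop) y =
    (q.app W ≫ (q ⁻¹ᵁ W).ι.appLE (q ⁻¹ᵁ W) ⊤ _) y
  refine ConcreteCategory.congr_hom ?_ y
  rw [appLE_top_appTop, ← Scheme.Hom.appLE_eq_app q, Scheme.Hom.appLE_comp_appLE]
  simp only [morphismRestrict_ι]

/-- Functions descend along faithfully flat quasi-compact morphisms. -/
theorem exists_descend {Y' Y P : Scheme.{u}} (q : Y' ⟶ Y) [Flat q] [Surjective q] [QuasiCompact q]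
    {p₁ p₂ : P ⟶ Y'} (hP : IsPullback p₁ p₂ q q) (W : Y.Opens) (g : Γ(Y', q ⁻¹ᵁ W))
    (h : p₁.appLE (q ⁻¹ᵁ W) (p₁ ⁻¹ᵁ q ⁻¹ᵁ W) le_rfl g =
      p₂.appLE (q ⁻¹ᵁ W) (p₁ ⁻¹ᵁ q ⁻¹ᵁ W)
        (by rw [← Scheme.Hom.comp_preimage, ← Scheme.Hom.comp_preimage, hP.w]) g) :
    ∃ y : Γ(Y, W), q.app W y = g := by
  haveI : Flat (q ∣_ W) := MorphismProperty.of_isPullback (isPullback_morphismRestrict q W).flip inferInstance
  haveI : Surjective (q ∣_ W) :=
    MorphismProperty.of_isPullback (isPullback_morphismRestrict q W).flip inferInstance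
  haveI : QuasiCompact (q ∣_ W) :=
    MorphismProperty.of_isPullback (isPullback_morphismRestrict q W).flip inferInstance
  let j : pullback (q ∣_ W) (q ∣_ W) ⟶ P :=
    hP.lift (pullback.fst _ _ ≫ (q ⁻¹ᵁ W).ι) (pullback.snd _ _ ≫ (q ⁻¹ᵁ W).ι)
      (by rw [Category.assoc, Category.assoc, ← morphismRestrict_ι, pullback.condition_assoc])
  have hj₁ : j ≫ p₁ = pullback.fst _ _ ≫ (q ⁻¹ᵁ W).ι := hP.lift_fst _ _ _
  have hj₂ : j ≫ p₂ = pullback.snd _ _ ≫ (q ⁻¹ᵁ W).ι := hP.lift_snd _ _ _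
  have hjle : (⊤ : (pullback (q ∣_ W) (q ∣_ W)).Opens) ≤ j ⁻¹ᵁ p₁ ⁻¹ᵁ q ⁻¹ᵁ W := fun t _ => by
    show (j ≫ p₁) t ∈ q ⁻¹ᵁ W
    rw [hj₁]
    exact (pullback.fst (q ∣_ W) (q ∣_ W) t).2
  obtain ⟨y', hy'⟩ := exists_descend_top (q ∣_ W)
    ((q ⁻¹ᵁ W).ι.appLE (q ⁻¹ᵁ W) ⊤ (fun z _ => z.2) g) (by
      show ((q ⁻¹ᵁ W).ι.appLE (q ⁻¹ᵁ W) ⊤ _ ≫ (pullback.fst (q ∣_ W) (q ∣_ W)).appTop) g =
        ((q ⁻¹ᵁ W).ι.appLE (q ⁻¹ᵁ W) ⊤ _ ≫ (pullback.snd (q ∣_ W) (q ∣_ W)).appTop) g
      rw [appLE_top_appTop, appLE_top_appTop]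
      simp only [← hj₁, ← hj₂]
      rw [← Scheme.Hom.appLE_comp_appLE j p₁ (q ⁻¹ᵁ W) (p₁ ⁻¹ᵁ q ⁻¹ᵁ W) _ le_rfl hjle,
        ← Scheme.Hom.appLE_comp_appLE j p₂ (q ⁻¹ᵁ W) (p₁ ⁻¹ᵁ q ⁻¹ᵁ W) _
          (by rw [← Scheme.Hom.comp_preimage, ← Scheme.Hom.comp_preimage, hP.w]) hjle]
      exact congrArg (j.appLE _ _ hjle) h)
  obtain ⟨y, rfl⟩ := (bijective_appLE_ι W).surjective y'
  rw [appTop_restrict] at hy'
  exact ⟨y, (bijective_appLE_ι _).injective hy'⟩

/-- Pullback of functions along surjective flat quasi-compact morphisms is injective. -/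
theorem app_injective {Y' Y : Scheme.{u}} (q : Y' ⟶ Y) [Flat q] [Surjective q] [QuasiCompact q]
    (W : Y.Opens) : Function.Injective (q.app W) := by
  intro a b hab
  haveI : Flat (q ∣_ W) := MorphismProperty.of_isPullback (isPullback_morphismRestrict q W).flip inferInstance
  haveI : Surjective (q ∣_ W) :=
    MorphismProperty.of_isPullback (isPullback_morphismRestrict q W).flip inferInstance
  haveI : QuasiCompact (q ∣_ W) :=
    MorphismProperty.of_isPullback (isPullback_morphismRestrict q W).flip inferInstance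
  apply (bijective_appLE_ι W).injective
  have := congrArg ((q ⁻¹ᵁ W).ι.appLE (q ⁻¹ᵁ W) ⊤ (fun z _ => z.2)) hab
  rw [← appTop_restrict, ← appTop_restrict] at this
  generalize W.ι.appLE W ⊤ _ a = a', W.ι.appLE W ⊤ _ b = b' at this ⊢
  rw [← funHom_coord a', ← funHom_coord b']
  have h' : (q ∣_ W) ≫ funHom a' = (q ∣_ W) ≫ funHom b' := by
    apply hom_ext_coord
    rw [Scheme.Hom.comp_appTop, Scheme.Hom.comp_appTop]
    show (q ∣_ W).appTop ((funHom a').appTop coord) = (q ∣_ W).appTop ((funHom b').appTop coord)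
    rw [funHom_coord, funHom_coord]
    exact this
  rw [cancel_epi] at h'
  rw [h']

end Groth.Agent.PicFRel.FunDescent
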