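import Groth.Agent.PicFRel.HilbCover

/-!
# Representability of the Hilbert functor of points
-/

set_option autoImplicit false
set_option linter.style.haveILetI false
set_option backward.isDefEq.respectTransparency false
set_option backward.isDefEq.respectTransparency.types false

universe u

open CategoryTheory CategoryTheory.Limits AlgebraicGeometry TensorProduct Opposite

namespace Groth.Agent.PicFRel.HilbRep

open HilbFam HilbRing HilbChart

variable {X S : Scheme.{u}} {f : X ⟶ S} {d : ℕ} [IsSeparated f]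

lemma famOf_congr {V : S.affineOpens} {U : X.affineOpens} {e : U.1 ≤ f ⁻¹ᵁ V.1}
    {b : Fin d → Γ(X, U.1)} {C : Type u} [CommRing C] (P P' : Pt (eta V U e) b C)
    (h : P.classify = P'.classify) : famOf f e P = famOf f e P' := by
  have hψ : P.ψ = P'.ψ := by rw [← P.classify_comp, ← P'.classify_comp, h]
  have hc : ∀ x, P.coord x = P'.coord x := fun x => funext fun i => by
    rw [← Pt.classify_X, ← Pt.classify_X, h]
  letI := P.j.toAlgebra
  letI := P'.j.toAlgebra
  let L := LinearEquiv.ofBijective (combL (C := C) b P.β) P.bij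
  let L' := LinearEquiv.ofBijective (combL (C := C) b P'.β) P'.bij
  let θ := L.symm.trans L'
  have hβ : ∀ z, θ (P.β z) = P'.β z := fun z => by
    show L' (L.symm (P.β z)) = _
    rw [show L.symm (P.β z) = P.coord z from L.symm_apply_eq.mpr (P.comb_coord z).symm, hc]
    exact P'.comb_coord z
  have h1 : θ 1 = 1 := by
    have := hβ 1
    rwa [map_one P.β, map_one P'.β] at this
  have hmul : ∀ x y, θ (x * y) = θ x * θ y := fun x y => by
    obtain ⟨u, rfl⟩ := L.surjective x
    obtain ⟨v, rfl⟩ := L.surjective y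
    simp only [show ∀ u, θ (L u) = L' u from fun u => congrArg L' (L.symm_apply_apply u)]
    simp only [L, L', LinearEquiv.ofBijective_apply, combL_apply, Finset.sum_mul_sum,
      smul_mul_smul_comm, ← map_mul, map_sum, map_smul, hβ]
  let α := AlgEquiv.ofLinearEquiv θ h1 hmul
  let l := lOf V U e P.ψ P.j P.β P.w
  have hfac : Spec.map (CommRingCat.ofHom (α.toAlgHom.toRingHom)) ≫ l =
      lOf V U e P.ψ P'.j P'.β (by rw [hψ]; exact P'.w) := by
    apply pullback.hom_ext
    · rw [Category.assoc, lOf_fst, lOf_fst, gOf, gOf, ← Spec.map_comp_assoc]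
      congr 2
      ext z
      exact hβ z
    · rw [Category.assoc, lOf_snd, lOf_snd, ← Spec.map_comp]
      congr 1
      ext c
      exact α.commutes c
  obtain ⟨ψ', D', j', β', w', bij'⟩ := P'
  dsimp only at hψ
  subst hψ
  refine (HasData.eq_famOf ⟨rfl, 𝟙 _, Category.id_comp _, Category.id_comp _, ?_⟩).trans rfl
  rw [Scheme.IdealSheafData.comap_id]
  show (lOf V U e P.ψ j' β' w').ker = l.ker
  have : IsIso (CommRingCat.ofHom α.toAlgHom.toRingHom) :=
    (ConcreteCategory.isIso_iff_bijective _).mpr α.bijective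
  rw [← hfac, Scheme.Hom.ker_comp_of_isIso]

variable (c : Chart f d)

/-- The classifying ring of a chart. -/
abbrev ring : Type u := HilbRing.A (eta c.V c.U c.e) c.b

/-- The scheme of a chart. -/
noncomputable abbrev sp : Scheme.{u} := Spec (CommRingCat.of (ring c))

/-- The universal point. -/
noncomputable def univ : Pt (eta c.V c.U c.e) c.b (ring c) := (exists_univ _ _).choose

omit [IsSeparated f] in
lemma univ_classify : (univ c).classify = RingHom.id (ring c) := (exists_univ _ _).choose_spec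

/-- The universal family. -/
noncomputable def η : Fam f d (sp c) := famOf f c.e (univ c)

/-- A family belongs to a chart. -/
def InChart {T : Scheme.{u}} (ξ : Fam f d T) : Prop := ∃ g : T ⟶ sp c, mapFam f d g (η c) = ξ

variable {c}

lemma InChart.map {T T' : Scheme.{u}} {ξ : Fam f d T} (h : InChart c ξ) (g : T' ⟶ T) :
    InChart c (mapFam f d g ξ) := by
  obtain ⟨g', rfl⟩ := h
  exact ⟨g ≫ g', mapFam_comp g' g (η c)⟩

lemma inChart_famOf {C : Type u} [CommRing C] (P : Pt (eta c.V c.U c.e) c.b C) :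
    InChart c (famOf f c.e P) := by
  refine ⟨Spec.map (CommRingCat.ofHom P.classify), ?_⟩
  rw [η, famOf_map]
  exact famOf_congr _ _ (by rw [Pt.classify_map, univ_classify, RingHom.comp_id])

lemma InChart.exists_pt {C : Type u} [CommRing C] {ξ : Fam f d (Spec (CommRingCat.of C))}
    (h : InChart c ξ) : ∃ P : Pt (eta c.V c.U c.e) c.b C, famOf f c.e P = ξ := by
  obtain ⟨g, rfl⟩ := h
  obtain ⟨φ, rfl⟩ := Spec.map_surjective g
  exact ⟨(univ c).map φ.hom, (famOf_map (univ c) φ.hom).symm⟩

lemma hom_ext_affine {C : Type u} [CommRing C] {g g' : Spec (CommRingCat.of C) ⟶ sp c}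
    (h : mapFam f d g (η c) = mapFam f d g' (η c)) : g = g' := by
  obtain ⟨φ, rfl⟩ := Spec.map_surjective g
  obtain ⟨φ', rfl⟩ := Spec.map_surjective g'
  have := classify_eq _ _ ((famOf_map (univ c) φ.hom).symm.trans
    (h.trans (famOf_map (univ c) φ'.hom)))
  rw [Pt.classify_map, Pt.classify_map, univ_classify, RingHom.comp_id, RingHom.comp_id] at this
  rw [CommRingCat.hom_ext this]

lemma hom_ext {T : Scheme.{u}} {g g' : T ⟶ sp c}
    (h : mapFam f d g (η c) = mapFam f d g' (η c)) : g = g' := by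
  refine T.affineCover.hom_ext _ _ fun i => ?_
  rw [← cancel_epi (T.affineCover.X i).isoSpec.inv]
  apply hom_ext_affine (C := Γ(T.affineCover.X i, ⊤))
  simp only [mapFam_comp, h]

variable (c) in
/-- The open where a family is in the chart. -/
def locus {T : Scheme.{u}} (ξ : Fam f d T) : T.Opens :=
  ⨆ O : {O : T.Opens // InChart c (mapFam f d O.ι ξ)}, O.1

lemma inChart_locus {T : Scheme.{u}} (ξ : Fam f d T) :
    InChart c (mapFam f d (locus c ξ).ι ξ) := by
  let J := {O : T.Opens // InChart c (mapFam f d O.ι ξ)}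
  let 𝒰 : (locus c ξ).toScheme.OpenCover := Scheme.Opens.iSupOpenCover fun O : J => O.1
  have hf : ∀ O : J, 𝒰.f O ≫ (locus c ξ).ι = O.1.ι := fun O => T.homOfLE_ι (le_iSup (fun O : J => O.1) O)
  have hg : ∀ O : J, mapFam f d O.2.choose (η c) = mapFam f d O.1.ι ξ := fun O => O.2.choose_spec
  refine ⟨𝒰.glueMorphisms (fun O => O.2.choose) fun O O' => hom_ext ?_, ?_⟩
  · rw [mapFam_comp, mapFam_comp]
    erw [hg O, hg O']
    rw [← hf O, ← hf O', ← mapFam_comp, ← mapFam_comp, pullback.condition_assoc]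
  · refine Presieve.IsSheaf.isSeparated (isSheaf_functor (f := f) (d := d))
      _ 𝒰.mem_grothendieckTopology |>.ext ?_
    rintro T' g ⟨_, k, _, ⟨O⟩, rfl⟩
    show mapFam f d (k ≫ 𝒰.f O) _ = mapFam f d (k ≫ 𝒰.f O) _
    rw [mapFam_comp _ k, mapFam_comp _ k, ← mapFam_comp _ (𝒰.f O), ← mapFam_comp _ (𝒰.f O)]
    erw [Scheme.Cover.ι_glueMorphisms]
    erw [hg O, hf O]

omit [IsSeparated f] in
lemma InU.map {U : X.Opens} {T T' : Scheme.{u}} (g : T' ⟶ T) (ξ : Fam f d T)
    (h : ∀ z ∈ ξ.I.support, pullback.snd f ξ.a z ∈ Set.range g → pullback.fst f ξ.a z ∈ U) :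
    InU f U (mapFam f d g ξ) := by
  intro z hz
  have hz' : pm g ξ.a z ∈ ξ.I.support := by
    have : z ∈ (ξ.I.comap (pm g ξ.a)).support := hz
    rwa [Scheme.IdealSheafData.support_comap] at this
  have := h _ hz' ⟨pullback.snd f (g ≫ ξ.a) z, by
    rw [← Scheme.Hom.comp_apply, ← Scheme.Hom.comp_apply, pm, pullback.lift_snd]⟩
  rwa [← Scheme.Hom.comp_apply, pm, pullback.lift_fst] at this

/-- If a field valued point of `ξ` is in the chart, its image is in the locus. -/
theorem mem_locus {T : Scheme.{u}} (ξ : Fam f d T) {K : Type u} [Field K]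
    (x : Spec (CommRingCat.of K) ⟶ T) (h : InChart c (mapFam f d x ξ))
    (t0 : Spec (CommRingCat.of K)) : x t0 ∈ locus c ξ := by
  obtain ⟨P, hP⟩ := h.exists_pt
  set t := x t0 with ht
  have huniq : ∀ z : Spec (CommRingCat.of K), z = t0 := fun z =>
    Subsingleton.elim (α := PrimeSpectrum K) _ _
  have haV : ξ.a t ∈ c.V.1 := by
    have : (mapFam f d x ξ).a t0 ∈ c.V.1 := hP ▸ range_aOf c.V P.ψ ⟨t0, rfl⟩
    exact this
  have hUK : InU f c.U.1 (mapFam f d x ξ) := hP ▸ inU_famOf P
  have hbad : ∀ z ∈ ξ.I.support, pullback.snd f ξ.a z = t → pullback.fst f ξ.a z ∈ c.U.1 := by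
    intro z hz hzt
    obtain ⟨z', hz1, -⟩ := Scheme.exists_preimage_of_isPullback (isPullback_pm (f := f) x ξ.a) z t0 hzt
    have hz' : z' ∈ (ξ.I.comap (pm x ξ.a)).support := by
      rw [Scheme.IdealSheafData.support_comap]
      exact (congrArg (· ∈ ξ.I.support) hz1).mpr hz
    have := hUK z' hz'
    change pullback.fst f (x ≫ ξ.a) z' ∈ c.U.1 at this
    rwa [← hz1, ← Scheme.Hom.comp_apply, pm, pullback.lift_fst]
  let g := ξ.I.subschemeι ≫ pullback.snd f ξ.a
  have := ξ.h.1.1
  let B : Set T := g '' ((ξ.I.subschemeι ≫ pullback.fst f ξ.a) ⁻¹' (c.U.1 : Set X)ᶜ)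
  have hB : IsClosed B := g.isClosedMap _
    (c.U.1.isOpen.isClosed_compl.preimage (ξ.I.subschemeι ≫ pullback.fst f ξ.a).continuous)
  obtain ⟨O, hO, htO, hOsub⟩ := exists_isAffineOpen_mem_and_subset (U := ξ.a ⁻¹ᵁ c.V.1 ⊓ ⟨Bᶜ, hB.isOpen_compl⟩)
    (x := t) ⟨haV, by
      rintro ⟨z, hz, hzt⟩
      exact hz (hbad _ (ξ.I.range_subschemeι.le ⟨z, rfl⟩) hzt)⟩
  let C := Γ(T, O)
  let ξ' : Fam f d (Spec (CommRingCat.of C)) := mapFam f d hO.fromSpec ξ
  have hrO : ∀ z, hO.fromSpec z ∈ O := fun z => hO.range_fromSpec.le ⟨z, rfl⟩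
  obtain ⟨ψ, hψ⟩ := exists_aOf (C := C) c.V ξ'.a (by
    rintro _ ⟨z, rfl⟩
    exact (hOsub (hrO z)).1)
  have hU' : InU f c.U.1 ξ' := InU.map _ _ fun z hz ⟨y, hy⟩ => by
    by_contra hzU
    obtain ⟨z0, rfl⟩ := ξ.I.range_subschemeι.ge hz
    exact (hOsub (hrO y)).2 ⟨z0, hzU, hy.symm⟩
  have hrx : Set.range x ⊆ Set.range hO.fromSpec := by
    rintro _ ⟨z, rfl⟩
    rw [hO.range_fromSpec, huniq z]
    exact htO
  obtain ⟨φ, hφ⟩ := Spec.map_surjective (IsOpenImmersion.lift hO.fromSpec x hrx)
  have hfac : Spec.map φ ≫ hO.fromSpec = x := by rw [hφ, IsOpenImmersion.lift_fac]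
  obtain ⟨h0, hh0, Q, hQ⟩ := exists_nhd_affine (C := C) ξ' hψ hU' φ.hom P (by
    rw [hP, ← mapFam_comp]
    exact congrArg (fun k => mapFam f d k ξ) hfac.symm)
  let k : Spec (CommRingCat.of (Localization.Away h0)) ⟶ T :=
    Spec.map (CommRingCat.ofHom (algebraMap C (Localization.Away h0))) ≫ hO.fromSpec
  have hk : InChart c (mapFam f d k ξ) := by
    rw [mapFam_comp]
    exact hQ ▸ inChart_famOf Q
  have : IsOpenImmersion (Spec.map (CommRingCat.ofHom (algebraMap C (Localization.Away h0)))) :=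
    .of_isLocalization h0
  have hle : k.opensRange ≤ locus c ξ := by
    refine le_iSup (fun O : {O : T.Opens // InChart c (mapFam f d O.ι ξ)} => O.1) ⟨k.opensRange, ?_⟩
    have := hk.map k.isoOpensRange.inv
    rwa [← mapFam_comp, Scheme.Hom.isoOpensRange_inv_comp] at this
  refine hle ?_
  have : Spec.map φ t0 ∈ PrimeSpectrum.basicOpen h0 := fun hmem => hh0 <| by
    have : φ.hom h0 ∈ (t0 : PrimeSpectrum K).asIdeal := hmem
    rwa [show (t0 : PrimeSpectrum K).asIdeal = ⊥ from Ideal.eq_bot_of_prime (PrimeSpectrum.asIdeal (R := K) t0), Ideal.mem_bot] at this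
  rw [← SetLike.mem_coe, ← PrimeSpectrum.localization_away_comap_range (Localization.Away h0) h0] at this
  obtain ⟨q, hq⟩ := this
  refine ⟨q, ?_⟩
  show hO.fromSpec (Spec.map (CommRingCat.ofHom (algebraMap C (Localization.Away h0))) q) = _
  rw [ht, ← hfac, Scheme.Hom.comp_apply]
  exact congrArg hO.fromSpec hq

lemma range_subset_locus {T T' : Scheme.{u}} (ξ : Fam f d T) (g : T' ⟶ T)
    (h : InChart c (mapFam f d g ξ)) : Set.range g ⊆ locus c ξ := by
  rintro _ ⟨t, rfl⟩
  have := h.map (T'.fromSpecResidueField t)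
  rw [← mapFam_comp] at this
  have := mem_locus (K := T'.residueField t) ξ _ this (IsLocalRing.closedPoint _)
  rw [Scheme.Hom.comp_apply] at this
  erw [Scheme.fromSpecResidueField_apply] at this
  exact this

variable (c) in
/-- The map classifying the universal family of a chart. -/
noncomputable def chartMap : yoneda.obj (sp c) ⟶ functor f d :=
  yonedaEquiv.symm (η c : (functor f d).obj (op (sp c)))

lemma chartMap_app {T : Scheme.{u}} (g : T ⟶ sp c) :
    (chartMap c).app (op T) g = mapFam f d g (η c) := rfl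

lemma isOpenImmersion_chartMap : IsOpenImmersion.presheaf (chartMap c) := by
  refine MorphismProperty.relative.of_exists fun T g => ?_
  let ξ : Fam f d T := yonedaEquiv g
  have hg : ∀ {T' : Scheme.{u}} (k : T' ⟶ T), g.app (op T') k = mapFam f d k ξ := fun k => by
    show g.app _ k = (functor f d).map k.op (yonedaEquiv g)
    rw [yonedaEquiv_naturality, yonedaEquiv_apply]
    simp
  obtain ⟨gW, hgW⟩ := inChart_locus (c := c) ξ
  refine ⟨(locus c ξ).toScheme, yoneda.map gW, (locus c ξ).ι,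
    IsPullback.of_forall_isPullback_app fun T' => ?_, inferInstance⟩
  rw [Types.isPullback_iff]
  refine ⟨?_, fun k k' hk => ?_, fun a (k : T'.unop ⟶ T) hak => ?_⟩
  · ext k
    show (chartMap c).app (op T'.unop) (k ≫ gW) = g.app (op T'.unop) (k ≫ (locus c ξ).ι)
    rw [chartMap_app, hg, mapFam_comp, hgW, ← mapFam_comp]
  · exact (cancel_mono (locus c ξ).ι).mp hk.2
  · have hak' : mapFam f d a (η c) = mapFam f d k ξ := hak.trans (hg k)
    have hr : Set.range k ⊆ Set.range (locus c ξ).ι := by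
      rw [Scheme.Opens.range_ι]
      exact range_subset_locus ξ k ⟨a, hak'⟩
    refine ⟨IsOpenImmersion.lift (locus c ξ).ι k hr, hom_ext ?_, IsOpenImmersion.lift_fac _ _ _⟩
    show mapFam f d (IsOpenImmersion.lift (locus c ξ).ι k hr ≫ gW) (η c) = mapFam f d a (η c)
    rw [hak', mapFam_comp, hgW, ← mapFam_comp, IsOpenImmersion.lift_fac]

/-- Representability under the hypothesis on fibre points. -/
theorem representable (f : X ⟶ S) [IsSeparated f] (d : ℕ)
    (h : ∀ (s : S) (x : Fin d → X), (∀ i, f.base (x i) = s) →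
      ∃ U : X.Opens, IsAffineOpen U ∧ ∀ i, x i ∈ U) : HilbD.Representable f d := by
  refine representable_of_isRepresentable ?_
  have : Presheaf.IsLocallySurjective Scheme.zariskiTopology
      (Sigma.desc fun c : Chart f d => chartMap c) := by
    refine ⟨fun {T} ξ => ?_⟩
    change Fam f d T at ξ
    have hx : ∀ t : T, ∃ c : Chart f d, t ∈ locus c ξ := fun t => by
      obtain ⟨c, P, hP⟩ := exists_chart h
        (K := T.residueField t) (mapFam f d (T.fromSpecResidueField t) ξ)
      have := mem_locus (K := T.residueField t) ξ _ (hP ▸ inChart_famOf P)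
        (IsLocalRing.closedPoint _)
      erw [Scheme.fromSpecResidueField_apply] at this
      exact ⟨c, this⟩
    choose c hc using hx
    let 𝒰 : T.OpenCover := T.openCoverOfIsOpenCover (fun t : T => locus (c t) ξ)
      (TopologicalSpace.IsOpenCover.mk (eq_top_iff.mpr fun t _ =>
        TopologicalSpace.Opens.mem_iSup.mpr ⟨t, hc t⟩))
    refine GrothendieckTopology.superset_covering _ ?_ 𝒰.mem_grothendieckTopology
    rintro T' g ⟨_, k, _, ⟨t⟩, rfl⟩
    obtain ⟨gW, hgW⟩ := inChart_locus (c := c t) ξ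
    refine ⟨(Sigma.ι (fun c : Chart f d => yoneda.obj (sp c)) (c t)).app (op T') (k ≫ gW), ?_⟩
    rw [← NatTrans.comp_app_apply, Sigma.ι_desc, chartMap_app, mapFam_comp, hgW, ← mapFam_comp]
    rfl
  exact @Scheme.LocalRepresentability.isRepresentable (sheaf f d) _ _
    (fun c : Chart f d => chartMap c) (fun c => isOpenImmersion_chartMap) this

end Groth.Agent.PicFRel.HilbRep
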