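import Groth.Agent.PicFRel.HilbSym
import Groth.Agent.PicFRel.HilbRep
import Groth.Agent.DescLib.IdealDescent
import Groth.Agent.SrcDescent.SmoothFppf
import Groth.Agent.QCoh.ProperOver

/-!
# Consequences of the identification of symmetric powers with Hilbert schemes of points
-/

set_option autoImplicit false
set_option linter.overlappingInstances false
set_option linter.style.haveILetI false
set_option backward.isDefEq.respectTransparency false
set_option backward.isDefEq.respectTransparency.types false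

universe u

open CategoryTheory CategoryTheory.Limits AlgebraicGeometry

namespace Groth.Agent.PicFRel.HilbSym

open HilbDLib HilbAdd

variable {X S : Scheme.{u}} (f : X ⟶ S)

lemma rep_of_isAF [IsSeparated f] (hAF : SymProd.IsAF f) (e : ℕ) : HilbD.Representable f e := by
  classical
  refine HilbRep.representable f e fun s x hx => ?_
  obtain ⟨U, hU, hxU⟩ := hAF s (Finset.univ.image x) (fun y hy => by
    obtain ⟨i, -, rfl⟩ := Finset.mem_image.1 hy
    exact hx i)
  exact ⟨U, hU, fun i => hxU _ (Finset.mem_image_of_mem x (Finset.mem_univ i))⟩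

lemma isUniversal_of_iso {n : ℕ} {H H' : Over S} (Z : HilbD.Obj f n H)
    (hZ : HilbD.IsUniversal f n H Z) (φ : H' ≅ H) :
    HilbD.IsUniversal f n H' ⟨HilbD.pull f φ.hom Z.1, isFinLocFreeOfDeg_pull f φ.hom Z.1 Z.2⟩ := by
  intro T Z'
  obtain ⟨g, hg, hu⟩ := hZ T Z'
  refine ⟨g ≫ φ.inv, ?_, fun g' hg' => ?_⟩
  · show HilbD.pull f (g ≫ φ.inv) (HilbD.pull f φ.hom Z.1) = Z'.1
    rw [pull_pull, Category.assoc, φ.inv_hom_id, Category.comp_id, hg]
  · rw [Iso.eq_comp_inv]
    refine hu _ ?_
    show HilbD.pull f (g' ≫ φ.hom) Z.1 = Z'.1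
    rw [← pull_pull]; exact hg'

variable [IsSeparated f] [SmoothOfRelativeDimension 1 f]

/-- Smoothness of the Hilbert scheme of points of a smooth curve. -/
theorem smooth_of_universal (hrep : ∀ e : ℕ, HilbD.Representable f e) {n : ℕ} (H : Over S)
    (Z : HilbD.Obj f n H) (hZ : HilbD.IsUniversal f n H Z) : Smooth H.hom := by
  obtain ⟨π, hπ⟩ := exists_classify f H Z hZ
  obtain ⟨⟨h1, h2, h3⟩, h4⟩ := deg_classify f hrep n H Z hZ π hπ
  have : Surjective π.left := (Scheme.Hom.one_le_finrank_iff_surjective π.left).mp fun s => by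
    rw [h4]; exact n.factorial_pos
  have : Smooth (π.left ≫ H.hom) := by
    rw [Over.w π]
    haveI : MorphismProperty.ContainsIdentities @Smooth.{u} := ⟨fun X => inferInstanceAs (Smooth (𝟙 X))⟩
    exact property_base f @Smooth (SmoothOfRelativeDimension.smooth 1 f) n
  exact SrcDescent.smooth_of_fppf_comp π.left H.hom

/-- Properness of the Hilbert scheme of points of a proper smooth curve. -/
theorem proper_of_universal [IsProper f] (hrep : ∀ e : ℕ, HilbD.Representable f e) {n : ℕ} (H : Over S)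
    (Z : HilbD.Obj f n H) (hZ : HilbD.IsUniversal f n H Z) : IsProper H.hom := by
  obtain ⟨π, hπ⟩ := exists_classify f H Z hZ
  obtain ⟨⟨h1, h2, h3⟩, h4⟩ := deg_classify f hrep n H Z hZ π hπ
  have : Surjective π.left := (Scheme.Hom.one_le_finrank_iff_surjective π.left).mp fun s => by
    rw [h4]; exact n.factorial_pos
  have := smooth_of_universal f hrep H Z hZ
  have : IsProper (π.left ≫ H.hom) := by
    rw [Over.w π]
    exact property_base f @IsProper ‹IsProper f› n
  exact Groth.Agent.QCoh.isProper_of_comp_surjective π.left H.hom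

/-- The degree of the quotient map to a symmetric product. -/
theorem deg_quot (hrep : ∀ e : ℕ, HilbD.Representable f e) {n : ℕ} {Y : Scheme.{u}}
    (q : SymProd.fibPow f n ⟶ Y) (g : Y ⟶ S) (hq : SymProd.IsSymProd f n q g) :
    Mor2.IsFinLocFreeOfDeg n.factorial q := by
  obtain ⟨H, Z, hZ⟩ := hrep n
  obtain ⟨π, hπ⟩ := exists_classify f H Z hZ
  obtain ⟨φ, hφ⟩ := exists_iso f hrep Z hZ π hπ q g hq
  obtain ⟨⟨h1, h2, h3⟩, h4⟩ := deg_classify f hrep n H Z hZ π hπ
  have hi : IsIso φ.inv.left := inferInstanceAs (IsIso ((Over.forget S).map φ.inv))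
  have hq' : q = π.left ≫ φ.inv.left := by
    rw [← hφ, Category.assoc, ← Over.comp_left, φ.hom_inv_id]
    exact (Category.comp_id q).symm
  rw [hq']
  refine ⟨⟨inferInstance, inferInstance, inferInstance⟩, fun y => ?_⟩
  rw [AbSchX.FinRank.finrank_comp π.left φ.inv.left n.factorial h4 y,
    Scheme.Hom.finrank_eq_one_of_isIso]
  simp

/-- The sum of the tautological graphs descends uniquely to a symmetric product. -/
theorem existsUnique_descent (hrep : ∀ e : ℕ, HilbD.Representable f e) {n : ℕ} {Y : Scheme.{u}}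
    (q : SymProd.fibPow f n ⟶ Y) (g : Y ⟶ S) (hq : SymProd.IsSymProd f n q g)
    (M : pullback (WidePullback.base fun _ : Fin n => f) f ⟶ pullback g f)
    (hM : M = pullback.map (WidePullback.base fun _ : Fin n => f) f g f q (𝟙 X) (𝟙 S)
      ((Category.comp_id _).trans hq.over.symm) ((Category.comp_id f).trans (Category.id_comp f).symm))
    (s : Fin n → (SymProd.fibPow f n ⟶ pullback (WidePullback.base fun _ : Fin n => f) f))
    (hs : ∀ i, s i ≫ pullback.fst _ _ = 𝟙 _ ∧
      s i ≫ pullback.snd _ _ = WidePullback.π (fun _ : Fin n => f) i) :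
    (∃! J : (pullback g f).IdealSheafData, J.comap M = ∏ i, (s i).ker) ∧
    ∀ J : (pullback g f).IdealSheafData, J.comap M = ∏ i, (s i).ker →
      Mor2.IsFinLocFreeOfDeg n (J.subschemeι ≫ pullback.fst g f) := by
  obtain ⟨H, Z, hZ⟩ := hrep n
  obtain ⟨π, hπ⟩ := exists_classify f H Z hZ
  obtain ⟨φ, hφ⟩ := exists_iso f hrep Z hZ π hπ q g hq
  let qO : PO f n ⟶ Over.mk g := Over.homMk q hq.over
  let J₀ := HilbD.pull f φ.hom Z.1
  let e := pullbackSymmetry f g
  let eP := pullbackSymmetry f (WidePullback.base fun _ : Fin n => f)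
  have hJ₀ : J₀.comap (PicF.XTmap f qO) = univDiv f n := by
    rw [← pull_eq_comap, pull_pull, ← hπ]
    exact congrArg (fun k => HilbD.pull f k Z.1) (Over.OverMorphism.ext hφ)
  have hcomm : M ≫ e.inv = eP.inv ≫ PicF.XTmap f qO := by
    rw [hM]
    apply pullback.hom_ext <;>
      simp [e, eP, qO, PicF.XTmap, pullback.map]
  let J := J₀.comap e.inv
  have hJ : J.comap M = ∏ i, (s i).ker := by
    rw [← Scheme.IdealSheafData.comap_comp, hcomm, Scheme.IdealSheafData.comap_comp, hJ₀, univDiv,
      sumGraphs, CurveDiv.comap_prod]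
    refine Finset.prod_congr rfl fun i _ => ?_
    rw [secGraph_eq]
    refine (CurveDiv.ker_of_isPullback (s i) (𝟙 _) eP.inv
      (sec f (PO f n) (pt f i).left (Over.w (pt f i))) (IsPullback.of_vert_isIso ⟨?_⟩)).symm
    rw [Category.id_comp]
    refine pullback.hom_ext ?_ ?_
    · rw [Category.assoc]
      exact ((congrArg (s i ≫ ·) (pullbackSymmetry_inv_comp_fst _ _)).trans (hs i).2).trans
        (sec_fst f (PO f n) _ _).symm
    · rw [Category.assoc]
      refine ((congrArg (s i ≫ ·) (pullbackSymmetry_inv_comp_snd _ _)).trans (hs i).1).trans ?_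
      exact (sec_proj f (PO f n) _ _).symm
  obtain ⟨⟨h1, h2, h3⟩, h4⟩ := deg_quot f hrep q g hq
  have : Surjective q := (Scheme.Hom.one_le_finrank_iff_surjective q).mp fun y => by
    rw [h4]; exact n.factorial_pos
  have H1 : IsPullback M (pullback.fst (WidePullback.base fun _ : Fin n => f) f)
      (pullback.fst g f) q := by
    refine IsPullback.of_right ?_ (by rw [hM]; exact pullback.lift_fst _ _ _)
      (IsPullback.of_hasPullback g f).flip
    rw [hM, pullback.lift_snd, Category.comp_id, hq.over]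
    exact (IsPullback.of_hasPullback _ f).flip
  have hMf : Flat M := MorphismProperty.of_isPullback (P := @Flat) H1.flip h2
  have hMs : Surjective M := MorphismProperty.of_isPullback (P := @Surjective) H1.flip ‹Surjective q›
  have huniq : ∀ J' : (pullback g f).IdealSheafData, J'.comap M = ∏ i, (s i).ker → J' = J :=
    fun J' hJ' => DescLib.eq_of_flat_family (fun _ : PUnit.{u + 1} => M)
      (fun x => ⟨⟨⟩, hMs.surj x⟩) fun _ => hJ'.trans hJ.symm
  refine ⟨⟨J, hJ, huniq⟩, fun J' hJ' => ?_⟩
  rw [huniq J' hJ']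
  refine HilbFam.finLocFreeOfDeg_comap (p := PicF.XTproj f (Over.mk g)) (c := 𝟙 Y) ?_ J₀
    (isFinLocFreeOfDeg_pull f φ.hom Z.1 Z.2)
  exact IsPullback.of_horiz_isIso ⟨(pullbackSymmetry_inv_comp_snd f g).trans (Category.comp_id _).symm⟩

end Groth.Agent.PicFRel.HilbSym
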