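import Groth.Agent.PicFRel.DivClass
import Groth.Agent.S1170

/-!
# Representability of good rigidified classes on a curve
-/

set_option autoImplicit false
set_option linter.style.haveILetI false
set_option linter.overlappingInstances false
set_option linter.unusedSectionVars false
set_option backward.isDefEq.respectTransparency false
set_option backward.isDefEq.respectTransparency.types false

universe u

open CategoryTheory CategoryTheory.Limits AlgebraicGeometry TopologicalSpace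

noncomputable section

namespace Groth.Agent.PicFRel.DivClass

open Groth.Agent Groth.Agent.JacTheta Groth.Agent.PicFRel.CurveFam
open scoped Groth.Agent.H23.PicMul

variable {k : Type u} [Field k] [IsSepClosed k] {X : Scheme.{u}} [X.Over (Spec (CommRingCat.of k))]
  [IsIntegral X] [IsProper (X ↘ Spec (CommRingCat.of k))] [Smooth (X ↘ Spec (CommRingCat.of k))]
  (hdim : topologicalKrullDim X = 1) (σ : Pt k X)

theorem LB.pull_XTmap_comp {T₁ T₂ T₃ : Over (Spec (CommRingCat.of k))} (g : T₁ ⟶ T₂) (h : T₂ ⟶ T₃)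
    (c : LB (PicF.XT (str k X) T₃)) :
    LB.pull (PicF.XTmap (str k X) g) (LB.pull (PicF.XTmap (str k X) h) c) =
      LB.pull (PicF.XTmap (str k X) (g ≫ h)) c := by
  rw [LB.pull_comp, PicClLib.XTmap_comp]

theorem secPull_pull_eq_one {T T' : Over (Spec (CommRingCat.of k))} (g : T' ⟶ T)
    {c : LB (PicF.XT (str k X) T)} (h : secPull σ T c = 1) :
    secPull σ T' (LB.pull (PicF.XTmap (str k X) g) c) = 1 := by
  rw [pull_secPull, h, map_one]

/-- Rigidified classes equal locally on the base are equal. -/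
theorem eq_of_locally {T : Over (Spec (CommRingCat.of k))} {c c' : LB (PicF.XT (str k X) T)}
    (h : secPull σ T c = 1) (h' : secPull σ T c' = 1)
    (hloc : ∀ t : T.left, ∃ (U : Scheme.{u}) (j : U ⟶ T.left) (_ : IsOpenImmersion j), t ∈ Set.range j ∧
      LB.pull (PicF.XTmap (str k X) (AbDual.ovrHom T j)) c =
        LB.pull (PicF.XTmap (str k X) (AbDual.ovrHom T j)) c') : c = c' := by
  obtain ⟨L, hL, hc⟩ := c.exists_rep
  obtain ⟨L', hL', hc'⟩ := c'.exists_rep
  have hs : ∀ (d : LB (PicF.XT (str k X) T)), secPull σ T d = 1 →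
      PicF.IsTrivialCl (PicF.pullCl (PicF.secT (str k X) σ.1 σ.2 T) (d : PicF.Cl _)) := fun d hd => by
    rw [← LB.pull_val]
    exact congrArg Units.val hd
  refine Units.ext (congrArg Subtype.val (RigDescent.rig_ext (str k X) σ.1 σ.2 (const_app k X)
    (⟨(c : PicF.Cl _), ⟨L, hc.symm, hL⟩, hs c h⟩ : PicF.Rig (str k X) σ.1 σ.2 T)
    ⟨(c' : PicF.Cl _), ⟨L', hc'.symm, hL'⟩, hs c' h'⟩ fun t => ?_))
  obtain ⟨U, j, hj, ht, he⟩ := hloc t
  exact ⟨U, j, inferInstance, inferInstance, ht, congrArg Units.val he⟩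

include hdim in
/-- Good rigidified classes are represented by an open subscheme of a Hilbert scheme. -/
theorem exists_good_rep : ∃ (U : Over (Spec (CommRingCat.of k))) (ξ : LB (PicF.XT (str k X) U)),
    secPull σ U ξ = 1 ∧ Good ξ ∧ ∀ (T : Over (Spec (CommRingCat.of k))) (c : LB (PicF.XT (str k X) T)),
      secPull σ T c = 1 → Good c → ∃! g : T ⟶ U, LB.pull (PicF.XTmap (str k X) g) ξ = c := by
  haveI := GeomField.geometricallyIrreducible_of_isSepClosed (k := k) (X := X)
  obtain ⟨H, Z, hZ, -, -⟩ := S1170.result k X (str k X) ⟨inferInstance, inferInstance, inferInstance, hdim⟩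
    (Curv2.genus k X)
  let ξ₀ := Φ hdim σ Z
  let U₀ : H.left.Opens := ⟨{h | PicGood.GoodAt (PicF.XTproj (str k X) H) (ξ₀ : PicF.Cl _) h},
    isOpen_iff_forall_mem_open.2 fun h hh => by
      obtain ⟨V, j, hj, hhj, hgood, -⟩ := exists_local_div hdim ξ₀ h hh
      refine ⟨Set.range j, ?_, hj.base_open.isOpen_range, hhj⟩
      rintro _ ⟨v, rfl⟩
      exact hgood v⟩
  let P : Over (Spec (CommRingCat.of k)) := AbDual.ovr H U₀.ι
  let ι : P ⟶ H := AbDual.ovrHom H U₀.ι
  let ξ := LB.pull (PicF.XTmap (str k X) ι) ξ₀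
  have hξs : secPull σ P ξ = 1 := secPull_pull_eq_one σ ι (sec_rigC σ H _)
  have hξg : Good ξ := fun u => (goodAt_pull ι ξ₀ u).2 u.2
  have huniq : ∀ (T : Over (Spec (CommRingCat.of k))) (g g' : T ⟶ P),
      LB.pull (PicF.XTmap (str k X) g) ξ = LB.pull (PicF.XTmap (str k X) g') ξ → g = g' := by
    intro T g g' h
    have hg : Good (Φ hdim σ (mapF (g ≫ ι) Z)) := by
      rw [Φ_map, ← LB.pull_XTmap_comp]
      exact hξg.pull g
    have hh : Φ hdim σ (mapF (g ≫ ι) Z) = Φ hdim σ (mapF (g' ≫ ι) Z) := by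
      rw [Φ_map, Φ_map, ← LB.pull_XTmap_comp, ← LB.pull_XTmap_comp]
      exact h
    have he := congrArg Subtype.val (Φ_injective hdim σ _ _ hh hg)
    have := (hZ T (mapF (g ≫ ι) Z)).unique (rfl : HilbD.pull (str k X) (g ≫ ι) Z.1 = _) he.symm
    exact Over.OverMorphism.ext ((cancel_mono U₀.ι).1 (congrArg (fun m : T ⟶ H => m.left) this))
  refine ⟨P, ξ, hξs, hξg, fun T c hcs hcg => ?_⟩
  have hex : ∀ t : T.left, ∃ (V : Scheme.{u}) (j : V ⟶ T.left) (_ : IsOpenImmersion j), t ∈ Set.range j ∧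
      ∃ g : AbDual.ovr T j ⟶ P, LB.pull (PicF.XTmap (str k X) g) ξ =
        LB.pull (PicF.XTmap (str k X) (AbDual.ovrHom T j)) c := fun t => by
    obtain ⟨V, j, hj, htj, -, W, hW⟩ := exists_local_div hdim c t (hcg t)
    refine ⟨V, j, hj, htj, ?_⟩
    obtain ⟨m, hm, -⟩ := hZ (AbDual.ovr T j) W
    have hΦ : LB.pull (PicF.XTmap (str k X) m) ξ₀ =
        LB.pull (PicF.XTmap (str k X) (AbDual.ovrHom T j)) c := by
      rw [← Φ_map, show mapF m Z = W from Subtype.ext hm, Φ, hW,
        rigC_of_sec σ (secPull_pull_eq_one σ (AbDual.ovrHom T j) hcs)]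
    have hr : Set.range m.left ⊆ Set.range U₀.ι := by
      rintro _ ⟨v, rfl⟩
      rw [Scheme.Opens.range_ι]
      refine (goodAt_pull m ξ₀ v).1 ?_
      rw [hΦ]
      exact hcg.pull _ v
    refine ⟨Over.homMk (IsOpenImmersion.lift U₀.ι m.left hr) (by
      show IsOpenImmersion.lift U₀.ι m.left hr ≫ U₀.ι ≫ H.hom = _
      rw [IsOpenImmersion.lift_fac_assoc]
      exact Over.w m), ?_⟩
    rw [← hΦ, LB.pull_XTmap_comp]
    congr 3
    exact Over.OverMorphism.ext (IsOpenImmersion.lift_fac _ _ _)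
  choose V j hj htj g hg using hex
  haveI := hj
  let 𝒰 : T.left.OpenCover := Scheme.Cover.mkOfCovers T.left V j (fun t => by
    obtain ⟨v, hv⟩ := htj t
    exact ⟨t, v, hv⟩) hj
  have hglue : ∀ a b : T.left, pullback.fst (j a) (j b) ≫ (g a).left = pullback.snd (j a) (j b) ≫ (g b).left := by
    intro a b
    let Tab : Over (Spec (CommRingCat.of k)) := AbDual.ovr (AbDual.ovr T (j a)) (pullback.fst (j a) (j b))
    let pa : Tab ⟶ AbDual.ovr T (j a) := AbDual.ovrHom _ _
    let pb : Tab ⟶ AbDual.ovr T (j b) := Over.homMk (pullback.snd (j a) (j b)) (pullback.condition_assoc T.hom).symm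
    have := huniq Tab (pa ≫ g a) (pb ≫ g b) (by
      rw [← LB.pull_XTmap_comp, ← LB.pull_XTmap_comp, hg, hg, LB.pull_XTmap_comp, LB.pull_XTmap_comp]
      congr 3
      exact Over.OverMorphism.ext pullback.condition)
    exact congrArg (fun m : Tab ⟶ P => m.left) this
  let g₀ : T.left ⟶ P.left := 𝒰.glueMorphisms (fun t => (g t).left) hglue
  have hι : ∀ t, j t ≫ g₀ = (g t).left := fun t => Scheme.Cover.ι_glueMorphisms 𝒰 _ hglue t
  let G : T ⟶ P := Over.homMk g₀ (𝒰.hom_ext _ _ fun t => by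
    show j t ≫ g₀ ≫ P.hom = j t ≫ T.hom
    rw [reassoc_of% hι t, Over.w (g t)]
    rfl)
  have hG : LB.pull (PicF.XTmap (str k X) G) ξ = c := by
    refine eq_of_locally σ (secPull_pull_eq_one σ G hξs) hcs fun t => ⟨V t, j t, hj t, htj t, ?_⟩
    rw [LB.pull_XTmap_comp, show AbDual.ovrHom T (j t) ≫ G = g t from Over.OverMorphism.ext (hι t)]
    exact hg t
  exact ⟨G, hG, fun G' hG' => huniq T G' G (hG'.trans hG.symm)⟩

end Groth.Agent.PicFRel.DivClass
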