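import Groth.Agent.PicFRel.CechOne
import Groth.Agent.AVIdx.InfArtinGen
import Groth.Agent.H23.CubeField

/-!
# Openness of the trivial locus when the first cohomology of functions vanishes

For a proper scheme over a field with constant functions and vanishing first cohomology, an invertible
module on its product with a locally Noetherian scheme which is trivial on one fibre is trivial near it.
-/

set_option autoImplicit false
set_option linter.style.haveILetI false

universe u

open CategoryTheory Limits AlgebraicGeometry MonoidalCategory CartesianMonoidalCategory TopologicalSpace Opposite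

namespace Groth.Agent.PicFRel.H1Step

open Groth.Agent Groth.Agent.H23 Groth.Agent.H23.TrivBasic Groth.Agent.H23.InfArtin Groth.Agent.H23.InfLift
  Groth.Agent.H23.ProdFun

variable {k : Type u} [Field k] {X : Over (Spec (CommRingCat.of k))} [IsProper X.hom]
  (h1 : Subsingleton (Coh.HH X.left (Coh.structureModule X.left) 1))

include h1 in
/-- A square-zero step. -/
theorem triv_step (T T' : Over (Spec (CommRingCat.of k))) [IsAffine T.left] [IsAffine T'.left]
    [IsSeparated T.hom] [IsSeparated T'.hom] (p : T' ⟶ T)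
    [IsClosedImmersion p.left] [Surjective p.left]
    (hI : ∀ a ∈ ker₀ p, ∀ b ∈ ker₀ p, a * b = 0)
    (L : (X ⊗ T).left.Modules) (hL : PicF.IsInvertible L)
    (h' : Triv ((Scheme.Modules.pullback (X ◁ p).left).obj L)) : Triv L := by
  haveI : CompactSpace X.left := QuasiCompact.compactSpace_of_compactSpace X.hom
  haveI : X.left.IsSeparated := ⟨by rw [← Limits.terminal.comp_from X.hom]; infer_instance⟩
  obtain ⟨ι, _, U, hU, hUσ⟩ := QCoh.exists_affine_cover (X := X.left)
  have hU1 : ∀ i, IsAffineOpen (U i) := fun i => by simpa using hUσ (p := 0) fun _ => i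
  have hcU : ∀ x : X.left, ∃ i, x ∈ U i := fun x => by
    have : x ∈ ⨆ i, U i := hU.symm ▸ trivial
    exact Opens.mem_iSup.1 this
  let Sl : PEmpty → Over (Spec (CommRingCat.of k)) := fun e => e.elim
  let σ : ∀ e, Sl e ⟶ X := fun e => e.elim
  haveI hSl : ∀ e, IsProper (Sl e).hom := fun e => e.elim
  haveI hσc : ∀ e, IsClosedImmersion (σ e).left := fun e => e.elim
  haveI : IsLocallyNoetherian X.left := LocallyOfFiniteType.isLocallyNoetherian X.hom
  exact AVIdx.triv_step U hU1 hcU Sl σ (fun e => e.elim)
    (fun c hc _ => CechOne.isCobound h1 U hU1 hcU (QCoh.isCoh_structureModule' (X := X.left)).1 c hc)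
    p hI L hL h' fun e => e.elim

include h1 in
/-- Triviality over an Artinian local algebra. -/
theorem triv_artin (B : Type u) [CommRing B] [Algebra k B] [IsArtinianRing B] [IsLocalRing B]
    (L : (X ⊗ spOver (k := k) B).left.Modules) (hL : PicF.IsInvertible L)
    (h₀ : Triv ((Scheme.Modules.pullback
      (X ◁ spMap (Ideal.Quotient.mkₐ k (IsLocalRing.maximalIdeal B))).left).obj L)) :
    Triv L := by
  let m := IsLocalRing.maximalIdeal B
  obtain ⟨N, hN⟩ := (isArtinianRing_iff_isNilpotent_maximalIdeal B).1 inferInstance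
  let q : ∀ j, B →ₐ[k] B ⧸ m ^ j := fun j => Ideal.Quotient.mkₐ k (m ^ j)
  have main : ∀ j, Triv ((Scheme.Modules.pullback (X ◁ spMap (q (j + 1))).left).obj L) := by
    intro j
    induction j with
    | zero =>
      let e := Ideal.Quotient.factorₐ k (show m ≤ m ^ (0 + 1) by rw [zero_add, pow_one])
      have heq : spMap (q (0 + 1)) = spMap e ≫ spMap (Ideal.Quotient.mkₐ k m) := by
        rw [spMap_comp]
        congr 1
      refine SeesawGlobal.triv_of_factor (X ◁ spMap e).left ?_ h₀
      rw [← Over.comp_left, ← MonoidalCategory.whiskerLeft_comp, ← heq]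
    | succ j ih =>
      let p := Ideal.Quotient.factorₐ k (Ideal.pow_le_pow_right (Nat.le_succ (j + 1)) : m ^ (j + 1 + 1) ≤ m ^ (j + 1))
      have hpq : p.comp (q (j + 1 + 1)) = q (j + 1) := AlgHom.ext fun b => rfl
      have hp : Function.Surjective p := fun x => by
        obtain ⟨b, rfl⟩ := Ideal.Quotient.mk_surjective x
        exact ⟨Ideal.Quotient.mk _ b, rfl⟩
      have hker : ∀ x, p x = 0 → ∃ b ∈ m ^ (j + 1), Ideal.Quotient.mk _ b = x := fun x hx => by
        obtain ⟨b, rfl⟩ := Ideal.Quotient.mk_surjective x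
        exact ⟨b, Ideal.Quotient.eq_zero_iff_mem.1 hx, rfl⟩
      have hsq : ∀ x y, p x = 0 → p y = 0 → x * y = 0 := fun x y hx hy => by
        obtain ⟨a, ha, rfl⟩ := hker x hx
        obtain ⟨b, hb, rfl⟩ := hker y hy
        rw [← map_mul, Ideal.Quotient.eq_zero_iff_mem]
        refine Ideal.pow_le_pow_right (show j + 1 + 1 ≤ (j + 1) + (j + 1) by omega) ?_
        rw [pow_add]
        exact Ideal.mul_mem_mul ha hb
      let T := spOver (k := k) (B ⧸ m ^ (j + 1 + 1))
      let T' := spOver (k := k) (B ⧸ m ^ (j + 1))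
      haveI : IsAffine T.left := inferInstanceAs (IsAffine (Spec (CommRingCat.of (B ⧸ m ^ (j + 1 + 1)))))
      haveI : IsAffine T'.left := inferInstanceAs (IsAffine (Spec (CommRingCat.of (B ⧸ m ^ (j + 1)))))
      haveI : IsSeparated T.hom := inferInstanceAs (IsSeparated (Spec.map (CommRingCat.ofHom (algebraMap k (B ⧸ m ^ (j + 1 + 1))))))
      haveI : IsSeparated T'.hom := inferInstanceAs (IsSeparated (Spec.map (CommRingCat.ofHom (algebraMap k (B ⧸ m ^ (j + 1))))))
      haveI : IsClosedImmersion (spMap p).left := isClosedImmersion_spMap p hp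
      haveI : Surjective (spMap p).left :=
        surjective_spMap p hp fun x hx => ⟨2, by rw [pow_two]; exact hsq x x hx hx⟩
      refine triv_step h1 T T' (spMap p) ?_ _ (PicClLib.isInvertible_pullback _ hL) ?_
      · intro a ha b hb
        obtain ⟨a', rfl⟩ := (gammaEquiv (B ⧸ m ^ (j + 1 + 1))).surjective a
        obtain ⟨b', rfl⟩ := (gammaEquiv (B ⧸ m ^ (j + 1 + 1))).surjective b
        have ha' : p a' = 0 := (gammaEquiv (B ⧸ m ^ (j + 1))).injective
          ((pullFun_spMap p (le_of_eq rfl) a').symm.trans ((LinearMap.mem_ker.1 ha).trans (map_zero _).symm))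
        have hb' : p b' = 0 := (gammaEquiv (B ⧸ m ^ (j + 1))).injective
          ((pullFun_spMap p (le_of_eq rfl) b').symm.trans ((LinearMap.mem_ker.1 hb).trans (map_zero _).symm))
        refine Eq.trans ?_ ((congrArg _ (hsq a' b' ha' hb')).trans (map_zero (gammaEquiv (B ⧸ m ^ (j + 1 + 1)))))
        exact (map_mul (Scheme.ΓSpecIso (CommRingCat.of (B ⧸ m ^ (j + 1 + 1)))).inv.hom a' b').symm
      · refine (TrivBasic.triv_comp_iff _ _).2 ?_
        rw [← Over.comp_left, ← MonoidalCategory.whiskerLeft_comp, spMap_comp, hpq]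
        exact ih
  have hb : Function.Bijective (q (N + 1)) := by
    refine ⟨fun a b hab => ?_, Ideal.Quotient.mk_surjective⟩
    have h := Ideal.Quotient.eq.1 hab
    rw [show m ^ (N + 1) = ⊥ by rw [pow_succ, hN, Submodule.zero_eq_bot, Ideal.bot_mul], Submodule.mem_bot,
      sub_eq_zero] at h
    exact h
  let e := AlgEquiv.ofBijective (q (N + 1)) hb
  have hid : spMap e.symm.toAlgHom ≫ spMap (q (N + 1)) = 𝟙 (spOver (k := k) B) := by
    rw [spMap_comp]
    apply Over.OverMorphism.ext
    show Spec.map _ = 𝟙 _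
    rw [← Spec.map_id]
    congr 1
    exact CommRingCat.hom_ext (RingHom.ext fun b => e.symm_apply_apply b)
  have h := SeesawGlobal.triv_of_factor (X ◁ spMap e.symm.toAlgHom).left rfl (main N)
  rw [← Over.comp_left, ← MonoidalCategory.whiskerLeft_comp, hid, MonoidalCategory.whiskerLeft_id, Over.id_left] at h
  exact TrivBasic.triv_id_iff.1 h

variable (hX : Function.Bijective X.hom.appTop)

include h1 hX in
/-- A module trivial on a fibre is trivial near it. -/
theorem exists_frame_near (Z : Over (Spec (CommRingCat.of k))) [IsLocallyNoetherian Z.left]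
    (L : (X ⊗ Z).left.Modules) (hL : PicF.IsInvertible L) (z : Z.left)
    (hz : SeesawGlobal.FieldTriv (snd X Z).left L z) :
    ∃ V : Z.left.Opens, z ∈ V ∧ ∃ s : Γ(L, (snd X Z).left ⁻¹ᵁ V), InvX.IsFrame s := by
  let f := (snd X Z).left
  haveI : IsProper f := inferInstanceAs (IsProper (pullback.snd X.hom Z.hom))
  haveI : Flat f := inferInstanceAs (Flat (pullback.snd X.hom Z.hom))
  have hH0 : ∀ {S : Scheme.{u}} (g : S ⟶ Z.left), Function.Bijective (pullback.snd f g).appTop := by
    intro S g
    show Function.Bijective (pullback.snd (pullback.snd X.hom Z.hom) g).appTop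
    rw [← pullbackLeftPullbackSndIso_hom_snd X.hom Z.hom g, Scheme.Hom.comp_appTop]
    exact (SeesawGlobal.bijective_appTop_iso (pullbackLeftPullbackSndIso X.hom Z.hom g)).comp
      (Rigid.bijective_app_snd_of_bijective X.hom (g ≫ Z.hom) hX ⊤)
  -- triviality after a change of base, from triviality of the pullback along `X ◁ g`
  have htr : ∀ (S : Over (Spec (CommRingCat.of k))) (g : S ⟶ Z),
      Triv ((Scheme.Modules.pullback (X ◁ g).left).obj L) →
        Triv ((Scheme.Modules.pullback (pullback.fst f g.left)).obj L) := by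
    intro S g h
    have hw : pullback.fst f g.left ≫ (fst X Z).left ≫ X.hom = pullback.snd f g.left ≫ S.hom := by
      rw [← Over.w g, ← Category.assoc (pullback.snd f g.left), ← pullback.condition, Category.assoc,
        Over.w (fst X Z), Over.w (snd X Z)]
    refine SeesawGlobal.triv_of_factor
      (pullback.lift (pullback.fst f g.left ≫ (fst X Z).left) (pullback.snd f g.left)
        (by rw [Category.assoc]; exact hw) : pullback f g.left ⟶ (X ⊗ S).left) ?_ h
    apply pullback.hom_ext
    · show (_ ≫ (X ◁ g).left) ≫ (fst X Z).left = _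
      rw [Category.assoc, ← Over.comp_left, whiskerLeft_fst]
      exact pullback.lift_fst _ _ _
    · show (_ ≫ (X ◁ g).left) ≫ (snd X Z).left = _
      rw [Category.assoc, ← Over.comp_left, whiskerLeft_snd, Over.comp_left, ← Category.assoc]
      exact (congrArg (· ≫ g.left) (pullback.lift_snd _ _ _)).trans pullback.condition.symm
  have htr' : ∀ (S : Over (Spec (CommRingCat.of k))) (g : S ⟶ Z),
      Triv ((Scheme.Modules.pullback (pullback.fst f g.left)).obj L) →
        Triv ((Scheme.Modules.pullback (X ◁ g).left).obj L) := by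
    intro S g h
    refine SeesawGlobal.triv_of_factor
      (pullback.lift (X ◁ g).left (snd X S).left ?_ : (X ⊗ S).left ⟶ pullback f g.left) (pullback.lift_fst _ _ _) h
    rw [← Over.comp_left, ← Over.comp_left, whiskerLeft_snd]
  obtain ⟨A, _, _, g, _, x, rfl⟩ := SeesawGlobal.exists_chart z
  haveI : x.asIdeal.IsPrime := x.isPrime
  obtain ⟨β, hβ⟩ := Spec.map_surjective (g ≫ Z.hom)
  letI : Algebra k A := β.hom.toAlgebra
  let gO : spOver (k := k) A ⟶ Z := Over.homMk g (by exact hβ.symm)
  refine SeesawGlobal.exists_frame_of_thick f hL g x (fun K _ k' _ => hH0 k') hz fun n => ?_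
  refine ⟨?_, (hH0 _).1⟩
  suffices h : ∀ m, Triv ((Scheme.Modules.pullback (pullback.fst f
      (Seesaw.specAlg A (SeesawMod.Thick x.asIdeal (m + 1)) ≫ g))).obj L) by
    refine SeesawGlobal.triv_pullback_of_factor
      (Spec.map (CommRingCat.ofHom (Ideal.Quotient.factor
        (Ideal.pow_le_pow_right (Nat.le_succ n) :
          IsLocalRing.maximalIdeal (Localization.AtPrime x.asIdeal) ^ (n + 1) ≤
            IsLocalRing.maximalIdeal (Localization.AtPrime x.asIdeal) ^ n)))) ?_ (h n)
    show _ ≫ Spec.map _ ≫ g = Spec.map _ ≫ g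
    rw [← Category.assoc, ← Spec.map_comp]
    rfl
  intro m
  let R := Localization.AtPrime x.asIdeal
  let B := SeesawMod.Thick x.asIdeal (m + 1)
  haveI : IsNoetherianRing R := IsLocalization.isNoetherianRing x.asIdeal.primeCompl R inferInstance
  haveI : Nontrivial B := Ideal.Quotient.nontrivial_iff.2 fun h =>
    (IsLocalRing.maximalIdeal.isMaximal R).ne_top (top_le_iff.1 (h.ge.trans (Ideal.pow_le_self (Nat.succ_ne_zero m))))
  haveI : IsLocalRing B := IsLocalRing.of_surjective' (Ideal.Quotient.mk _) Ideal.Quotient.mk_surjective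
  haveI : IsNoetherianRing B :=
    isNoetherianRing_of_surjective R B (Ideal.Quotient.mk _) Ideal.Quotient.mk_surjective
  have hmm : IsLocalRing.maximalIdeal B = (IsLocalRing.maximalIdeal R).map (Ideal.Quotient.mk _) :=
    (IsLocalRing.map_maximalIdeal_of_surjective _ Ideal.Quotient.mk_surjective).symm
  haveI : IsArtinianRing B := (isArtinianRing_iff_isNilpotent_maximalIdeal B).2 ⟨m + 1, by
    rw [hmm, ← Ideal.map_pow]
    exact Ideal.map_quotient_self _⟩
  have hcm : Ideal.comap (Ideal.Quotient.mk (IsLocalRing.maximalIdeal R ^ (m + 1))) (IsLocalRing.maximalIdeal B) =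
      IsLocalRing.maximalIdeal R := IsLocalRing.eq_maximalIdeal
    (Ideal.comap_isMaximal_of_surjective _ Ideal.Quotient.mk_surjective)
  let S := spOver (k := k) B
  let π := IsScalarTower.toAlgHom k A B
  let gS : S ⟶ Z := spMap π ≫ gO
  refine (TrivBasic.triv_congr ?_).1 (htr S gS ?_) <;> try rfl
  refine triv_artin h1 B _ (PicClLib.isInvertible_pullback _ hL) ?_
  refine (TrivBasic.triv_comp_iff _ _).2 ?_
  rw [← Over.comp_left, ← MonoidalCategory.whiskerLeft_comp]
  refine htr' _ _ ?_
  letI := Ideal.Quotient.field (IsLocalRing.maximalIdeal B)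
  refine hz (B ⧸ IsLocalRing.maximalIdeal B) _ ?_
  show g (Spec.map (CommRingCat.ofHom π.toRingHom)
    (Spec.map (CommRingCat.ofHom (Ideal.Quotient.mkₐ k (IsLocalRing.maximalIdeal B)).toRingHom)
      (IsLocalRing.closedPoint (B ⧸ IsLocalRing.maximalIdeal B)))) = g x
  congr 1
  refine PrimeSpectrum.ext ?_
  show Ideal.comap (algebraMap A B) (Ideal.comap (Ideal.Quotient.mk _)
    (IsLocalRing.maximalIdeal (B ⧸ IsLocalRing.maximalIdeal B))) = x.asIdeal
  rw [IsLocalRing.maximalIdeal_eq_bot, ← RingHom.ker_eq_comap_bot, Ideal.mk_ker,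
    IsScalarTower.algebraMap_eq A R B, ← Ideal.comap_comap,
    show algebraMap R B = Ideal.Quotient.mk _ from rfl,
    hcm]
  exact Localization.AtPrime.under_maximalIdeal

end Groth.Agent.PicFRel.H1Step
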