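import Groth.Agent.PicFRel.CurveDivSplit
import Groth.Agent.HilbDLib.Separated
import Groth.Agent.ZBSym.FibPow
import Groth.Agent.AbSchX.FinRank
import Groth.Prelude.Def_SymProd

/-!
# Adding a point to the universal divisor; sums of graphs
-/

set_option autoImplicit false
set_option linter.style.haveILetI false
set_option backward.isDefEq.respectTransparency false
set_option backward.isDefEq.respectTransparency.types false

universe u

open CategoryTheory CategoryTheory.Limits AlgebraicGeometry

namespace Groth.Agent.PicFRel.HilbAdd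

open HilbDLib

variable {X S : Scheme.{u}} (f : X ⟶ S)

lemma smooth_proj [SmoothOfRelativeDimension 1 f] (T : Over S) :
    SmoothOfRelativeDimension 1 (PicF.XTproj f T) :=
  (smoothOfRelativeDimension_isStableUnderBaseChange 1).of_isPullback
    (IsPullback.of_hasPullback f T.hom) inferInstance

lemma pull_mul {T T' : Over S} (g : T' ⟶ T) (I J : (PicF.XT f T).IdealSheafData) :
    HilbD.pull f g (I * J) = HilbD.pull f g I * HilbD.pull f g J := by
  simp only [pull_eq_comap, FComplLib.comap_mul]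

lemma pull_one {T T' : Over S} (g : T' ⟶ T) : HilbD.pull f g 1 = 1 := by
  rw [pull_eq_comap, Scheme.IdealSheafData.one_eq_top, Scheme.IdealSheafData.comap_top,
    Scheme.IdealSheafData.one_eq_top]

lemma pull_prod {T T' : Over S} (g : T' ⟶ T) {ι : Type*} (t : Finset ι)
    (F : ι → (PicF.XT f T).IdealSheafData) :
    HilbD.pull f g (∏ i ∈ t, F i) = ∏ i ∈ t, HilbD.pull f g (F i) := by
  simp only [pull_eq_comap, CurveDiv.comap_prod]

lemma secGraph_congr (T : Over S) {x x' : T.left ⟶ X} (h : x = x') (hx : x ≫ f = T.hom)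
    (hx' : x' ≫ f = T.hom) : HilbD.secGraph f T x hx = HilbD.secGraph f T x' hx' := by
  subst h; rfl

section sep

variable [IsSeparated f]

lemma pull_secGraph {T T' : Over S} (g : T' ⟶ T) (x : T.left ⟶ X) (hx : x ≫ f = T.hom) :
    HilbD.pull f g (HilbD.secGraph f T x hx) =
      HilbD.secGraph f T' (g.left ≫ x) (by rw [Category.assoc, hx, Over.w]) := by
  let xO : T ⟶ Over.mk f := Over.homMk x hx
  rw [secGraph_eq, show (sec f T x hx).ker = (sec f T xO.left (Over.w xO)).ker from rfl,
    ← pull_diagonal f xO, pull_pull, pull_diagonal f (g ≫ xO)]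
  rfl

lemma deg_secGraph (T : Over S) (x : T.left ⟶ X) (hx : x ≫ f = T.hom) :
    Mor2.IsFinLocFreeOfDeg 1 ((HilbD.secGraph f T x hx).subschemeι ≫ PicF.XTproj f T) := by
  rw [secGraph_eq, finLocFreeOfDeg_ker, sec_proj]
  exact ⟨⟨inferInstance, inferInstance, inferInstance⟩,
    fun s => by rw [Scheme.Hom.finrank_eq_one_of_isIso]; rfl⟩

variable [SmoothOfRelativeDimension 1 f]

omit [IsSeparated f] in
lemma deg_mul {T : Over S} {d e : ℕ} (I J : (PicF.XT f T).IdealSheafData)
    (hI : Mor2.IsFinLocFreeOfDeg d (I.subschemeι ≫ PicF.XTproj f T))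
    (hJ : Mor2.IsFinLocFreeOfDeg e (J.subschemeι ≫ PicF.XTproj f T)) :
    Mor2.IsFinLocFreeOfDeg (d + e) ((I * J).subschemeι ≫ PicF.XTproj f T) :=
  haveI := smooth_proj f T
  CurveDiv.isFinLocFreeOfDeg_mul (PicF.XTproj f T) I J hI hJ

omit [IsSeparated f] in
lemma cancel_right {T : Over S} {d : ℕ} {I J K : (PicF.XT f T).IdealSheafData}
    (hK : Mor2.IsFinLocFreeOfDeg d (K.subschemeι ≫ PicF.XTproj f T)) (h : I * K = J * K) : I = J :=
  haveI := smooth_proj f T
  CurveDiv.mul_left_cancel' (PicF.XTproj f T) hK (by rw [mul_comm K I, mul_comm K J, h])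

/-- The map adding a point to the universal divisor is finite locally free. -/
theorem addPoint_deg (d : ℕ) (H : Over S) (Z : HilbD.Obj f d H) (hZ : HilbD.IsUniversal f d H Z)
    (H' : Over S) (Z' : HilbD.Obj f (d + 1) H') (hZ' : HilbD.IsUniversal f (d + 1) H' Z')
    (m : Over.mk (pullback.fst H.hom f ≫ H.hom) ⟶ H')
    (hm : HilbD.pull f m Z'.1 =
      HilbD.pull f (Over.homMk (pullback.fst H.hom f) rfl : Over.mk (pullback.fst H.hom f ≫ H.hom) ⟶ H) Z.1 *
        HilbD.secGraph f (Over.mk (pullback.fst H.hom f ≫ H.hom)) (pullback.snd H.hom f)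
          pullback.condition.symm) :
    Mor2.IsFinLocFreeOfDeg (d + 1) m.left := by
  let TO : Over S := Over.mk (pullback.fst H.hom f ≫ H.hom)
  let p : TO ⟶ H := Over.homMk (pullback.fst H.hom f) rfl
  let x : TO.left ⟶ X := pullback.snd H.hom f
  have hx : x ≫ f = TO.hom := pullback.condition.symm
  let W := Z'.1.subscheme
  let π : W ⟶ H'.left := Z'.1.subschemeι ≫ PicF.XTproj f H'
  let WO : Over S := Over.mk (π ≫ H'.hom)
  let xW : WO.left ⟶ X := Z'.1.subschemeι ≫ pullback.fst f H'.hom
  have hxW : xW ≫ f = WO.hom := by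
    show (Z'.1.subschemeι ≫ pullback.fst f H'.hom) ≫ f =
      (Z'.1.subschemeι ≫ pullback.snd f H'.hom) ≫ H'.hom
    rw [Category.assoc, Category.assoc, pullback.condition]
  let u : WO ⟶ H' := Over.homMk π rfl
  -- the pulled back divisor on `W` contains the tautological point
  have hle : HilbD.pull f u Z'.1 ≤ HilbD.secGraph f WO xW hxW := by
    have e : sec f WO xW hxW ≫ PicF.XTmap f u = Z'.1.subschemeι := by
      apply pullback.hom_ext
      · simp only [PicF.XTmap, pullback.map, Category.assoc, pullback.lift_fst, Category.comp_id,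
          sec_fst]
        rfl
      · simp only [PicF.XTmap, pullback.map, Category.assoc, pullback.lift_snd]
        exact (Category.assoc _ _ _).symm.trans
          ((congrArg (· ≫ u.left) (sec_proj f WO xW hxW)).trans (Category.id_comp _))
    rw [pull_eq_comap, secGraph_eq, ← Scheme.IdealSheafData.le_map_iff_comap_le,
      Scheme.IdealSheafData.map_ker, e, Scheme.IdealSheafData.ker_subschemeι]
  haveI := smooth_proj f WO
  obtain ⟨E, hE, hEeq⟩ := CurveDiv.exists_diff (PicF.XTproj f WO) (HilbD.secGraph f WO xW hxW)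
    (HilbD.pull f u Z'.1) hle (deg_secGraph f WO xW hxW) (isFinLocFreeOfDeg_pull f u Z'.1 Z'.2)
  rw [Nat.add_sub_cancel] at hE
  obtain ⟨e, he, -⟩ := hZ WO ⟨E, hE⟩
  -- the two maps
  let b : WO.left ⟶ pullback H.hom f := pullback.lift e.left xW (by rw [Over.w e, hxW])
  let bO : WO ⟶ TO := Over.homMk b (by
    show b ≫ pullback.fst H.hom f ≫ H.hom = _
    rw [pullback.lift_fst_assoc, Over.w e])
  have hle' : Z'.1 ≤ (sec f TO x hx ≫ PicF.XTmap f m).ker := by
    rw [← Scheme.IdealSheafData.map_ker, Scheme.IdealSheafData.le_map_iff_comap_le,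
      ← pull_eq_comap, hm]
    exact CurveDiv.mul_le_right' _ _
  let a : TO.left ⟶ W := IsClosedImmersion.lift Z'.1.subschemeι (sec f TO x hx ≫ PicF.XTmap f m)
    (by rw [Scheme.IdealSheafData.ker_subschemeι]; exact hle')
  have ha : a ≫ Z'.1.subschemeι = sec f TO x hx ≫ PicF.XTmap f m := IsClosedImmersion.lift_fac _ _ _
  have haπ : a ≫ π = m.left := by
    show a ≫ Z'.1.subschemeι ≫ PicF.XTproj f H' = _
    rw [← Category.assoc, ha, Category.assoc, show PicF.XTmap f m ≫ PicF.XTproj f H' =
      PicF.XTproj f TO ≫ m.left from pullback.lift_snd _ _ _, ← Category.assoc, sec_proj,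
      Category.id_comp]
  have hax : a ≫ xW = x := by
    show a ≫ Z'.1.subschemeι ≫ pullback.fst f H'.hom = _
    rw [← Category.assoc, ha, Category.assoc, show PicF.XTmap f m ≫ pullback.fst f H'.hom =
      pullback.fst f TO.hom ≫ 𝟙 X from pullback.lift_fst _ _ _, Category.comp_id, sec_fst]
  let aO : TO ⟶ WO := Over.homMk a (by
    show a ≫ π ≫ H'.hom = _
    rw [← Category.assoc, haπ]; exact Over.w m)
  have hbm : bO ≫ m = u := by
    refine (hZ' WO ⟨_, isFinLocFreeOfDeg_pull f u Z'.1 Z'.2⟩).unique ?_ rfl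
    show HilbD.pull f (bO ≫ m) Z'.1 = HilbD.pull f u Z'.1
    rw [← pull_pull, hm, pull_mul, pull_pull, pull_secGraph, hEeq, mul_comm]
    rw [show bO ≫ p = e from Over.OverMorphism.ext (pullback.lift_fst _ _ _), he]
    exact congrArg (· * E) (secGraph_congr f WO (pullback.lift_snd _ _ _) _ _)
  have hba : b ≫ a = 𝟙 W := by
    rw [← cancel_mono Z'.1.subschemeι, Category.assoc, ha]
    refine Eq.trans ?_ (Category.id_comp (obj := Scheme.{u}) Z'.1.subschemeι).symm
    apply pullback.hom_ext
    · simp only [Category.assoc, show PicF.XTmap f m ≫ pullback.fst f H'.hom =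
        pullback.fst f TO.hom ≫ 𝟙 X from pullback.lift_fst _ _ _, Category.comp_id, sec_fst]
      exact pullback.lift_snd _ _ _
    · simp only [Category.assoc, show PicF.XTmap f m ≫ pullback.snd f H'.hom =
        PicF.XTproj f TO ≫ m.left from pullback.lift_snd _ _ _]
      rw [← Category.assoc (sec f TO x hx), sec_proj, Category.id_comp]
      exact congrArg CommaMorphism.left hbm
  have hpe : aO ≫ e = p := by
    refine (hZ TO ⟨_, isFinLocFreeOfDeg_pull f p Z.1 Z.2⟩).unique ?_ rfl
    show HilbD.pull f (aO ≫ e) Z.1 = HilbD.pull f p Z.1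
    refine cancel_right f (deg_secGraph f TO x hx) ?_
    have hau : aO ≫ u = m := Over.OverMorphism.ext haπ
    rw [← pull_pull, he, ← secGraph_congr f TO hax (by rw [Category.assoc, hxW]; exact Over.w aO) hx]
    conv_lhs => rw [show HilbD.secGraph f TO (a ≫ xW) _ =
      HilbD.pull f aO (HilbD.secGraph f WO xW hxW) from (pull_secGraph f aO xW hxW).symm]
    rw [← pull_mul, mul_comm E, ← hEeq, pull_pull, hau, hm]
    exact congrArg (HilbD.pull f p Z.1 * ·) (secGraph_congr f TO hax.symm _ _)
  have hab : a ≫ b = 𝟙 _ := by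
    apply pullback.hom_ext
    · rw [Category.assoc, pullback.lift_fst, Category.id_comp]
      exact congrArg CommaMorphism.left hpe
    · rw [Category.assoc, pullback.lift_snd, Category.id_comp]
      exact hax
  have : IsIso a := ⟨b, hab, hba⟩
  obtain ⟨⟨h1, h2, h3⟩, h4⟩ := Z'.2
  rw [← haπ]
  exact ⟨⟨inferInstanceAs (IsFinite (a ≫ Z'.1.subschemeι ≫ PicF.XTproj f H')),
    inferInstanceAs (Flat (a ≫ Z'.1.subschemeι ≫ PicF.XTproj f H')),
    inferInstanceAs (LocallyOfFinitePresentation (a ≫ Z'.1.subschemeι ≫ PicF.XTproj f H'))⟩,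
    fun y => by rw [Scheme.Hom.finrank_comp_left_of_isIso]; exact h4 y⟩

/-! ### Sums of graphs -/

/-- The sum of the graphs of `n` points. -/
noncomputable def sumGraphs (T : Over S) {n : ℕ} (x : Fin n → (T ⟶ Over.mk f)) :
    (PicF.XT f T).IdealSheafData :=
  ∏ i, HilbD.secGraph f T (x i).left (Over.w (x i))

lemma deg_sumGraphs (T : Over S) : ∀ {n : ℕ} (x : Fin n → (T ⟶ Over.mk f)),
    Mor2.IsFinLocFreeOfDeg n ((sumGraphs f T x).subschemeι ≫ PicF.XTproj f T)
  | 0, x => by
    rw [sumGraphs, Fin.prod_univ_zero, Scheme.IdealSheafData.one_eq_top]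
    have : IsEmpty (⊤ : (PicF.XT f T).IdealSheafData).subscheme := by
      refine ⟨fun z => ?_⟩
      have := (⊤ : (PicF.XT f T).IdealSheafData).range_subschemeι.le ⟨z, rfl⟩
      simp at this
    refine ⟨⟨inferInstance, inferInstance, inferInstance⟩, fun s => ?_⟩
    let g := (⊤ : (PicF.XT f T).IdealSheafData).subschemeι ≫ PicF.XTproj f T
    let σ := T.left.fromSpecResidueField s
    let t : Spec (T.left.residueField s) := IsLocalRing.closedPoint (T.left.residueField s)
    have hσ : σ t = s := Scheme.fromSpecResidueField_apply _ _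
    rw [← hσ, ← Scheme.Hom.finrank_pullback_snd g σ t]
    by_contra h
    have hsurj : Surjective (pullback.snd g σ) := (Scheme.Hom.one_le_finrank_iff_surjective _).mp fun z => by
      rw [Subsingleton.elim (α := PrimeSpectrum (T.left.residueField s)) z t]
      exact Nat.one_le_iff_ne_zero.mpr h
    obtain ⟨z, -⟩ := hsurj.surj t
    exact isEmptyElim (pullback.fst g σ z)
  | n + 1, x => by
    rw [sumGraphs, Fin.prod_univ_castSucc]
    exact deg_mul f _ _ (deg_sumGraphs T fun i => x i.castSucc) (deg_secGraph f T _ _)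

omit [SmoothOfRelativeDimension 1 f] in
lemma pull_sumGraphs {T T' : Over S} (g : T' ⟶ T) {n : ℕ} (x : Fin n → (T ⟶ Over.mk f)) :
    HilbD.pull f g (sumGraphs f T x) = sumGraphs f T' fun i => g ≫ x i := by
  rw [sumGraphs, pull_prod]
  exact Finset.prod_congr rfl fun i _ => pull_secGraph f g _ _

omit [IsSeparated f] [SmoothOfRelativeDimension 1 f] in
lemma sumGraphs_perm (T : Over S) {n : ℕ} (σ : Equiv.Perm (Fin n)) (x : Fin n → (T ⟶ Over.mk f)) :
    sumGraphs f T (fun i => x (σ i)) = sumGraphs f T x :=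
  Fintype.prod_equiv σ _ _ fun _ => rfl

end sep

end Groth.Agent.PicFRel.HilbAdd
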