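import Groth.Agent.PicFRel.HilbChart
import Groth.Agent.GrpdLib.InvOpen
import Mathlib.RingTheory.Flat.FaithfullyFlat.Basic
import Mathlib.RingTheory.Spectrum.Prime.FreeLocus
import Mathlib.RingTheory.Artinian.Module
import Mathlib.LinearAlgebra.Dimension.StrongRankCondition

/-!
# The charts of the Hilbert functor of points cover
-/

set_option autoImplicit false
set_option linter.style.haveILetI false
set_option backward.isDefEq.respectTransparency false
set_option backward.isDefEq.respectTransparency.types false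

universe u

open CategoryTheory CategoryTheory.Limits AlgebraicGeometry TensorProduct

namespace Groth.Agent.PicFRel.HilbChart

open HilbFam HilbRing

section algebra

variable {C : Type u} [CommRing C]

/-- A surjection onto a finite flat module of rank `d` from a free module of rank `d` is bijective. -/
lemma bijective_of_rank {d : ℕ} {M : Type u} [AddCommGroup M] [Module C M] [Module.Finite C M]
    [Module.Flat C M] (h : ∀ p, Module.rankAtStalk (R := C) M p = d)
    (L : (Fin d → C) →ₗ[C] M) (hL : Function.Surjective L) : Function.Bijective L := by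
  refine ⟨injective_of_localized_maximal L fun J hJ => ?_, hL⟩
  have : Nontrivial C := ⟨0, 1, fun e => hJ.ne_top (J.eq_top_iff_one.mpr (e ▸ J.zero_mem))⟩
  let Cp := Localization.AtPrime J
  have : Module.Free Cp (LocalizedModule J.primeCompl M) := Module.free_of_flat_of_isLocalRing
  have : Module.Free Cp (LocalizedModule J.primeCompl (Fin d → C)) :=
    Module.free_of_flat_of_isLocalRing
  have h1 : Module.finrank Cp (LocalizedModule J.primeCompl M) = d := h ⟨J, hJ.isPrime⟩
  have h2 : Module.finrank Cp (LocalizedModule J.primeCompl (Fin d → C)) = d := by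
    have := congrFun (Module.rankAtStalk_eq_finrank_of_free (R := C) (M := Fin d → C))
      ⟨J, hJ.isPrime⟩
    rw [Module.finrank_fin_fun] at this
    exact this
  let g := LocalizedModule.map J.primeCompl L
  have hg : Function.Surjective g := LocalizedModule.map_surjective _ _ hL
  let ε := LinearEquiv.ofFinrankEq _ _ (h1.trans h2.symm)
  exact Function.Injective.of_comp (f := ε) (OrzechProperty.injective_of_surjective_endomorphism
    (ε.toLinearMap.comp g) (ε.surjective.comp hg))

/-- Nakayama: vanishing after base change to a field gives vanishing on a neighbourhood. -/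
lemma exists_annihilator_of_subsingleton {M : Type u} [AddCommGroup M] [Module C M]
    [Module.Finite C M] {K : Type u} [Field K] [Algebra C K] [Subsingleton (K ⊗[C] M)] :
    ∃ h : C, algebraMap C K h ≠ 0 ∧ ∀ m : M, h • m = 0 := by
  have hker : (RingHom.ker (algebraMap C K)).IsPrime := RingHom.ker_isPrime _
  let p : PrimeSpectrum C := ⟨RingHom.ker (algebraMap C K), hker⟩
  have : p.asIdeal.IsPrime := hker
  let κ := p.asIdeal.ResidueField
  let : Algebra κ K := (Ideal.ResidueField.lift p.asIdeal (algebraMap C K) le_rfl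
    fun x hx => isUnit_iff_ne_zero.mpr hx).toAlgebra
  have : IsScalarTower C κ K := IsScalarTower.of_algebraMap_eq fun x =>
    (Ideal.ResidueField.lift_algebraMap _ _ _ _ x).symm
  have : Subsingleton (K ⊗[κ] (κ ⊗[C] M)) :=
    (AlgebraTensorModule.cancelBaseChange C κ K K M).toEquiv.subsingleton
  have := Module.FaithfullyFlat.lTensor_reflects_triviality κ K (κ ⊗[C] M)
  have hp : p ∉ Module.support C M := by
    rw [Module.mem_support_iff_nontrivial_residueField_tensorProduct]
    exact not_nontrivial _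
  rw [Module.mem_support_iff_of_finite, SetLike.not_le_iff_exists] at hp
  obtain ⟨h, h1, h2⟩ := hp
  exact ⟨h, h2, fun m => Module.mem_annihilator.mp h1 m⟩

/-- The number of primes of a finite algebra over a field is at most its dimension. -/
lemma natCard_primeSpectrum_le (K D : Type u) [Field K] [CommRing D] [Algebra K D]
    [Module.Finite K D] :
    Finite (PrimeSpectrum D) ∧ Nat.card (PrimeSpectrum D) ≤ Module.finrank K D := by
  classical
  have : IsArtinianRing D := .of_finite K D
  refine ⟨inferInstance, ?_⟩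
  have : Fintype (PrimeSpectrum D) := Fintype.ofFinite _
  have hcop : Pairwise fun p q : PrimeSpectrum D => IsCoprime p.asIdeal q.asIdeal := fun p q hpq =>
    Ideal.isCoprime_of_isMaximal fun e => hpq (PrimeSpectrum.ext e)
  let L : D →ₗ[K] Π p : PrimeSpectrum D, D ⧸ p.asIdeal :=
    LinearMap.pi fun p => (Ideal.Quotient.mkₐ K p.asIdeal).toLinearMap
  have hL : Function.Surjective L := fun x => by
    obtain ⟨r, hr⟩ := Ideal.pi_quotient_surjective hcop x
    exact ⟨r, funext hr⟩
  rw [Nat.card_eq_fintype_card]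
  calc Fintype.card (PrimeSpectrum D) = ∑ _p : PrimeSpectrum D, 1 := by simp
    _ ≤ ∑ p : PrimeSpectrum D, Module.finrank K (D ⧸ p.asIdeal) :=
        Finset.sum_le_sum fun p _ => Module.finrank_pos
    _ = Module.finrank K (Π p : PrimeSpectrum D, D ⧸ p.asIdeal) :=
        (Module.finrank_pi_fintype K).symm
    _ ≤ Module.finrank K D := L.finrank_le_finrank_of_surjective hL

variable {B D : Type u} [CommRing B] [CommRing D] [Algebra C D] {d : ℕ}

/-- `comb` as a linear map. -/
noncomputable def combL (b : Fin d → B) (β : B →+* D) : (Fin d → C) →ₗ[C] D where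
  toFun := comb b (algebraMap C D) β
  map_add' v v' := by simp only [comb, Pi.add_apply, map_add, add_mul, Finset.sum_add_distrib]
  map_smul' c v := by
    simp only [comb, Pi.smul_apply, smul_eq_mul, map_mul, RingHom.id_apply, mul_assoc]
    rw [Algebra.smul_def, Finset.mul_sum]

lemma combL_apply (b : Fin d → B) (β : B →+* D) (v : Fin d → C) :
    combL b β v = ∑ i, v i • β (b i) := by
  simp [combL, comb, Algebra.smul_def]

/-- Spanning after base change. -/
lemma comb_surjective_baseChange {C' : Type u} [CommRing C'] [Algebra C C'] (b : Fin d → B)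
    (β : B →+* D) (h : ∀ x : D, ∃ v : Fin d → C', comb b
      (Algebra.TensorProduct.includeLeftRingHom (R := C) (A := C') (B := D))
      ((Algebra.TensorProduct.includeRight (R := C) (A := C') (B := D)).toRingHom.comp β) v =
        (1 : C') ⊗ₜ[C] x) :
    Function.Surjective (comb b
      (Algebra.TensorProduct.includeLeftRingHom (R := C) (A := C') (B := D))
      ((Algebra.TensorProduct.includeRight (R := C) (A := C') (B := D)).toRingHom.comp β)) := by
  intro z
  induction z using TensorProduct.induction_on with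
  | zero => exact ⟨0, by simp [comb]⟩
  | tmul c x =>
    obtain ⟨v, hv⟩ := h x
    refine ⟨fun i => c * v i, ?_⟩
    have : c ⊗ₜ[C] x = (c ⊗ₜ[C] (1 : D)) * ((1 : C') ⊗ₜ[C] x) := by simp
    rw [this, ← hv]
    simp only [comb, map_mul, Finset.mul_sum, mul_assoc]
    rfl
  | add x y hx hy =>
    obtain ⟨v, rfl⟩ := hx
    obtain ⟨v', rfl⟩ := hy
    exact ⟨v + v', by simp only [comb, Pi.add_apply, map_add, add_mul, Finset.sum_add_distrib]⟩

end algebra

variable {X S : Scheme.{u}} {f : X ⟶ S} {d : ℕ}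

variable (f) in
/-- The support of a family maps into `U`. -/
def InU (U : X.Opens) {T : Scheme.{u}} (ξ : Fam f d T) : Prop :=
  ∀ z ∈ ξ.I.support, pullback.fst f ξ.a z ∈ U

/-- A map from an affine scheme into an affine open is given by a ring map. -/
lemma exists_aOf {C : Type u} [CommRing C] (V : S.affineOpens) (a : Spec (CommRingCat.of C) ⟶ S)
    (h : Set.range a ⊆ V.1) : ∃ ψ : Γ(S, V.1) →+* C, a = aOf V ψ := by
  have hr : Set.range a ⊆ Set.range V.2.fromSpec := by rwa [V.2.range_fromSpec]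
  obtain ⟨φ, hφ⟩ : ∃ φ, Spec.map φ = IsOpenImmersion.lift V.2.fromSpec a hr :=
    ⟨_, Spec.map_preimage _⟩
  refine ⟨φ.hom, ?_⟩
  rw [aOf, CommRingCat.ofHom_hom, hφ, IsOpenImmersion.lift_fac]

lemma aOf_comp {C C' : Type u} [CommRing C] [CommRing C'] (V : S.affineOpens)
    (ψ : Γ(S, V.1) →+* C) (χ : C →+* C') :
    aOf V (χ.comp ψ) = Spec.map (CommRingCat.ofHom χ) ≫ aOf V ψ := by
  rw [aOf, aOf, ← Spec.map_comp_assoc]; rfl

lemma aOf_injective {C : Type u} [CommRing C] (V : S.affineOpens) {ψ ψ' : Γ(S, V.1) →+* C}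
    (h : aOf V ψ = aOf V ψ') : ψ = ψ' := by
  rw [aOf, aOf, cancel_mono] at h
  exact congrArg CommRingCat.Hom.hom (Spec.map_inj.mp h)

lemma range_aOf {C : Type u} [CommRing C] (V : S.affineOpens) (ψ : Γ(S, V.1) →+* C) :
    Set.range (aOf V ψ) ⊆ V.1 := by
  rintro _ ⟨z, rfl⟩
  exact V.2.range_fromSpec.le ⟨_, rfl⟩

variable {V : S.affineOpens} {U : X.affineOpens} {e : U.1 ≤ f ⁻¹ᵁ V.1}
  {C : Type u} [CommRing C]

variable (e) in
/-- `ξ` is given by the ring data. -/
def HasData (ξ : Fam f d (Spec (CommRingCat.of C))) (ψ : Γ(S, V.1) →+* C) {D : Type u} [CommRing D]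
    (j : C →+* D) (β : Γ(X, U.1) →+* D) (w : β.comp (eta V U e) = j.comp ψ) : Prop :=
  ξ.a = aOf V ψ ∧ ∃ u : pullback f (aOf V ψ) ⟶ pullback f ξ.a,
    u ≫ pullback.fst f ξ.a = pullback.fst f _ ∧ u ≫ pullback.snd f ξ.a = pullback.snd f _ ∧
      ξ.I.comap u = (lOf V U e ψ j β w).ker

variable [IsSeparated f] {b : Fin d → Γ(X, U.1)}

lemma hasData_famOf (P : Pt (eta V U e) b C) : HasData e (famOf f e P) P.ψ P.j P.β P.w :=
  ⟨rfl, 𝟙 _, Category.id_comp _, Category.id_comp _, Scheme.IdealSheafData.comap_id _⟩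

lemma HasData.eq_famOf {ξ : Fam f d (Spec (CommRingCat.of C))} {P : Pt (eta V U e) b C}
    (h : HasData e ξ P.ψ P.j P.β P.w) : famOf f e P = ξ := by
  obtain ⟨ha, u, h1, h2, h3⟩ := h
  exact (Fam.ext' (y := famOf f e P) ha u h1 h2 h3).symm

omit [IsSeparated f] in
lemma HasData.exists_hom {ξ : Fam f d (Spec (CommRingCat.of C))} {ψ ψ' : Γ(S, V.1) →+* C}
    {D D' : Type u} [CommRing D] [CommRing D']
    {j : C →+* D} {β : Γ(X, U.1) →+* D} {w : β.comp (eta V U e) = j.comp ψ}
    {j' : C →+* D'} {β' : Γ(X, U.1) →+* D'} {w' : β'.comp (eta V U e) = j'.comp ψ'}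
    [IsClosedImmersion (lOf V U e ψ j β w)] [IsClosedImmersion (lOf V U e ψ' j' β' w')]
    (h : HasData e ξ ψ j β w) (h' : HasData e ξ ψ' j' β' w') :
    ∃ θ : D →+* D', θ.comp j = j' ∧ θ.comp β = β' ∧ Function.Surjective θ := by
  obtain ⟨ha, u, hu1, hu2, hu3⟩ := h
  obtain ⟨ha', u', hu1', hu2', hu3'⟩ := h'
  obtain rfl : ψ = ψ' := aOf_injective V (ha.symm.trans ha')
  obtain rfl : u = u' := pullback.hom_ext (hu1.trans hu1'.symm) (hu2.trans hu2'.symm)
  exact exists_hom_of_le ψ j β w j' β' w' (hu3.symm.trans hu3').le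

omit [IsSeparated f] in
lemma HasData.map {ξ : Fam f d (Spec (CommRingCat.of C))} {ψ : Γ(S, V.1) →+* C}
    {D : Type u} [CommRing D] {j : C →+* D} {β : Γ(X, U.1) →+* D}
    {w : β.comp (eta V U e) = j.comp ψ} [hl : IsClosedImmersion (lOf V U e ψ j β w)]
    (h : HasData e ξ ψ j β w)
    {C' : Type u} [CommRing C'] [Algebra C C'] [Algebra C D] (hj : algebraMap C D = j)
    (w' : ((Algebra.TensorProduct.includeRight (R := C) (A := C') (B := D)).toRingHom.comp β).comp
        (eta V U e) =
      (Algebra.TensorProduct.includeLeftRingHom (R := C) (A := C') (B := D)).comp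
        ((algebraMap C C').comp ψ)) :
    HasData e (mapFam f d (Spec.map (CommRingCat.ofHom (algebraMap C C'))) ξ)
        ((algebraMap C C').comp ψ) Algebra.TensorProduct.includeLeftRingHom
        ((Algebra.TensorProduct.includeRight (R := C) (A := C') (B := D)).toRingHom.comp β) w' ∧
      IsClosedImmersion (lOf V U e ((algebraMap C C').comp ψ)
        Algebra.TensorProduct.includeLeftRingHom
        ((Algebra.TensorProduct.includeRight (R := C) (A := C') (B := D)).toRingHom.comp β) w') := by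
  obtain ⟨ha, u, hu1, hu2, hu3⟩ := h
  let c := Spec.map (CommRingCat.ofHom (algebraMap C C'))
  have ha' : c ≫ ξ.a = aOf V ((algebraMap C C').comp ψ) := by rw [aOf_comp, ha]
  let u' : pullback f (aOf V ((algebraMap C C').comp ψ)) ⟶ pullback f (c ≫ ξ.a) :=
    pullback.lift (pullback.fst f _) (pullback.snd f _)
      (pullback.condition.trans (congrArg (_ ≫ ·) ha'.symm))
  let m : pullback f (aOf V ((algebraMap C C').comp ψ)) ⟶ pullback f (aOf V ψ) :=
    pullback.lift (pullback.fst f _) (pullback.snd f _ ≫ c)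
      (by rw [pullback.condition, aOf_comp, Category.assoc])
  have H := isPullback_lOf V U e ψ j β w hj w' m (pullback.lift_fst _ _ _) (pullback.lift_snd _ _ _)
  refine ⟨⟨ha', u', pullback.lift_fst _ _ _, pullback.lift_snd _ _ _, ?_⟩,
    MorphismProperty.of_isPullback (P := @IsClosedImmersion) H.flip hl⟩
  show (ξ.I.comap (pm c ξ.a)).comap u' = _
  rw [← Scheme.IdealSheafData.comap_comp,
    show u' ≫ pm c ξ.a = m ≫ u by apply pullback.hom_ext <;> simp [u', pm, m, hu1, hu2],
    Scheme.IdealSheafData.comap_comp, hu3]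
  exact ker_comap_of_isPullback _ _ _ _ H

omit [IsSeparated f] in
/-- `exists_data` in terms of `HasData`. -/
lemma exists_hasData (ξ : Fam f d (Spec (CommRingCat.of C))) {ψ : Γ(S, V.1) →+* C}
    (ha : ξ.a = aOf V ψ) (hU : InU f U.1 ξ) :
    ∃ (D : CommRingCat.{u}) (j : C →+* D) (β : Γ(X, U.1) →+* D)
      (w : β.comp (eta V U e) = j.comp ψ),
      HasData e ξ ψ j β w ∧ IsClosedImmersion (lOf V U e ψ j β w) ∧
      j.Finite ∧ j.Flat ∧ ∀ x, j.finrank x = d := by
  obtain ⟨D, j, β, w, u, h1, h2, hl, h3, h4⟩ := exists_data ψ ξ ha hU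
  exact ⟨D, j, β, w, ⟨ha, u, h1, h2, h3⟩, hl, h4⟩

lemma inU_famOf (P : Pt (eta V U e) b C) : InU f U.1 (famOf f e P) := by
  intro z hz
  have := isClosedImmersion_pt P
  obtain ⟨y, rfl⟩ : z ∈ Set.range (lOf V U e P.ψ P.j P.β P.w) := by
    rw [← (lOf V U e P.ψ P.j P.β P.w).isClosedEmbedding.isClosed_range.closure_eq,
      ← Scheme.Hom.support_ker]
    exact hz
  show pullback.fst f (aOf V P.ψ) (lOf V U e P.ψ P.j P.β P.w y) ∈ U.1
  rw [← Scheme.Hom.comp_apply, lOf_fst]
  exact U.2.range_fromSpec.le ⟨_, rfl⟩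

/-- A point in a chart has a neighbourhood in that chart. -/
theorem exists_nhd_affine (ξ : Fam f d (Spec (CommRingCat.of C))) {ψ : Γ(S, V.1) →+* C}
    (ha : ξ.a = aOf V ψ) (hU : InU f U.1 ξ) {K : Type u} [Field K] (φ : C →+* K)
    (P : Pt (eta V U e) b K) (hP : famOf f e P = mapFam f d (Spec.map (CommRingCat.ofHom φ)) ξ) :
    ∃ h : C, φ h ≠ 0 ∧ ∃ Q : Pt (eta V U e) b (Localization.Away h),
      famOf f e Q =
        mapFam f d (Spec.map (CommRingCat.ofHom (algebraMap C (Localization.Away h)))) ξ := by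
  classical
  obtain ⟨D, j, β, w, hD, hl, hfin, hfl, hrk⟩ := exists_hasData (e := e) ξ ha hU
  let := φ.toAlgebra
  let := j.toAlgebra
  have : Module.Finite C D := hfin
  have : Module.Flat C D := hfl
  have wgen : ∀ (C' : Type u) [CommRing C'] [Algebra C C'],
      ((Algebra.TensorProduct.includeRight (R := C) (A := C') (B := D)).toRingHom.comp β).comp
        (eta V U e) =
      (Algebra.TensorProduct.includeLeftRingHom (R := C) (A := C') (B := D)).comp
        ((algebraMap C C').comp ψ) := fun C' _ _ => by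
    ext r
    show (1 : C') ⊗ₜ[C] β (eta V U e r) = algebraMap C C' (ψ r) ⊗ₜ[C] (1 : D)
    rw [show β (eta V U e r) = j (ψ r) from RingHom.congr_fun w r,
      show j (ψ r) = ψ r • (1 : D) by rw [Algebra.smul_def, mul_one]; rfl,
      TensorProduct.tmul_smul, TensorProduct.smul_tmul', Algebra.smul_def, mul_one]
  obtain ⟨hK, hlK⟩ := hD.map (C' := K) rfl (wgen K)
  have := isClosedImmersion_pt P
  have hP' : HasData e (mapFam f d (Spec.map (CommRingCat.ofHom φ)) ξ) P.ψ P.j P.β P.w :=
    hP ▸ hasData_famOf P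
  obtain ⟨θ, hθj, hθβ, hθ⟩ := HasData.exists_hom hP' hK
  let N : Submodule C D := LinearMap.range (combL (C := C) b β)
  have : Subsingleton (K ⊗[C] (D ⧸ N)) := by
    refine subsingleton_of_forall_eq 0 fun z => ?_
    obtain ⟨z, rfl⟩ := LinearMap.lTensor_surjective K (Submodule.mkQ_surjective N) z
    obtain ⟨y, rfl⟩ := hθ z
    obtain ⟨v, rfl⟩ := P.bij.2 y
    have hN : ∀ i, N.mkQ (β (b i)) = 0 := fun i => (Submodule.Quotient.mk_eq_zero N).mpr
      ⟨Pi.single i 1, by simp [combL_apply, Pi.single_apply, ite_smul]⟩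
    simp only [comb, map_sum]
    refine Finset.sum_eq_zero fun i _ => ?_
    rw [map_mul, show θ (P.j (v i)) = v i ⊗ₜ[C] (1 : D) from RingHom.congr_fun hθj (v i),
      show θ (P.β (b i)) = (1 : K) ⊗ₜ[C] β (b i) from RingHom.congr_fun hθβ (b i),
      Algebra.TensorProduct.tmul_mul_tmul, mul_one, one_mul, LinearMap.lTensor_tmul, hN,
      tmul_zero]
  obtain ⟨h, hh, hann⟩ := exists_annihilator_of_subsingleton (C := C) (M := D ⧸ N) (K := K)
  refine ⟨h, hh, ?_⟩
  let Ch := Localization.Away h
  obtain ⟨hh', hlh⟩ := hD.map (C' := Ch) rfl (wgen Ch)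
  obtain ⟨hu, hhu⟩ : ∃ y : Ch, y * algebraMap C Ch h = 1 :=
    (IsLocalization.Away.algebraMap_isUnit h).exists_left_inv
  have hsurj : Function.Surjective (comb b
      (Algebra.TensorProduct.includeLeftRingHom (R := C) (A := Ch) (B := D))
      ((Algebra.TensorProduct.includeRight (R := C) (A := Ch) (B := D)).toRingHom.comp β)) := by
    refine comb_surjective_baseChange b β fun x => ?_
    obtain ⟨v, hv⟩ : h • x ∈ N := by
      rw [← Submodule.Quotient.mk_eq_zero N, Submodule.Quotient.mk_smul]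
      exact hann _
    refine ⟨fun i => hu * algebraMap C Ch (v i), ?_⟩
    rw [combL_apply] at hv
    calc ∑ i, (hu * algebraMap C Ch (v i)) ⊗ₜ[C] (1 : D) * ((1 : Ch) ⊗ₜ[C] β (b i))
        = hu ⊗ₜ[C] (∑ i, v i • β (b i)) := by
          rw [TensorProduct.tmul_sum]
          refine Finset.sum_congr rfl fun i _ => ?_
          rw [Algebra.TensorProduct.tmul_mul_tmul, mul_one, one_mul, TensorProduct.tmul_smul,
            TensorProduct.smul_tmul', Algebra.smul_def, mul_comm]
      _ = (1 : Ch) ⊗ₜ[C] x := by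
          rw [hv, TensorProduct.tmul_smul, TensorProduct.smul_tmul', Algebra.smul_def, mul_comm, hhu]
  have hbij : Function.Bijective (comb b
      (Algebra.TensorProduct.includeLeftRingHom (R := C) (A := Ch) (B := D))
      ((Algebra.TensorProduct.includeRight (R := C) (A := Ch) (B := D)).toRingHom.comp β)) :=
    bijective_of_rank (C := Ch) (M := Ch ⊗[C] D)
      (fun p => by rw [Module.rankAtStalk_baseChange]; exact hrk _)
      (combL (C := Ch) b
        ((Algebra.TensorProduct.includeRight (R := C) (A := Ch) (B := D)).toRingHom.comp β)) hsurj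
  exact ⟨⟨_, CommRingCat.of (Ch ⊗[C] D), _, _, wgen Ch, hbij⟩,
    HasData.eq_famOf (P := ⟨_, CommRingCat.of (Ch ⊗[C] D), _, _, wgen Ch, hbij⟩) hh'⟩

omit [IsSeparated f] in
/-- The image of the support of a family over a field has at most `d` points. -/
lemma finite_support (ξ : Fam f d (Spec (CommRingCat.of C))) (hC : IsField C) :
    (ξ.I.support : Set ↥(pullback f ξ.a)).Finite ∧ Nat.card (ξ.I.support : Set ↥(pullback f ξ.a)) ≤ d := by
  let := hC.toField
  obtain ⟨⟨hfin, hfl, -⟩, hrk⟩ := ξ.h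
  let g := ξ.I.subschemeι ≫ pullback.snd f ξ.a
  let Z := ξ.I.subscheme
  have : IsAffine Z := isAffine_of_isAffineHom g
  obtain ⟨φ, hφ⟩ : ∃ φ, Spec.map φ = Z.isoSpec.inv ≫ g := ⟨_, Spec.map_preimage _⟩
  have hφfin : IsFinite (Spec.map φ) := hφ ▸ (inferInstance : IsFinite (_ ≫ g))
  have hφfl : Flat (Spec.map φ) := hφ ▸ (inferInstance : Flat (_ ≫ g))
  have hf1 := (IsFinite.SpecMap_iff _).mp hφfin
  have x : PrimeSpectrum C := ⟨⊥, Ideal.isPrime_bot⟩
  have hr : φ.hom.finrank x = d := by
    have := congrFun (Scheme.Hom.finrank_SpecMap_eq_finrank hf1 (Flat.SpecMap_iff.mp hφfl)) x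
    rw [← this, hφ, Scheme.Hom.finrank_comp_left_of_isIso]
    exact hrk x
  let := φ.hom.toAlgebra
  have : Module.Finite C Γ(Z, ⊤) := hf1
  obtain ⟨h1, h2⟩ := natCard_primeSpectrum_le C Γ(Z, ⊤)
  have hd : Module.finrank C Γ(Z, ⊤) = d := by
    rw [← hr]
    exact (congrFun (Module.rankAtStalk_eq_finrank_of_free (R := C) (M := Γ(Z, ⊤))) x).symm
  let q : PrimeSpectrum Γ(Z, ⊤) → (ξ.I.support : Set ↥(pullback f ξ.a)) := fun p =>
    ⟨(Z.isoSpec.inv ≫ ξ.I.subschemeι) p, ξ.I.range_subschemeι.le ⟨_, rfl⟩⟩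
  have hq : Function.Surjective q := by
    rintro ⟨y, hy⟩
    obtain ⟨z, rfl⟩ := ξ.I.range_subschemeι.ge hy
    refine ⟨Z.isoSpec.hom z, Subtype.ext ?_⟩
    show ξ.I.subschemeι (Z.isoSpec.inv (Z.isoSpec.hom z)) = _
    rw [← Scheme.Hom.comp_apply Z.isoSpec.hom, Iso.hom_inv_id]
    rfl
  exact ⟨Set.finite_coe_iff.mp (Finite.of_surjective q hq),
    (Nat.card_le_card_of_surjective q hq).trans (h2.trans hd.le)⟩

/-- Any family over a field is in some chart. -/
theorem exists_chart (h : ∀ (s : S) (x : Fin d → X), (∀ i, f.base (x i) = s) →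
      ∃ U : X.Opens, IsAffineOpen U ∧ ∀ i, x i ∈ U)
    {K : Type u} [Field K] (ξ : Fam f d (Spec (CommRingCat.of K))) :
    ∃ (c : Chart f d) (P : Pt (eta c.V c.U c.e) c.b K), famOf f c.e P = ξ := by
  classical
  let t0 : PrimeSpectrum K := ⟨⊥, Ideal.isPrime_bot⟩
  let s := ξ.a t0
  let O : Set X := pullback.fst f ξ.a '' ξ.I.support
  obtain ⟨hfin, hcard⟩ := finite_support ξ (Field.toIsField K)
  have hOs : ∀ x ∈ O, f x = s := by
    rintro _ ⟨z, -, rfl⟩
    rw [← Scheme.Hom.comp_apply, pullback.condition, Scheme.Hom.comp_apply]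
    exact congrArg ξ.a (Subsingleton.elim (α := PrimeSpectrum K) _ _)
  obtain ⟨U0, hU0, hO⟩ : ∃ U0 : X.Opens, IsAffineOpen U0 ∧ O ⊆ U0 := by
    rcases O.eq_empty_or_nonempty with h0 | h0
    · exact ⟨⊥, isAffineOpen_bot X, by simp [h0]⟩
    have : Fintype O := (hfin.image _).fintype
    have : Nonempty O := h0.to_subtype
    have hc : Fintype.card O ≤ Fintype.card (Fin d) := by
      rw [Fintype.card_fin, ← Nat.card_eq_fintype_card]
      exact (Nat.card_image_le hfin).trans hcard
    obtain ⟨i⟩ := Function.Embedding.nonempty_of_card_le hc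
    let x : Fin d → X := fun k => (Function.invFun i k : O).1
    obtain ⟨U0, hU0, hx⟩ := h s x fun k => hOs _ (Function.invFun i k).2
    refine ⟨U0, hU0, fun y hy => ?_⟩
    have := hx (i ⟨y, hy⟩)
    rwa [show x (i ⟨y, hy⟩) = y from congrArg Subtype.val
      (Function.leftInverse_invFun i.injective _)] at this
  obtain ⟨V, hV, hsV, -⟩ := exists_isAffineOpen_mem_and_subset (TopologicalSpace.Opens.mem_top s)
  obtain ⟨g, hOg, hgV⟩ := GrpdLib.exists_basicOpen_of_finite hU0 (hfin.image _) (f ⁻¹ᵁ V) hO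
    (fun x hx => show f x ∈ V by rw [hOs x hx]; exact hsV)
  obtain ⟨ψ, ha⟩ := exists_aOf ⟨V, hV⟩ ξ.a (by
    rintro _ ⟨z, rfl⟩
    rw [Subsingleton.elim (α := PrimeSpectrum K) z t0]
    exact hsV)
  let U : X.affineOpens := ⟨X.basicOpen g, hU0.basicOpen g⟩
  obtain ⟨D, j, β, w, hD, hl, hfinD, hflD, hrk⟩ :=
    exists_hasData (U := U) (e := hgV) ξ ha fun z hz => hOg ⟨z, hz, rfl⟩
  let := j.toAlgebra
  have : Module.Finite K D := hfinD
  have hd : Module.finrank K D = d := by
    rw [← hrk t0]
    exact (congrFun (Module.rankAtStalk_eq_finrank_of_free (R := K) (M := D)) t0).symm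
  -- the image of `β` spans
  have hspan : Submodule.span K (Set.range β) = ⊤ := by
    let A' := Algebra.adjoin K (Set.range β)
    have hcl : (Submonoid.closure (Set.range β) : Set D) = Set.range β := by
      rw [show Set.range β = ((MonoidHom.mrange β.toMonoidHom : Submonoid D) : Set D) from rfl,
        Submonoid.closure_eq]
    suffices A' = ⊤ by
      have := congrArg Subalgebra.toSubmodule this
      rwa [Algebra.adjoin_eq_span, hcl, Algebra.top_toSubmodule] at this
    let β' : Γ(X, U.1) →+* A' :=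
      β.codRestrict A'.toSubring fun x => Algebra.subset_adjoin ⟨x, rfl⟩
    let j' : K →+* A' := algebraMap K A'
    have w' : β'.comp (eta ⟨V, hV⟩ U hgV) = j'.comp ψ :=
      RingHom.ext fun r => Subtype.ext (RingHom.congr_fun w r)
    let t := Spec.map (CommRingCat.ofHom (algebraMap A' D))
    have ht : t ≫ lOf ⟨V, hV⟩ U hgV ψ j' β' w' = lOf ⟨V, hV⟩ U hgV ψ j β w := by
      apply pullback.hom_ext
      · rw [Category.assoc, lOf_fst, lOf_fst, gOf, gOf, ← Spec.map_comp_assoc]
        rfl
      · rw [Category.assoc, lOf_snd, lOf_snd, ← Spec.map_comp]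
        rfl
    have : IsClosedImmersion (t ≫ lOf ⟨V, hV⟩ U hgV ψ j' β' w') := ht ▸ hl
    have : IsClosedImmersion t := .of_comp t (lOf ⟨V, hV⟩ U hgV ψ j' β' w')
    have hs := (IsClosedImmersion.isAffine_surjective_of_isAffine t).2
    rw [Algebra.eq_top_iff]
    intro y
    obtain ⟨z, hz⟩ := hs ((Scheme.ΓSpecIso (CommRingCat.of D)).inv y)
    have := congr((Scheme.ΓSpecIso (CommRingCat.of D)).hom $hz)
    rw [← CommRingCat.comp_apply t.appTop, Scheme.ΓSpecIso_naturality,
      CommRingCat.hom_inv_apply] at this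
    exact this ▸ ((Scheme.ΓSpecIso (CommRingCat.of A')).hom z).2
  obtain ⟨v, hv, hv', hli⟩ : ∃ v : Fin d → D, (∀ i, v i ∈ Set.range β) ∧
      Submodule.span K (Set.range v) = ⊤ ∧ LinearIndependent K v := by
    obtain ⟨v, h1, h2, h3⟩ := Submodule.exists_fun_fin_finrank_span_eq K (Set.range β)
    have e1 : d = Module.finrank K (Submodule.span K (Set.range β)) := by
      rw [hspan, finrank_top, hd]
    refine ⟨v ∘ Fin.cast e1, fun i => h1 _, ?_, h3.comp _ (Fin.cast_injective _)⟩
    rw [Set.range_comp, Function.Surjective.range_eq (f := Fin.cast e1) fun i => ⟨Fin.cast e1.symm i, rfl⟩, Set.image_univ, h2, hspan]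
  choose b hb using hv
  obtain rfl : v = fun i => β (b i) := funext fun i => (hb i).symm
  have hbij : Function.Bijective (comb b j β) := by
    refine ⟨fun a a' haa => funext fun i => ?_, fun y => ?_⟩
    · have h1 : combL (C := K) b β a = combL (C := K) b β a' := haa
      rw [combL_apply, combL_apply, ← sub_eq_zero, ← Finset.sum_sub_distrib] at h1
      simp only [← sub_smul] at h1
      exact sub_eq_zero.mp (Fintype.linearIndependent_iff.mp hli _ h1 i)
    · obtain ⟨a, ha⟩ := (Submodule.mem_span_range_iff_exists_fun K).mp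
        (hv'.ge (Submodule.mem_top (x := y)))
      exact ⟨a, (combL_apply b β a).trans ha⟩
  exact ⟨⟨⟨V, hV⟩, U, hgV, b⟩, ⟨ψ, D, j, β, w, hbij⟩,
    HasData.eq_famOf (P := ⟨ψ, D, j, β, w, hbij⟩) hD⟩

end Groth.Agent.PicFRel.HilbChart
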