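import Mathlib.RingTheory.TensorProduct.Free
import Mathlib.RingTheory.TensorProduct.Maps
import Mathlib.LinearAlgebra.TensorProduct.Tower
import Mathlib.Algebra.Category.Ring.Basic
import Mathlib.Algebra.MvPolynomial.Eval
import Mathlib.RingTheory.Ideal.Quotient.Operations
import Mathlib.LinearAlgebra.StdBasis
import Mathlib.LinearAlgebra.Pi

/-!
# The ring classifying algebras with a prescribed basis

For an `R`-algebra `B` and `b : Fin d → B`, a point over a ring `C` is a `C`-algebra `D` with a
compatible map from `B` such that the images of `b` form a basis. They are classified by a ring.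
-/

set_option autoImplicit false

universe u

open TensorProduct

namespace Groth.Agent.PicFRel.HilbRing

variable {R B : Type u} [CommRing R] [CommRing B] (η : R →+* B) {d : ℕ} (b : Fin d → B)

/-- Linear combination of the images of `b`. -/
def comb {C D : Type u} [CommRing C] [CommRing D] (j : C →+* D) (β : B →+* D) (v : Fin d → C) : D :=
  ∑ i, j (v i) * β (b i)

/-- An algebra over `C` with a map from `B` under which `b` becomes a basis. -/
structure Pt (C : Type u) [CommRing C] where
  /-- structure map -/
  ψ : R →+* C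
  /-- the algebra -/
  D : CommRingCat.{u}
  /-- structure map -/
  j : C →+* D
  /-- the map from `B` -/
  β : B →+* D
  w : β.comp η = j.comp ψ
  bij : Function.Bijective (comb b j β)

variable {η b}

namespace Pt

variable {C : Type u} [CommRing C] (P : Pt η b C)

/-- Coordinates of the image of an element of `B`. -/
noncomputable def coord (x : B) : Fin d → C := (Equiv.ofBijective _ P.bij).symm (P.β x)

lemma comb_coord (x : B) : comb b P.j P.β (P.coord x) = P.β x :=
  Equiv.ofBijective_apply_symm_apply _ P.bij _

lemma coord_eq {x : B} {v : Fin d → C} (h : comb b P.j P.β v = P.β x) : P.coord x = v :=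
  P.bij.1 ((P.comb_coord x).trans h.symm)

lemma coord_congr (P' : Pt η b C) (θ : P.D →+* P'.D) (hj : θ.comp P.j = P'.j)
    (hβ : θ.comp P.β = P'.β) : P'.coord = P.coord := by
  funext x
  refine P'.coord_eq ?_
  have := congrArg θ (P.comb_coord x)
  simp only [comb, map_sum, map_mul] at this ⊢
  simpa [← hj, ← hβ] using this

end Pt

/-- The relations between coordinates. -/
inductive Rel (η : R →+* B) (b : Fin d → B) : MvPolynomial (B × Fin d) R → Prop
  | add (x y : B) (i : Fin d) :
      Rel η b (MvPolynomial.X (x + y, i) - (MvPolynomial.X (x, i) + MvPolynomial.X (y, i)))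
  | smul (r : R) (x : B) (i : Fin d) :
      Rel η b (MvPolynomial.X (η r * x, i) - MvPolynomial.C r * MvPolynomial.X (x, i))
  | basis (j i : Fin d) :
      Rel η b (MvPolynomial.X (b j, i) - (if i = j then 1 else 0))
  | mul (x y : B) (i : Fin d) :
      Rel η b (MvPolynomial.X (x * y, i) -
        ∑ j, ∑ k, MvPolynomial.X (x, j) * MvPolynomial.X (y, k) * MvPolynomial.X (b j * b k, i))

variable (η b)

/-- The classifying ring. -/
def A : Type u := MvPolynomial (B × Fin d) R ⧸ Ideal.span {p | Rel η b p}

noncomputable instance : CommRing (A η b) :=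
  inferInstanceAs (CommRing (MvPolynomial (B × Fin d) R ⧸ Ideal.span {p | Rel η b p}))

noncomputable instance : Algebra R (A η b) :=
  inferInstanceAs (Algebra R (MvPolynomial (B × Fin d) R ⧸ Ideal.span {p | Rel η b p}))

/-- The projection to the classifying ring. -/
noncomputable def proj : MvPolynomial (B × Fin d) R →+* A η b := Ideal.Quotient.mk _

/-- Universal coordinates. -/
noncomputable def X (x : B) (i : Fin d) : A η b := proj η b (MvPolynomial.X (x, i))

lemma rel_eq_zero {p : MvPolynomial (B × Fin d) R} (h : Rel η b p) :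
    proj η b p = 0 :=
  Ideal.Quotient.eq_zero_iff_mem.2 (Ideal.subset_span h)

lemma X_add (x y : B) (i : Fin d) : X η b (x + y) i = X η b x i + X η b y i := by
  have := rel_eq_zero η b (Rel.add x y i)
  rwa [map_sub, map_add, sub_eq_zero] at this

lemma X_smul (r : R) (x : B) (i : Fin d) :
    X η b (η r * x) i = algebraMap R (A η b) r * X η b x i := by
  have := rel_eq_zero η b (Rel.smul r x i)
  rwa [map_sub, map_mul, sub_eq_zero] at this

lemma X_basis (j i : Fin d) : X η b (b j) i = if i = j then 1 else 0 := by
  have := rel_eq_zero η b (Rel.basis (η := η) (b := b) j i)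
  rw [map_sub, sub_eq_zero] at this
  unfold X
  rw [this]
  split_ifs <;> simp

lemma X_mul (x y : B) (i : Fin d) : X η b (x * y) i =
    ∑ j, ∑ k, X η b x j * X η b y k * X η b (b j * b k) i := by
  have := rel_eq_zero η b (Rel.mul x y i)
  rw [map_sub, sub_eq_zero, map_sum] at this
  unfold X
  rw [this]
  exact Finset.sum_congr rfl fun j _ => by simp only [map_sum, map_mul]

lemma hom_ext {C : Type u} [CommRing C] {φ φ' : A η b →+* C}
    (h : φ.comp (algebraMap R (A η b)) = φ'.comp (algebraMap R (A η b)))
    (hX : ∀ x i, φ (X η b x i) = φ' (X η b x i)) : φ = φ' :=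
  Ideal.Quotient.ringHom_ext (MvPolynomial.ringHom_ext (fun r => RingHom.congr_fun h r)
    (fun p => hX p.1 p.2))

variable {η b}

namespace Pt

variable {C : Type u} [CommRing C] (P : Pt η b C)

lemma comb_add (v v' : Fin d → C) :
    comb b P.j P.β (v + v') = comb b P.j P.β v + comb b P.j P.β v' := by
  simp only [comb, Pi.add_apply, map_add, add_mul, Finset.sum_add_distrib]

/-- The classifying map. -/
noncomputable def classify : A η b →+* C :=
  Ideal.Quotient.lift _ (MvPolynomial.eval₂Hom P.ψ fun p => P.coord p.1 p.2) <| by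
    classical
    intro p hp
    refine (Ideal.span_le.2 ?_ :
      Ideal.span {p | Rel η b p} ≤ RingHom.ker (MvPolynomial.eval₂Hom P.ψ fun p => P.coord p.1 p.2)) hp
    rintro q (⟨x, y, i⟩ | ⟨r, x, i⟩ | ⟨j, i⟩ | ⟨x, y, i⟩) <;>
      simp only [SetLike.mem_coe, RingHom.mem_ker, map_sub, sub_eq_zero]
    · simp only [map_add, MvPolynomial.eval₂Hom_X']
      exact congrFun (P.coord_eq (v := P.coord x + P.coord y)
        (by rw [comb_add, comb_coord, comb_coord, map_add])) i
    · simp only [map_mul, MvPolynomial.eval₂Hom_X', MvPolynomial.eval₂Hom_C]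
      refine congrFun (P.coord_eq (v := fun i => P.ψ r * P.coord x i) ?_) i
      rw [map_mul, ← P.comb_coord x, show P.β (η r) = P.j (P.ψ r) from RingHom.congr_fun P.w r]
      simp only [comb, map_mul, Finset.mul_sum, mul_assoc]
    · simp only [MvPolynomial.eval₂Hom_X']
      rw [P.coord_eq (v := fun i => if i = j then 1 else 0) ?_]
      · split_ifs <;> simp_all
      · simp [comb, apply_ite P.j, ite_mul]
    · simp only [map_sum, map_mul, MvPolynomial.eval₂Hom_X']
      refine congrFun (P.coord_eq (v := fun i =>
        ∑ j, ∑ k, P.coord x j * P.coord y k * P.coord (b j * b k) i) ?_) i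
      have e : ∀ j k, P.β (b j) * P.β (b k) = comb b P.j P.β (P.coord (b j * b k)) := fun j k => by
        rw [P.comb_coord, map_mul]
      have e2 : P.β (x * y) =
          ∑ j, ∑ k, P.j (P.coord x j * P.coord y k) * comb b P.j P.β (P.coord (b j * b k)) := by
        rw [map_mul, ← P.comb_coord x, ← P.comb_coord y]
        simp only [← e]
        simp only [comb, Finset.sum_mul_sum]
        refine Finset.sum_congr rfl fun j _ => Finset.sum_congr rfl fun k _ => ?_
        rw [map_mul]; ring
      rw [e2]
      simp only [comb, map_sum, Finset.sum_mul, Finset.mul_sum]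
      rw [Finset.sum_comm]
      refine Finset.sum_congr rfl fun j _ => ?_
      rw [Finset.sum_comm]
      refine Finset.sum_congr rfl fun k _ => Finset.sum_congr rfl fun i _ => ?_
      simp only [map_mul]; ring

lemma classify_X (x : B) (i : Fin d) : P.classify (X η b x i) = P.coord x i := by
  have h : ∀ p, P.classify (proj η b p) = MvPolynomial.eval₂Hom P.ψ (fun p => P.coord p.1 p.2) p := by
    intro (p : MvPolynomial (B × Fin d) R)
    unfold classify proj
    rfl
  rw [X, h, MvPolynomial.eval₂Hom_X']

lemma classify_comp : P.classify.comp (algebraMap R (A η b)) = P.ψ := by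
  ext r
  show MvPolynomial.eval₂Hom P.ψ _ (MvPolynomial.C r) = P.ψ r
  simp

lemma bij_map {C' : Type u} [CommRing C'] [Algebra C C'] [Algebra C P.D]
    (hj : algebraMap C P.D = P.j) :
    Function.Bijective (comb b (Algebra.TensorProduct.includeLeftRingHom (R := C) (A := C') (B := P.D))
      ((Algebra.TensorProduct.includeRight (R := C) (A := C') (B := P.D)).toRingHom.comp P.β)) := by
  classical
  let e : (Fin d → C) ≃ₗ[C] P.D := LinearEquiv.ofBijective
    { toFun := comb b P.j P.β
      map_add' := P.comb_add
      map_smul' := fun c v => by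
        simp only [comb, Pi.smul_apply, smul_eq_mul, map_mul, RingHom.id_apply, mul_assoc]
        rw [Algebra.smul_def, hj, Finset.mul_sum] } P.bij
  let bas : Module.Basis (Fin d) C' (C' ⊗[C] P.D) := (Module.Basis.ofEquivFun e.symm).baseChange C'
  convert bas.equivFun.symm.bijective using 1
  funext v
  rw [Module.Basis.equivFun_symm_apply]
  refine Finset.sum_congr rfl fun i _ => ?_
  have hi : bas i = (1 : C') ⊗ₜ[C] P.β (b i) := by
    rw [show bas i = (1 : C') ⊗ₜ[C] (Module.Basis.ofEquivFun e.symm) i from
      Module.Basis.baseChange_apply _ _ _]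
    congr 1
    rw [Module.Basis.ofEquivFun, Module.Basis.coe_ofRepr]
    simp [e, comb, Pi.single_apply, apply_ite P.j, ite_mul]
  rw [hi]
  show (v i ⊗ₜ[C] (1 : P.D)) * ((1 : C') ⊗ₜ[C] P.β (b i)) = v i • ((1 : C') ⊗ₜ[C] P.β (b i))
  rw [Algebra.TensorProduct.tmul_mul_tmul, TensorProduct.smul_tmul', mul_one, one_mul,
    smul_eq_mul, mul_one]

lemma w_map {C' : Type u} [CommRing C'] [Algebra C C'] [Algebra C P.D]
    (hj : algebraMap C P.D = P.j) :
    ((Algebra.TensorProduct.includeRight (R := C) (A := C') (B := P.D)).toRingHom.comp P.β).comp η =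
      (Algebra.TensorProduct.includeLeftRingHom (R := C) (A := C') (B := P.D)).comp
        ((algebraMap C C').comp P.ψ) := by
  ext r
  show (1 : C') ⊗ₜ[C] P.β (η r) = algebraMap C C' (P.ψ r) ⊗ₜ[C] (1 : P.D)
  rw [show P.β (η r) = P.j (P.ψ r) from RingHom.congr_fun P.w r,
    show P.j (P.ψ r) = P.ψ r • (1 : P.D) by rw [Algebra.smul_def, mul_one, hj],
    TensorProduct.tmul_smul, TensorProduct.smul_tmul', Algebra.smul_def, mul_one]

/-- Base change. -/
noncomputable def map {C' : Type u} [CommRing C'] (χ : C →+* C') : Pt η b C' :=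
  letI := χ.toAlgebra
  letI := P.j.toAlgebra
  { ψ := χ.comp P.ψ
    D := CommRingCat.of (C' ⊗[C] P.D)
    j := Algebra.TensorProduct.includeLeftRingHom
    β := (Algebra.TensorProduct.includeRight (R := C) (A := C') (B := P.D)).toRingHom.comp P.β
    w := P.w_map (C' := C') rfl
    bij := P.bij_map (C' := C') rfl }

lemma map_coord {C' : Type u} [CommRing C'] (χ : C →+* C') (x : B) :
    (P.map χ).coord x = χ ∘ P.coord x := by
  letI := χ.toAlgebra
  letI := P.j.toAlgebra
  refine coord_eq _ ?_
  show ∑ i, (χ (P.coord x i) ⊗ₜ[C] (1 : P.D)) * ((1 : C') ⊗ₜ[C] P.β (b i)) = (1 : C') ⊗ₜ[C] P.β x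
  rw [← P.comb_coord x, comb, TensorProduct.tmul_sum]
  refine Finset.sum_congr rfl fun i _ => ?_
  rw [Algebra.TensorProduct.tmul_mul_tmul, mul_one, one_mul,
    show P.j (P.coord x i) * P.β (b i) = P.coord x i • P.β (b i) from (Algebra.smul_def _ _).symm,
    TensorProduct.tmul_smul, TensorProduct.smul_tmul', Algebra.smul_def, mul_one]
  rfl

lemma classify_map {C' : Type u} [CommRing C'] (χ : C →+* C') :
    (P.map χ).classify = χ.comp P.classify := by
  refine hom_ext η b ?_ fun x i => ?_
  · rw [classify_comp, RingHom.comp_assoc, classify_comp]; rfl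
  · rw [classify_X, map_coord, RingHom.comp_apply, classify_X]; rfl

lemma classify_congr (P' : Pt η b C) (hψ : P.ψ = P'.ψ) (θ : P.D →+* P'.D)
    (hj : θ.comp P.j = P'.j) (hβ : θ.comp P.β = P'.β) : P.classify = P'.classify :=
  hom_ext η b (by rw [classify_comp, classify_comp, hψ])
    fun x i => by rw [classify_X, classify_X, P.coord_congr P' θ hj hβ]

end Pt

section univ

variable (η b)

theorem exists_univ : ∃ U : Pt η b (A η b), U.classify = RingHom.id (A η b) := by
  classical
  letI : Algebra R B := η.toAlgebra
  let xl : B →ₗ[R] (Fin d → A η b) :=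
    { toFun := fun x i => X η b x i
      map_add' := fun x y => funext (X_add η b x y)
      map_smul' := fun r x => funext fun i => by
        rw [RingHom.id_apply, Pi.smul_apply, Algebra.smul_def r (X η b x i)]
        exact X_smul η b r x i }
  let Φ : A η b ⊗[R] B →ₗ[A η b] (Fin d → A η b) := xl.liftBaseChange (A η b)
  have hΦ : ∀ a x, Φ (a ⊗ₜ x) = fun i => a * X η b x i := fun a x => by
    funext i
    simp [Φ, xl]
  let μ : (Fin d → A η b) → (Fin d → A η b) → (Fin d → A η b) := fun u v i =>
    ∑ j, ∑ k, u j * v k * X η b (b j * b k) i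
  have μ_add : ∀ u v v', μ u (v + v') = μ u v + μ u v' := fun u v v' => by
    funext i
    simp only [μ, Pi.add_apply, mul_add, add_mul, Finset.sum_add_distrib]
  have hmul : ∀ y z, Φ (y * z) = μ (Φ y) (Φ z) := by
    intro y z
    induction z using TensorProduct.induction_on with
    | zero => funext i; simp [μ]
    | add z z' hz hz' => rw [mul_add, map_add, map_add, hz, hz', μ_add]
    | tmul a' x' =>
      induction y using TensorProduct.induction_on with
      | zero => funext i; simp [μ]
      | add y y' hy hy' =>
        rw [add_mul, map_add, map_add, hy, hy']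
        funext i
        simp only [μ, Pi.add_apply, add_mul, Finset.sum_add_distrib]
      | tmul a x =>
        rw [Algebra.TensorProduct.tmul_mul_tmul, hΦ, hΦ, hΦ]
        funext i
        simp only [μ]
        rw [X_mul, Finset.mul_sum]
        refine Finset.sum_congr rfl fun j _ => ?_
        rw [Finset.mul_sum]
        exact Finset.sum_congr rfl fun k _ => by ring
  let J : Ideal (A η b ⊗[R] B) :=
    { carrier := {z | Φ z = 0}
      zero_mem' := map_zero Φ
      add_mem' := fun {x y} hx hy => by
        show Φ (x + y) = 0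
        rw [map_add, show Φ x = 0 from hx, show Φ y = 0 from hy, add_zero]
      smul_mem' := fun y z hz => by
        show Φ (y * z) = 0
        rw [hmul, show Φ z = 0 from hz]
        funext i; simp [μ] }
  have hJ : ∀ z, z ∈ J ↔ Φ z = 0 := fun z => Iff.rfl
  let j : A η b →+* (A η b ⊗[R] B) ⧸ J :=
    (Ideal.Quotient.mk J).comp Algebra.TensorProduct.includeLeftRingHom
  let β : B →+* (A η b ⊗[R] B) ⧸ J :=
    (Ideal.Quotient.mk J).comp (Algebra.TensorProduct.includeRight (R := R) (A := A η b)).toRingHom
  have hcomb : ∀ v, comb b j β v = Ideal.Quotient.mk J (∑ i, v i ⊗ₜ[R] b i) := fun v => by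
    simp [comb, j, β, ← map_mul]
  have hΦc : ∀ v : Fin d → A η b, Φ (∑ i, v i ⊗ₜ[R] b i) = v := fun v => by
    rw [map_sum]
    funext k
    simp [hΦ, Finset.sum_apply, X_basis]
  have hw : β.comp η = j.comp (algebraMap R (A η b)) := by
    ext r
    simp only [β, j, RingHom.coe_comp, Function.comp_apply]
    congr 1
    rw [AlgHom.toRingHom_eq_coe, RingHom.coe_coe, ← RingHom.algebraMap_toAlgebra η, AlgHom.commutes,
      Algebra.TensorProduct.algebraMap_apply]
    rfl
  let U : Pt η b (A η b) :=
    { ψ := algebraMap R (A η b)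
      D := CommRingCat.of ((A η b ⊗[R] B) ⧸ J)
      j := j
      β := β
      w := hw
      bij := by
        constructor
        · intro v v' h
          rw [hcomb, hcomb, Ideal.Quotient.eq, hJ, map_sub, hΦc, hΦc, sub_eq_zero] at h
          exact h
        · intro y
          obtain ⟨z, rfl⟩ := Ideal.Quotient.mk_surjective y
          refine ⟨Φ z, ?_⟩
          rw [hcomb]
          exact Ideal.Quotient.eq.2 ((hJ _).2 (by rw [map_sub, hΦc, sub_self])) }
  refine ⟨U, hom_ext η b ?_ fun x i => ?_⟩
  · rw [Pt.classify_comp, RingHom.id_comp]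
  · rw [Pt.classify_X, RingHom.id_apply]
    refine congrFun (U.coord_eq (v := fun i => X η b x i) ?_) i
    show comb b j β _ = β x
    rw [hcomb]
    refine Ideal.Quotient.eq.2 ((hJ _).2 ?_)
    rw [map_sub, hΦc, sub_eq_zero, AlgHom.toRingHom_eq_coe, RingHom.coe_coe,
      Algebra.TensorProduct.includeRight_apply, hΦ]
    simp

end univ

end Groth.Agent.PicFRel.HilbRing
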