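import Groth.Agent.PicFRel.HilbAdd
import Groth.Agent.ModPairLib.Basic
import Groth.Agent.ModPairLib.Quot
import Groth.Agent.BlowUpLib.Local
import Groth.Agent.BlowUpLib.Glue
import Groth.Agent.SGA1Q.Orbits
import Groth.Agent.SGA1Q.Properties
import Mathlib.AlgebraicGeometry.Sites.Fpqc

/-!
# The symmetric power of a smooth curve is the Hilbert scheme of points
-/

set_option autoImplicit false
set_option linter.style.haveILetI false
set_option backward.isDefEq.respectTransparency false
set_option backward.isDefEq.respectTransparency.types false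

universe u

open CategoryTheory CategoryTheory.Limits AlgebraicGeometry

namespace Groth.Agent.PicFRel.HilbSym

open HilbDLib HilbAdd

variable {X S : Scheme.{u}} (f : X ⟶ S)

/-- The fibre power over the base. -/
noncomputable abbrev PO (n : ℕ) : Over S := Over.mk (WidePullback.base fun _ : Fin n => f)

/-- The projections of the fibre power. -/
noncomputable def pt {n : ℕ} (i : Fin n) : PO f n ⟶ Over.mk f :=
  Over.homMk (WidePullback.π (fun _ : Fin n => f) i) (WidePullback.π_arrow (fun _ : Fin n => f) i)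

/-- The tautological divisor on the fibre power. -/
noncomputable abbrev univDiv (n : ℕ) : (PicF.XT f (PO f n)).IdealSheafData :=
  sumGraphs f (PO f n) (pt f)

/-- Permutations over the base. -/
noncomputable def permO {n : ℕ} (σ : Equiv.Perm (Fin n)) : PO f n ⟶ PO f n :=
  Over.homMk (SymProd.permHom f n σ) (SymProd.permHom_base f n σ)

lemma pull_secGraph' [IsSeparated f] {T T' : Over S} (g : T' ⟶ T) (x : T ⟶ Over.mk f) :
    HilbD.pull f g (HilbD.secGraph f T x.left (Over.w x)) =
      HilbD.secGraph f T' (g ≫ x).left (Over.w (g ≫ x)) :=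
  (pull_secGraph f g _ _).trans rfl

lemma sec_comp {T T' : Over S} (a : T' ⟶ T) (x : T ⟶ Over.mk f) :
    sec f T' (a ≫ x).left (Over.w (a ≫ x)) ≫ PicF.XTmap f a =
      a.left ≫ sec f T x.left (Over.w x) := by
  apply pullback.hom_ext
  · simp only [Category.assoc, show PicF.XTmap f a ≫ pullback.fst f T.hom =
      pullback.fst f T'.hom ≫ 𝟙 X from pullback.lift_fst _ _ _, Category.comp_id, sec_fst]
    rfl
  · simp only [Category.assoc, show PicF.XTmap f a ≫ pullback.snd f T.hom =
      PicF.XTproj f T' ≫ a.left from pullback.lift_snd _ _ _]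
    rw [← Category.assoc, sec_proj]
    exact (Category.id_comp _).trans ((Category.comp_id _).symm.trans
      (congrArg (a.left ≫ ·) (sec_proj f T x.left (Over.w x)).symm))

section smoothproper

lemma base_succ (n : ℕ) : (WidePullback.base fun _ : Fin (n + 1) => f) =
    ZBSym.toSucc f n ≫ pullback.snd f (WidePullback.base fun _ : Fin n => f) ≫
      WidePullback.base fun _ : Fin n => f := by
  rw [ZBSym.toSucc_snd_assoc, ZBSym.fibTail_base]

lemma property_base (P : MorphismProperty Scheme.{u}) [P.IsStableUnderBaseChange]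
    [P.IsStableUnderComposition] [P.ContainsIdentities] [P.RespectsIso] (hf : P f) :
    ∀ n : ℕ, P (WidePullback.base fun _ : Fin n => f)
  | 0 => by
    have := ZBSym.isIso_base_zero f
    exact MorphismProperty.of_isIso P _
  | n + 1 => by
    rw [base_succ f n]
    have : IsIso (ZBSym.toSucc f n) := (inferInstance : IsIso (ZBSym.fibPowSucc f n).hom)
    exact P.comp_mem _ _ (MorphismProperty.of_isIso P _)
      (P.comp_mem _ _ (P.pullback_snd _ _ hf) (property_base P hf n))

end smoothproper

variable [IsSeparated f] [SmoothOfRelativeDimension 1 f]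

lemma exists_classify {n : ℕ} (H : Over S) (Z : HilbD.Obj f n H) (hZ : HilbD.IsUniversal f n H Z) :
    ∃ π : PO f n ⟶ H, HilbD.pull f π Z.1 = univDiv f n := by
  obtain ⟨π, h, -⟩ := hZ (PO f n) ⟨_, deg_sumGraphs f (PO f n) (pt f)⟩
  exact ⟨π, h⟩

lemma permO_classify {n : ℕ} {H : Over S} {Z : HilbD.Obj f n H} (hZ : HilbD.IsUniversal f n H Z)
    (π : PO f n ⟶ H) (hπ : HilbD.pull f π Z.1 = univDiv f n) (σ : Equiv.Perm (Fin n)) :
    SymProd.permHom f n σ ≫ π.left = π.left := by
  have : permO f σ ≫ π = π := by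
    refine (hZ (PO f n) ⟨_, deg_sumGraphs f (PO f n) (pt f)⟩).unique ?_ hπ
    show HilbD.pull f (permO f σ ≫ π) Z.1 = univDiv f n
    rw [← pull_pull, hπ, pull_sumGraphs]
    have e : (fun i => permO f σ ≫ pt f i) = fun i => pt f (σ.symm i) := funext fun i =>
      Over.OverMorphism.ext (SymProd.permHom_π f n σ i)
    rw [e]
    exact sumGraphs_perm f (PO f n) σ.symm (pt f)
  exact congrArg CommaMorphism.left this

/-- The classifying map of the tautological divisor is finite locally free of degree `n!`. -/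
theorem deg_classify (hrep : ∀ e : ℕ, HilbD.Representable f e) :
    ∀ (n : ℕ) (H : Over S) (Z : HilbD.Obj f n H) (_ : HilbD.IsUniversal f n H Z)
      (π : PO f n ⟶ H) (_ : HilbD.pull f π Z.1 = univDiv f n),
      Mor2.IsFinLocFreeOfDeg n.factorial π.left := by
  intro n
  induction n with
  | zero =>
    intro H Z hZ π _
    have hsub : ∀ T : Over S, ∀ Z' Z'' : HilbD.Obj f 0 T, Z' = Z'' := fun T Z' Z'' => Subtype.ext <| by
      have := smooth_proj f T
      rw [CurveDiv.eq_top_of_deg_zero (PicF.XTproj f T) Z'.2,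
        CurveDiv.eq_top_of_deg_zero (PicF.XTproj f T) Z''.2]
    have hH : ∀ g g' : H ⟶ H, g = g' := fun g g' =>
      (hZ H Z).unique (congrArg Subtype.val (hsub H ⟨_, isFinLocFreeOfDeg_pull f g Z.1 Z.2⟩ Z))
        (congrArg Subtype.val (hsub H ⟨_, isFinLocFreeOfDeg_pull f g' Z.1 Z.2⟩ Z))
    have := ZBSym.isIso_base_zero f
    have : IsIso (PO f 0).hom := ZBSym.isIso_base_zero f
    let r : H ⟶ PO f 0 := Over.homMk (H.hom ≫ inv (WidePullback.base fun _ : Fin 0 => f)) (by simp)
    have h1 : π ≫ r = 𝟙 _ := Over.OverMorphism.ext <| by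
      show π.left ≫ H.hom ≫ inv _ = 𝟙 _
      rw [reassoc_of% Over.w π]; exact IsIso.hom_inv_id _
    have : IsIso π := ⟨r, h1, hH _ _⟩
    have : IsIso π.left := inferInstanceAs (IsIso ((Over.forget S).map π))
    exact ⟨⟨inferInstance, inferInstance, inferInstance⟩,
      fun s => by rw [Scheme.Hom.finrank_eq_one_of_isIso]; rfl⟩
  | succ n ih =>
    intro H' Z' hZ' π hπ
    obtain ⟨H, Z, hZ⟩ := hrep n
    obtain ⟨π₀, hπ₀⟩ := exists_classify f H Z hZ
    have hd := ih H Z hZ π₀ hπ₀
    let TO : Over S := Over.mk (pullback.fst H.hom f ≫ H.hom)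
    let p : TO ⟶ H := Over.homMk (pullback.fst H.hom f) rfl
    obtain ⟨m, hm, -⟩ := hZ' TO ⟨_, deg_mul f _ _ (isFinLocFreeOfDeg_pull f p Z.1 Z.2)
      (deg_secGraph f TO (pullback.snd H.hom f) pullback.condition.symm)⟩
    change HilbD.pull f m Z'.1 = _ at hm
    have hmd := addPoint_deg f n H Z hZ H' Z' hZ' m hm
    let c : SymProd.fibPow f (n + 1) ⟶ pullback H.hom f :=
      pullback.lift (ZBSym.fibTail f n ≫ π₀.left) (WidePullback.π (fun _ : Fin (n + 1) => f) 0) (by
        rw [Category.assoc, Over.w π₀]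
        exact (ZBSym.fibTail_base f n).trans (WidePullback.π_arrow (fun _ : Fin (n + 1) => f) 0).symm)
    have hsucc : IsPullback (WidePullback.π (fun _ : Fin (n + 1) => f) 0) (ZBSym.fibTail f n) f
        (WidePullback.base fun _ : Fin n => f) :=
      (IsPullback.of_hasPullback f _).of_iso (ZBSym.fibPowSucc f n).symm (Iso.refl _) (Iso.refl _)
        (Iso.refl _) (by simp [ZBSym.fibPowSucc]) (by
          simp only [ZBSym.fibPowSucc, Iso.symm_hom, Iso.refl_hom, Category.comp_id]
          rw [← ZBSym.toSucc_snd, ← Category.assoc, ZBSym.ofSucc_toSucc, Category.id_comp]) (by simp)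
        (by simp)
    have hc : IsPullback c (ZBSym.fibTail f n) (pullback.fst H.hom f) π₀.left := by
      refine IsPullback.of_right ?_ (pullback.lift_fst _ _ _) (IsPullback.of_hasPullback H.hom f).flip
      rw [pullback.lift_snd, Over.w π₀]
      exact hsucc
    obtain ⟨⟨a1, a2, a3⟩, a4⟩ := hd
    have c1 : IsFinite c := MorphismProperty.of_isPullback (P := @IsFinite) hc.flip a1
    have c2 : Flat c := MorphismProperty.of_isPullback (P := @Flat) hc.flip a2
    have c3 : LocallyOfFinitePresentation c :=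
      MorphismProperty.of_isPullback (P := @LocallyOfFinitePresentation) hc.flip a3
    let cO : PO f (n + 1) ⟶ TO := Over.homMk c (by
      show c ≫ pullback.fst H.hom f ≫ H.hom = _
      rw [pullback.lift_fst_assoc, Category.assoc, Over.w π₀]
      exact ZBSym.fibTail_base f n)
    let tO : PO f (n + 1) ⟶ PO f n := Over.homMk (ZBSym.fibTail f n) (ZBSym.fibTail_base f n)
    have hcm : cO ≫ m = π := by
      refine (hZ' (PO f (n + 1)) ⟨_, deg_sumGraphs f _ (pt f)⟩).unique ?_ hπ
      show HilbD.pull f (cO ≫ m) Z'.1 = univDiv f (n + 1)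
      rw [← pull_pull, hm, pull_mul, pull_pull, pull_secGraph,
        show cO ≫ p = tO ≫ π₀ from Over.OverMorphism.ext (pullback.lift_fst _ _ _), ← pull_pull,
        hπ₀, pull_sumGraphs, univDiv, sumGraphs, sumGraphs, Fin.prod_univ_succ, mul_comm]
      refine congrArg₂ (· * ·) (secGraph_congr f _ (pullback.lift_snd _ _ _) _ _)
        (Finset.prod_congr rfl fun i _ => secGraph_congr f _ (ZBSym.fibTail_π f n i) _ _)
    obtain ⟨⟨b1, b2, b3⟩, b4⟩ := hmd
    rw [← hcm]
    show Mor2.IsFinLocFreeOfDeg (n + 1).factorial (c ≫ m.left)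
    refine ⟨⟨inferInstance, inferInstance, inferInstance⟩, fun s => ?_⟩
    rw [AbSchX.FinRank.finrank_comp c m.left n.factorial
      (fun y => (Scheme.Hom.finrank_of_isPullback _ _ _ _ hc.flip y).trans (a4 _)) s, b4,
      Nat.factorial_succ, mul_comm]

omit [IsSeparated f] [SmoothOfRelativeDimension 1 f] in
lemma sum_comap_sec {T : Over S} {n : ℕ} (x x' : Fin n → (T ⟶ Over.mk f))
    (h : sumGraphs f T x = sumGraphs f T x') (k : Fin n) :
    ∏ i, (HilbD.secGraph f T (x i).left (Over.w (x i))).comap
      (sec f T (x' k).left (Over.w (x' k))) = ⊥ := by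
  classical
  rw [← CurveDiv.comap_prod, ← le_bot_iff]
  show (sumGraphs f T x).comap _ ≤ ⊥
  rw [h, ← Scheme.IdealSheafData.le_map_iff_comap_le]
  have e : (⊥ : T.left.IdealSheafData).map (sec f T (x' k).left (Over.w (x' k))) =
      (sec f T (x' k).left (Over.w (x' k))).ker := by
    rw [show (⊥ : T.left.IdealSheafData) = (𝟙 T.left : T.left ⟶ T.left).ker from
      (Scheme.Hom.ker_eq_bot _).symm, Scheme.IdealSheafData.map_ker, Category.id_comp]
  rw [e, sumGraphs, ← Finset.mul_prod_erase Finset.univ _ (Finset.mem_univ k)]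
  exact CurveDiv.mul_le_left' _ _

lemma comap_ι_eq_top {T : Scheme.{u}} (J : T.IdealSheafData) (W : T.Opens)
    (hW : W ≤ ModPair.interior J) : J.comap W.ι = ⊤ := by
  rw [← Scheme.IdealSheafData.support_eq_bot_iff, Scheme.IdealSheafData.support_comap]
  refine SetLike.ext fun z => ⟨fun hz => (hW z.2 hz).elim, False.elim⟩

omit [SmoothOfRelativeDimension 1 f] in
lemma sec_eq_of_mem {T : Over S} (x x' : T ⟶ Over.mk f) (t : T.left)
    (h : t ∈ ((HilbD.secGraph f T x.left (Over.w x)).comap
      (sec f T x'.left (Over.w x'))).support) :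
    sec f T x'.left (Over.w x') t = sec f T x.left (Over.w x) t := by
  rw [Scheme.IdealSheafData.support_comap] at h
  have h' : sec f T x'.left (Over.w x') t ∈
      ((sec f T x.left (Over.w x)).ker.support : Set (PicF.XT f T : Scheme.{u})) := h
  rw [Scheme.Hom.support_ker,
    (sec f T x.left (Over.w x)).isClosedEmbedding.isClosed_range.closure_eq] at h'
  obtain ⟨t', ht'⟩ := h'
  have e : t' = t := by
    have := congrArg (PicF.XTproj f T) ht'
    rwa [← Scheme.Hom.comp_apply, ← Scheme.Hom.comp_apply, sec_proj, sec_proj] at this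
  rw [← ht', e]

omit [SmoothOfRelativeDimension 1 f] in
/-- Two tuples of pairwise distinct points with the same sum differ by a permutation, locally. -/
theorem exists_perm {T : Over S} {n : ℕ} (x x' : Fin n → (T ⟶ Over.mk f))
    (h : sumGraphs f T x = sumGraphs f T x')
    (hx : ∀ (t : T.left) (i j : Fin n), i ≠ j →
      sec f T (x i).left (Over.w (x i)) t ≠ sec f T (x j).left (Over.w (x j)) t) (t : T.left) :
    ∃ (σ : Equiv.Perm (Fin n)) (W : T.left.Opens), t ∈ W ∧
      ∀ k, W.ι ≫ (x' k).left = W.ι ≫ (x (σ k)).left := by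
  classical
  have key : ∀ (y y' : Fin n → (T ⟶ Over.mk f)), sumGraphs f T y = sumGraphs f T y' → ∀ k, ∃ i,
      sec f T (y' k).left (Over.w (y' k)) t = sec f T (y i).left (Over.w (y i)) t := by
    intro y y' hy k
    by_contra hne
    push Not at hne
    let J := fun i => (HilbD.secGraph f T (y i).left (Over.w (y i))).comap
      (sec f T (y' k).left (Over.w (y' k)))
    let V : T.left.Opens := ⟨⋂ i, (ModPair.interior (J i) : Set T.left),
      isOpen_iInter_of_finite fun i => (ModPair.interior (J i)).isOpen⟩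
    have htV : t ∈ V := by
      show t ∈ ⋂ i, (ModPair.interior (J i) : Set T.left)
      exact Set.mem_iInter.2 fun i hi => hne i (sec_eq_of_mem f (y i) (y' k) t hi)
    have h0 := congrArg (Scheme.IdealSheafData.comap · V.ι) (sum_comap_sec f y y' hy k)
    simp only [CurveDiv.comap_prod, Scheme.IdealSheafData.comap_bot] at h0
    rw [Finset.prod_eq_one (fun i _ => (comap_ι_eq_top (J i) V fun z hz =>
      Set.mem_iInter.1 hz i).trans (Scheme.IdealSheafData.one_eq_top).symm),
      Scheme.IdealSheafData.one_eq_top] at h0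
    have h1 := congrArg Scheme.IdealSheafData.support h0
    rw [Scheme.IdealSheafData.support_top, Scheme.IdealSheafData.support_bot] at h1
    exact (h1.ge (show (⟨t, htV⟩ : V.toScheme) ∈ (⊤ : TopologicalSpace.Closeds V.toScheme) from
      trivial) : False)
  choose σ hσ using key x x' h
  have hsurj : Function.Surjective σ := fun i => by
    obtain ⟨k, hk⟩ := key x' x h.symm i
    rw [hσ k] at hk
    exact ⟨k, by_contra fun hne => hx t i (σ k) (Ne.symm hne) hk⟩
  let τ : Equiv.Perm (Fin n) := Equiv.ofBijective σ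
    ((Finite.surjective_iff_bijective).1 hsurj)
  let J := fun k i => (HilbD.secGraph f T (x i).left (Over.w (x i))).comap
    (sec f T (x' k).left (Over.w (x' k)))
  let W : T.left.Opens :=
    ⟨⋂ k, ⋂ i, ⋂ (_ : i ≠ σ k), (ModPair.interior (J k i) : Set T.left),
      isOpen_iInter_of_finite fun k => isOpen_iInter_of_finite fun i =>
        isOpen_iInter_of_finite fun _ => (ModPair.interior (J k i)).isOpen⟩
  refine ⟨τ, W, ?_, fun k => ?_⟩
  · show t ∈ ⋂ k, ⋂ i, ⋂ (_ : i ≠ σ k), (ModPair.interior (J k i) : Set T.left)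
    simp only [Set.mem_iInter]
    intro k i hi hmem
    exact hx t i (σ k) hi ((sec_eq_of_mem f (x i) (x' k) t hmem).symm.trans (hσ k))
  · show W.ι ≫ (x' k).left = W.ι ≫ (x (σ k)).left
    have h0 := congrArg (Scheme.IdealSheafData.comap · W.ι) (sum_comap_sec f x x' h k)
    simp only [CurveDiv.comap_prod, Scheme.IdealSheafData.comap_bot] at h0
    rw [← Finset.mul_prod_erase Finset.univ _ (Finset.mem_univ (σ k)),
      Finset.prod_eq_one (fun i hi => (comap_ι_eq_top (J k i) W (fun z hz => by
        have := Set.mem_iInter.1 (Set.mem_iInter.1 (Set.mem_iInter.1 hz k) i)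
          (Finset.ne_of_mem_erase hi)
        exact this)).trans (Scheme.IdealSheafData.one_eq_top).symm), mul_one,
      ← Scheme.IdealSheafData.comap_comp] at h0
    let s := sec f T (x (σ k)).left (Over.w (x (σ k)))
    let s' := W.ι ≫ sec f T (x' k).left (Over.w (x' k))
    have hle : s.ker ≤ s'.ker := by
      rw [← show (⊥ : W.toScheme.IdealSheafData).map s' = s'.ker by
        rw [show (⊥ : W.toScheme.IdealSheafData) = (𝟙 W.toScheme : W.toScheme ⟶ W.toScheme).ker from
          (Scheme.Hom.ker_eq_bot _).symm, Scheme.IdealSheafData.map_ker, Category.id_comp],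
        Scheme.IdealSheafData.le_map_iff_comap_le]
      exact h0.le
    have e := IsClosedImmersion.lift_fac s s' hle
    have e1 : IsClosedImmersion.lift s s' hle = W.ι := by
      have := congrArg (· ≫ PicF.XTproj f T) e
      simp only [Category.assoc, s, s', sec_proj, Category.comp_id] at this
      exact this
    rw [e1] at e
    have := congrArg (· ≫ pullback.fst f T.hom) e
    simpa [s, s'] using this.symm

lemma isEffCartier_secGraph (T : Over S) (x : T.left ⟶ X) (hx : x ≫ f = T.hom) :
    BlowUp.IsEffCartierIdeal (HilbD.secGraph f T x hx) :=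
  haveI := smooth_proj f T
  (CurveDiv.of_isFinLocFree (f := PicF.XTproj f T) (deg_secGraph f T x hx).1).1

lemma isEffCartier_prod {Y : Scheme.{u}} {ι : Type*} (t : Finset ι) (F : ι → Y.IdealSheafData)
    (h : ∀ i ∈ t, BlowUp.IsEffCartierIdeal (F i)) : BlowUp.IsEffCartierIdeal (∏ i ∈ t, F i) := by
  classical
  induction t using Finset.induction_on with
  | empty =>
    rw [Finset.prod_empty, Scheme.IdealSheafData.one_eq_top]
    exact BlowUpLib.isEffCartier_top Y
  | insert a t ha ih =>
    rw [Finset.prod_insert ha]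
    exact ModPairLib.isEffCartier_mul (h a (Finset.mem_insert_self a t))
      (ih fun i hi => h i (Finset.mem_insert_of_mem hi))

/-- A Cartier divisor on the fibre power containing all diagonals. -/
theorem exists_diagDiv : ∀ n : ℕ, ∃ D : (PO f n).left.IdealSheafData, BlowUp.IsEffCartierIdeal D ∧
    ∀ t ∈ ModPair.interior D, ∀ i j : Fin n, i ≠ j →
      sec f (PO f n) (pt f i).left (Over.w (pt f i)) t ≠
        sec f (PO f n) (pt f j).left (Over.w (pt f j)) t
  | 0 => ⟨⊤, BlowUpLib.isEffCartier_top _, fun _ _ i => i.elim0⟩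
  | m + 1 => by
    classical
    let e : Equiv.Perm (Fin (m + 1)) → ((PO f (m + 1)).left ⟶ PicF.XT f (PO f m)) := fun σ =>
      SymProd.permHom f (m + 1) σ ≫ ZBSym.toSucc f m
    let F : Equiv.Perm (Fin (m + 1)) × Fin m → (PO f (m + 1)).left.IdealSheafData := fun p =>
      (HilbD.secGraph f (PO f m) (pt f p.2).left (Over.w (pt f p.2))).comap (e p.1)
    refine ⟨∏ p, F p, isEffCartier_prod _ _ fun p _ => ?_, fun t ht i j hij hsec => ?_⟩
    · have : IsIso (ZBSym.toSucc f m) := (inferInstance : IsIso (ZBSym.fibPowSucc f m).hom)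
      have : IsIso (SymProd.permHom f (m + 1) p.1) :=
        (inferInstance : IsIso (SymProd.permIso f (m + 1) p.1).hom)
      exact BlowUpLib.isEffCartier_comap_flat (e p.1) (isEffCartier_secGraph f _ _ _)
    · obtain ⟨σ, hσi, k, hσj⟩ : ∃ σ : Equiv.Perm (Fin (m + 1)), σ.symm 0 = i ∧
          ∃ k : Fin m, σ.symm k.succ = j := by
        refine ⟨(Equiv.swap 0 i).symm, by simp, ?_⟩
        have hne : Equiv.swap 0 i j ≠ 0 := fun h0 => hij <| by
          have := congrArg (Equiv.swap 0 i) h0
          simpa [Equiv.swap_apply_self] using this.symm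
        obtain ⟨k, hk⟩ := Fin.exists_succ_eq.2 hne
        exact ⟨k, by simp [hk, Equiv.swap_apply_self]⟩
      let gO : PO f (m + 1) ⟶ PO f m := permO f σ ≫ Over.homMk (ZBSym.fibTail f m) (ZBSym.fibTail_base f m)
      have hj : gO ≫ pt f k = pt f j := Over.OverMorphism.ext <| by
        show (SymProd.permHom f (m + 1) σ ≫ ZBSym.fibTail f m) ≫ WidePullback.π _ k = _
        rw [Category.assoc, ZBSym.fibTail_π, SymProd.permHom_π, hσj]
        rfl
      have hi : sec f (PO f (m + 1)) (pt f i).left (Over.w (pt f i)) ≫ PicF.XTmap f gO = e σ := by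
        apply pullback.hom_ext
        · simp only [e, Category.assoc, show PicF.XTmap f gO ≫ pullback.fst f (PO f m).hom =
            pullback.fst f (PO f (m + 1)).hom ≫ 𝟙 X from pullback.lift_fst _ _ _, Category.comp_id,
            sec_fst]
          refine Eq.trans ?_ (congrArg (SymProd.permHom f (m + 1) σ ≫ ·) (ZBSym.toSucc_fst f m)).symm
          rw [SymProd.permHom_π, hσi]
          rfl
        · simp only [e, Category.assoc, show PicF.XTmap f gO ≫ pullback.snd f (PO f m).hom =
            PicF.XTproj f (PO f (m + 1)) ≫ gO.left from pullback.lift_snd _ _ _]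
          rw [← Category.assoc, sec_proj, Category.id_comp]
          exact (congrArg (SymProd.permHom f (m + 1) σ ≫ ·) (ZBSym.toSucc_snd f m)).symm
      have hle : (∏ p, F p) ≤ F (σ, k) := by
        rw [← Finset.mul_prod_erase Finset.univ _ (Finset.mem_univ (σ, k))]
        exact CurveDiv.mul_le_left' _ _
      have hmem : t ∈ (F (σ, k)).support := by
        show t ∈ ((HilbD.secGraph f (PO f m) (pt f k).left (Over.w (pt f k))).comap (e σ)).support
        rw [Scheme.IdealSheafData.support_comap]
        show e σ t ∈ ((sec f (PO f m) (pt f k).left (Over.w (pt f k))).ker.support : Set (PicF.XT f (PO f m) : Scheme.{u}))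
        rw [Scheme.Hom.support_ker]
        refine subset_closure ⟨gO.left t, ?_⟩
        rw [← Scheme.Hom.comp_apply, ← sec_comp f gO (pt f k), Scheme.Hom.comp_apply]
        simp only [hj]
        rw [← hsec, ← Scheme.Hom.comp_apply, hi]
      exact (ModPairLib.interior_mono hle ht) hmem

/-- An invariant map to a separated scheme is equalised by the two projections of the classifying map. -/
theorem eq_of_invariant {n : ℕ} {H : Over S} (Z : HilbD.Obj f n H)
    (π : PO f n ⟶ H) (hπ : HilbD.pull f π Z.1 = univDiv f n) [Flat π.left]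
    {Y : Scheme.{u}} (z : Y ⟶ S) [IsSeparated z] (h : (PO f n).left ⟶ Y)
    (hz : h ≫ z = (PO f n).hom) (hinv : ∀ σ, SymProd.permHom f n σ ≫ h = h) :
    pullback.fst π.left π.left ≫ h = pullback.snd π.left π.left ≫ h := by
  classical
  obtain ⟨D, hD, hdist⟩ := exists_diagDiv f n
  let R := pullback π.left π.left
  let R₀ : R.Opens := ModPair.interior (D.comap (pullback.fst π.left π.left))
  have : Flat (pullback.fst π.left π.left) := MorphismProperty.pullback_fst _ _ ‹Flat π.left›
  have : IsSchemeTheoreticallyDominant R₀.ι := ModPairLib.isSchemeTheoreticallyDominant_interior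
    (BlowUpLib.isEffCartier_comap_flat (pullback.fst π.left π.left) hD)
  -- the statement over `R₀`
  let T : Over S := Over.mk (R₀.ι ≫ pullback.fst π.left π.left ≫ (PO f n).hom)
  let a : T ⟶ PO f n := Over.homMk (R₀.ι ≫ pullback.fst π.left π.left) (Category.assoc _ _ _)
  let b : T ⟶ PO f n := Over.homMk (R₀.ι ≫ pullback.snd π.left π.left) (by
    show (R₀.ι ≫ _) ≫ (PO f n).hom = R₀.ι ≫ _ ≫ (PO f n).hom
    rw [Category.assoc, ← Over.w π, pullback.condition_assoc])
  have hab : a ≫ π = b ≫ π := Over.OverMorphism.ext <| by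
    show (R₀.ι ≫ _) ≫ π.left = (R₀.ι ≫ _) ≫ π.left
    rw [Category.assoc, Category.assoc, pullback.condition]
  have hsum : sumGraphs f T (fun i => a ≫ pt f i) = sumGraphs f T (fun i => b ≫ pt f i) := by
    rw [← pull_sumGraphs, ← pull_sumGraphs]
    show HilbD.pull f a (univDiv f n) = HilbD.pull f b (univDiv f n)
    rw [← hπ, pull_pull, pull_pull, hab]
  have hd : ∀ (t : T.left) (i j : Fin n), i ≠ j →
      sec f T (a ≫ pt f i).left (Over.w (a ≫ pt f i)) t ≠
        sec f T (a ≫ pt f j).left (Over.w (a ≫ pt f j)) t := by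
    intro t i j hij he
    have ht : a.left t ∈ ModPair.interior D := by
      have : (R₀.ι t) ∈ R₀ := t.2
      change R₀.ι t ∈ ModPair.interior (D.comap (pullback.fst π.left π.left)) at this
      rw [← ModPairLib.preimage_interior] at this
      exact this
    refine hdist _ ht i j hij ?_
    rw [← Scheme.Hom.comp_apply, ← Scheme.Hom.comp_apply, ← sec_comp, ← sec_comp,
      Scheme.Hom.comp_apply, Scheme.Hom.comp_apply, he]
  have h₀ : R₀.ι ≫ pullback.fst π.left π.left ≫ h = R₀.ι ≫ pullback.snd π.left π.left ≫ h := by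
    choose σ W hW hσ using exists_perm f (fun i => a ≫ pt f i) (fun i => b ≫ pt f i) hsum hd
    let 𝒰 : T.left.OpenCover := T.left.openCoverOfIsOpenCover W
      (TopologicalSpace.IsOpenCover.mk (eq_top_iff.mpr fun t _ =>
        TopologicalSpace.Opens.mem_iSup.mpr ⟨t, hW t⟩))
    refine 𝒰.hom_ext _ _ fun t => ?_
    show (W t).ι ≫ R₀.ι ≫ _ = (W t).ι ≫ R₀.ι ≫ _
    have e : (W t).ι ≫ b.left = (W t).ι ≫ a.left ≫ SymProd.permHom f n (σ t).symm := by
      refine WidePullback.hom_ext _ _ _ (fun k => ?_) ?_
      · have := hσ t k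
        simp only [Category.assoc, SymProd.permHom_π, Equiv.symm_symm] at this ⊢
        exact this
      · simp only [Category.assoc, SymProd.permHom_base]
        exact congrArg ((W t).ι ≫ ·) ((Over.w b).trans (Over.w a).symm)
    have ea := congrArg (· ≫ h) e
    simp only [Category.assoc, hinv] at ea
    simp only [a, b, Over.homMk_left, Category.assoc] at ea
    exact ea.symm
  -- extend by density
  let φ : R ⟶ pullback z z := pullback.lift (pullback.fst π.left π.left ≫ h)
    (pullback.snd π.left π.left ≫ h) (by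
      rw [Category.assoc, Category.assoc, hz, ← Over.w π, pullback.condition_assoc])
  let e := pullback.snd (pullback.diagonal z) φ
  let r₀ : R₀.toScheme ⟶ pullback (pullback.diagonal z) φ :=
    pullback.lift (R₀.ι ≫ pullback.fst π.left π.left ≫ h) R₀.ι (by
      apply pullback.hom_ext
      · simp [φ]
      · simp [φ, h₀])
  have hk : e.ker ≤ (𝟙 R : R ⟶ R).ker := by
    have := Scheme.Hom.le_ker_comp r₀ e
    rw [pullback.lift_snd, R₀.ι.ker_eq_bot] at this
    exact this.trans bot_le
  let s := IsClosedImmersion.lift e (𝟙 R) hk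
  have hs : s ≫ e = 𝟙 R := IsClosedImmersion.lift_fac _ _ _
  have key : φ ≫ pullback.fst z z = φ ≫ pullback.snd z z := by
    have hφ : φ = (s ≫ pullback.fst (pullback.diagonal z) φ) ≫ pullback.diagonal z := by
      rw [Category.assoc, pullback.condition, ← Category.assoc, hs, Category.id_comp]
    rw [hφ]
    simp
  simpa [φ] using key

/-- The comparison between a symmetric product and the Hilbert scheme of points. -/
theorem exists_iso (hrep : ∀ e : ℕ, HilbD.Representable f e) {n : ℕ} {H : Over S} (Z : HilbD.Obj f n H)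
    (hZ : HilbD.IsUniversal f n H Z) (π : PO f n ⟶ H) (hπ : HilbD.pull f π Z.1 = univDiv f n)
    {Y : Scheme.{u}} (q : SymProd.fibPow f n ⟶ Y) (g : Y ⟶ S) (hq : SymProd.IsSymProd f n q g) :
    ∃ φ : Over.mk g ≅ H, q ≫ φ.hom.left = π.left := by
  obtain ⟨⟨h1, h2, h3⟩, h4⟩ := deg_classify f hrep n H Z hZ π hπ
  have : Surjective π.left := (Scheme.Hom.one_le_finrank_iff_surjective π.left).mp fun s => by
    rw [h4]; exact n.factorial_pos
  have hsep : IsSeparated g := (SGA1Q.isSeparated_iff_of_isQuot hq.isQuot hq.over).1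
    (property_base f @IsSeparated ‹IsSeparated f› n)
  obtain ⟨φ, hφ, huφ⟩ := SGA1Q.desc_existsUnique_isQuot hq.isQuot π.left fun σ =>
    permO_classify f hZ π hπ σ.down
  obtain ⟨_, _, huq⟩ := SGA1Q.desc_existsUnique_isQuot hq.isQuot q fun σ => hq.isQuot.inv σ
  have hR := eq_of_invariant f Z π hπ g q hq.over fun σ => hq.isQuot.inv ⟨σ⟩
  let ψ : H.left ⟶ Y := EffectiveEpi.desc π.left q (fun {W} g₁ g₂ e => by
    have := congrArg (pullback.lift g₁ g₂ e ≫ ·) hR
    rwa [pullback.lift_fst_assoc, pullback.lift_snd_assoc] at this)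
  have hψ : π.left ≫ ψ = q := EffectiveEpi.fac _ _ _
  have hφψ : φ ≫ ψ = 𝟙 Y :=
    (huq _ (show q ≫ φ ≫ ψ = q by rw [← Category.assoc, hφ, hψ])).trans
      (huq _ (Category.comp_id q)).symm
  have hψφ : ψ ≫ φ = 𝟙 H.left := by
    rw [← cancel_epi π.left, ← Category.assoc, hψ, hφ, Category.comp_id]
  obtain ⟨_, -, hug⟩ := SGA1Q.desc_existsUnique_isQuot hq.isQuot (WidePullback.base fun _ : Fin n => f)
    fun σ => SymProd.permHom_base f n σ.down
  exact ⟨Over.isoMk ⟨φ, ψ, hφψ, hψφ⟩ ((hug (φ ≫ H.hom)
    (show q ≫ φ ≫ H.hom = _ by rw [← Category.assoc, hφ]; exact Over.w π)).trans (hug g hq.over).symm), hφ⟩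

end Groth.Agent.PicFRel.HilbSym
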