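import Groth.Agent.PicFRel.PicGood
import Groth.Agent.H23.Seesaw

/-!
# A section which spans the sections of a fibre spans the sections near it
-/

set_option autoImplicit false
set_option linter.style.haveILetI false
set_option linter.overlappingInstances false
set_option linter.unusedSectionVars false
set_option backward.isDefEq.respectTransparency false
set_option backward.isDefEq.respectTransparency.types false

universe u

open CategoryTheory CategoryTheory.Limits AlgebraicGeometry TopologicalSpace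

noncomputable section

namespace Groth.Agent.PicFRel.LineSect

open Groth.Agent Groth.Agent.JacTheta Groth.Agent.PicFRel.DivSect Groth.Agent.PicFRel.PicGood

variable {A : Type u} [CommRing A] [IsNoetherianRing A] {X : Scheme.{u}} [X.Over (Spec (CommRingCat.of A))]
  [IsProper (X ↘ Spec (CommRingCat.of A))] [Flat (X ↘ Spec (CommRingCat.of A))]

/-- A section which is nonzero on a fibre with a line of sections generates, near it, the sections
over every algebra. -/
theorem exists_generating {F : X.Modules} (hF : PicF.IsInvertible F) (s : Γ(F, ⊤)) (x : PrimeSpectrum A)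
    {Xk : Scheme.{u}} (φ₀ : Xk ⟶ X) (p₀ : Xk ⟶ Spec (CommRingCat.of x.asIdeal.ResidueField))
    (hpb : IsPullback φ₀ p₀ (X ↘ Spec (CommRingCat.of A))
      (Spec.map (CommRingCat.ofHom (algebraMap A x.asIdeal.ResidueField))))
    (h0 : letI : Xk.Over (Spec (CommRingCat.of x.asIdeal.ResidueField)) := ⟨p₀⟩
      hh x.asIdeal.ResidueField 0 (PicF.cl ((Scheme.Modules.pullback φ₀).obj F)) = 1)
    (hs : pullTop φ₀ s ≠ 0) :
    ∃ c : A, c ∉ x.asIdeal ∧ ∀ (B : Type u) [CommRing B] [Algebra A B], IsUnit (algebraMap A B c) →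
      ∀ (X' : Scheme.{u}) (φ : X' ⟶ X) (pB : X' ⟶ Spec (CommRingCat.of B)),
        IsPullback φ pB (X ↘ Spec (CommRingCat.of A)) (Spec.map (CommRingCat.ofHom (algebraMap A B))) →
          Gen pB (pullTop φ s) := by
  let k := x.asIdeal.ResidueField
  letI : Xk.Over (Spec (CommRingCat.of k)) := ⟨p₀⟩
  obtain ⟨Q, hfin, e, hQ⟩ := H23.Seesaw.exists_rep (A := A) F hF
  haveI := hfin
  let v : Q →ₗ[A] A := e.symm s
  have key : ∀ (B : Type u) [CommRing B] [Algebra A B] (X' : Scheme.{u}) (φ : X' ⟶ X)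
      (pB : X' ⟶ Spec (CommRingCat.of B)),
      IsPullback φ pB (X ↘ Spec (CommRingCat.of A)) (Spec.map (CommRingCat.ofHom (algebraMap A B))) →
      ∃ eB : (Q →ₗ[A] B) ≃+ Γ((Scheme.Modules.pullback φ).obj F, ⊤),
        (∀ (b : B) (g : Q →ₗ[A] B), eB (LinearMap.mulLeft A b ∘ₗ g) =
          (show Γ(X', ⊤) from Coh.toGlobal pB b) • eB g) ∧
        eB (Algebra.linearMap A B ∘ₗ v) = pullTop φ s := fun B _ _ X' φ pB hsq => by
    obtain ⟨eB, he1, he2⟩ := hQ B X' φ pB hsq
    exact ⟨eB, he1, (he2 v).trans (congrArg (InvX.pullElt φ) (e.apply_symm_apply s))⟩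
  obtain ⟨eK, hK1, hK2⟩ := key k Xk φ₀ p₀ hpb
  obtain ⟨e₀, he₀⟩ := BcZero.exists_h0Equiv ((Scheme.Modules.pullback φ₀).obj F)
  let E : (Q →ₗ[A] k) ≃ₗ[k] Coh.HH Xk ((Scheme.Modules.pullback φ₀).obj F) 0 :=
    { eK.trans e₀.symm with
      map_smul' := fun b g => e₀.injective (by
        show e₀ (e₀.symm (eK (b • g))) = e₀ (b • e₀.symm (eK g))
        rw [AddEquiv.apply_symm_apply, show b • g = LinearMap.mulLeft A b ∘ₗ g from LinearMap.ext fun q => rfl,
          hK1]
        refine Eq.trans ?_ (he₀ _ _).symm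
        rw [AddEquiv.apply_symm_apply]; rfl) }
  have h1dim : Module.finrank k (Q →ₗ[A] k) = 1 := E.finrank_eq.trans h0
  let gv : Q →ₗ[A] k := Algebra.linearMap A k ∘ₗ v
  have hgv0 : gv ≠ 0 := fun h => hs (by rw [← hK2, show Algebra.linearMap A k ∘ₗ v = 0 from h, map_zero])
  have h1 : ∀ g g' : Q →ₗ[A] k, g ≠ 0 → ∃ c : k, g' = c • g := fun g g' hg =>
    ((finrank_eq_one_iff_of_nonzero' g hg).1 h1dim g').imp fun c hc => hc.symm
  obtain ⟨q₀, c, hc, hq⟩ := H23.SeesawMod.exists_generator x (H23.SeesawMod.fibreRank_eq_one x ⟨gv, hgv0⟩ h1)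
  choose φq hφq using hq
  have hv : ∀ q, c * v q = φq q * v q₀ := fun q => by
    have := congrArg v (hφq q)
    simpa only [map_smul, smul_eq_mul] using this
  have hvq : v q₀ ∉ x.asIdeal := fun h => hgv0 <| LinearMap.ext fun q => by
    show algebraMap A k (v q) = 0
    rw [Ideal.algebraMap_residueField_eq_zero]
    have hmem : c * v q ∈ x.asIdeal := by rw [hv]; exact x.asIdeal.mul_mem_left _ h
    exact (Ideal.IsPrime.mem_or_mem inferInstance hmem).resolve_left hc
  refine ⟨c * v q₀, fun h => (Ideal.IsPrime.mem_or_mem inferInstance h).elim hc hvq,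
    fun B _ _ hB X' φ pB hsq => ?_⟩
  obtain ⟨eB, hB1, hB2⟩ := key B X' φ pB hsq
  rw [map_mul, IsUnit.mul_iff] at hB
  obtain ⟨u, hu⟩ := hB.2
  refine ⟨fun w => ⟨eB.symm w q₀ * ↑u⁻¹, ?_⟩, fun b hb => ?_⟩
  · rw [← hB2, ← hB1]
    refine (eB.apply_symm_apply w).symm.trans (congrArg eB (LinearMap.ext fun q => hB.1.mul_left_cancel ?_))
    have hg : algebraMap A B c * eB.symm w q = algebraMap A B (φq q) * eB.symm w q₀ := by
      have := congrArg (eB.symm w) (hφq q)
      simpa only [map_smul, Algebra.smul_def] using this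
    show algebraMap A B c * eB.symm w q =
      algebraMap A B c * (eB.symm w q₀ * ↑u⁻¹ * algebraMap A B (v q))
    rw [hg, mul_left_comm (algebraMap A B c), ← map_mul, hv, map_mul, ← hu,
      mul_comm (algebraMap A B (φq q))]
    calc eB.symm w q₀ * algebraMap A B (φq q)
        = eB.symm w q₀ * algebraMap A B (φq q) * (↑u⁻¹ * ↑u) := by rw [Units.inv_mul, mul_one]
      _ = eB.symm w q₀ * ↑u⁻¹ * (algebraMap A B (φq q) * ↑u) := by ring
  · have h := eB.injective ((hB1 b _).trans ((congrArg _ hB2).trans (hb.trans (map_zero eB).symm)))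
    exact hB.2.mul_left_eq_zero.1 (LinearMap.congr_fun h q₀)

end Groth.Agent.PicFRel.LineSect
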