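import Groth.Agent.PicFRel.GoodRep
import Groth.Agent.PicFRel.CurveTwistBC
import Groth.Agent.PicFRel.ClSmall
import Groth.Agent.PicFRel.SigmaMod
import Groth.Agent.JacTheta.Graph
import Mathlib.AlgebraicGeometry.Sites.Representability

/-!
# Representability of the rigidified Picard functor of a curve
-/

set_option autoImplicit false
set_option linter.style.haveILetI false
set_option linter.overlappingInstances false
set_option linter.unusedSectionVars false
set_option backward.isDefEq.respectTransparency false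
set_option backward.isDefEq.respectTransparency.types false

universe u

open CategoryTheory CategoryTheory.Limits AlgebraicGeometry TopologicalSpace Opposite

noncomputable section

namespace Groth.Agent.PicFRel.PicRep

open Groth.Agent Groth.Agent.JacTheta Groth.Agent.PicFRel.CurveFam Groth.Agent.PicFRel.DivClass
open scoped Groth.Agent.H23.PicMul

variable {k : Type u} [Field k] [IsSepClosed k] {X : Scheme.{u}} [X.Over (Spec (CommRingCat.of k))]
  [IsIntegral X] [IsProper (X ↘ Spec (CommRingCat.of k))] [Smooth (X ↘ Spec (CommRingCat.of k))]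
  (hdim : topologicalKrullDim X = 1) (σ : Pt k X)

theorem pull_id (T : Over (Spec (CommRingCat.of k))) (c : LB (PicF.XT (str k X) T)) :
    LB.pull (PicF.XTmap (str k X) (𝟙 T)) c = c := by
  have h : PicF.XTmap (str k X) (𝟙 T) = 𝟙 _ := by
    apply pullback.hom_ext <;> simp [PicF.XTmap]
  rw [h, DivClass.LB.pull_id]

/-- The rigidified twist by a class of the curve. -/
def twist (T : Over (Spec (CommRingCat.of k))) (d : LB X) : LB (PicF.XT (str k X) T) :=
  rigC σ T (LB.pull (pullback.fst (str k X) T.hom) d)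

theorem pull_twist {T T' : Over (Spec (CommRingCat.of k))} (g : T' ⟶ T) (d : LB X) :
    LB.pull (PicF.XTmap (str k X) g) (twist σ T d) = twist σ T' d := by
  rw [twist, twist, pull_rigC, DivClass.LB.pull_comp]
  congr 3
  exact XTmap_fst (str k X) g

theorem sec_twist (T : Over (Spec (CommRingCat.of k))) (d : LB X) : secPull σ T (twist σ T d) = 1 :=
  sec_rigC σ T _

include hdim in
/-- Every point of every family becomes good after a twist. -/
theorem exists_twist_good (T : Over (Spec (CommRingCat.of k))) (c : LB (PicF.XT (str k X) T)) (t : T.left) :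
    ∃ d : LB X, PicGood.GoodAt (PicF.XTproj (str k X) T) ((c * twist σ T d : LB _) : PicF.Cl _) t := by
  haveI := isIntegral_fiber (k := k) (X := X) T t
  haveI := isProper_fiber (k := k) (X := X) T t
  haveI := smooth_fiber (k := k) (X := X) T t
  haveI := geometricallyConnected_fiber (k := k) (X := X) T t
  obtain ⟨_, hpb⟩ := exists_algebra_pullback (k := k) (X := X) T t
  obtain ⟨d, h0, h1⟩ := CurveTwistBC.exists_class hpb hdim (topologicalKrullDim_fiber T t hdim)
    (LB.pull ((PicF.XTproj (str k X) T).fiberι t) c)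
  refine ⟨d, ?_⟩
  rw [twist, rigC_apply, div_eq_mul_inv, ← map_inv, ← mul_assoc]
  refine (goodAt_mul_base _ _ t).2 ?_
  rw [← DivClass.LB.pull_comp, ← map_mul] at h0 h1
  exact ⟨h0, h1⟩

/-- A family of rigidified classes over a scheme. -/
structure PFam (T : Scheme.{u}) where
  /-- the structure map -/
  a : T ⟶ Spec (CommRingCat.of k)
  /-- the class -/
  c : LB (PicF.XT (str k X) (Over.mk a))
  h : secPull σ (Over.mk a) c = 1

variable {σ}

/-- The class of a family on a scheme mapping to its base. -/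
def PFam.cls {T₀ : Scheme.{u}} (x : PFam σ T₀) (T : Over (Spec (CommRingCat.of k))) (g : T.left ⟶ T₀)
    (hg : g ≫ x.a = T.hom) : LB (PicF.XT (str k X) T) :=
  LB.pull (PicF.XTmap (str k X) (Over.homMk g hg : T ⟶ Over.mk x.a)) x.c

theorem PFam.cls_self {T₀ : Scheme.{u}} (x : PFam σ T₀) :
    x.cls (Over.mk x.a) (𝟙 T₀) (Category.id_comp _) = x.c :=
  pull_id _ _

theorem PFam.sec_cls {T₀ : Scheme.{u}} (x : PFam σ T₀) (T : Over (Spec (CommRingCat.of k)))
    (g : T.left ⟶ T₀) (hg : g ≫ x.a = T.hom) : secPull σ T (x.cls T g hg) = 1 :=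
  secPull_pull_eq_one σ _ x.h

theorem PFam.pull_cls {T₀ : Scheme.{u}} (x : PFam σ T₀) {T T' : Over (Spec (CommRingCat.of k))}
    (g : T.left ⟶ T₀) (hg : g ≫ x.a = T.hom) (m : T' ⟶ T) :
    LB.pull (PicF.XTmap (str k X) m) (x.cls T g hg) =
      x.cls T' (m.left ≫ g) (by rw [Category.assoc, hg, Over.w]) := by
  rw [PFam.cls, LB.pull_XTmap_comp]
  rfl

theorem PFam.cls_congr_map {T₀ : Scheme.{u}} (x : PFam σ T₀) {T : Over (Spec (CommRingCat.of k))}
    {g g' : T.left ⟶ T₀} (h : g = g') (hg : g ≫ x.a = T.hom) :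
    x.cls T g hg = x.cls T g' (h ▸ hg) := by
  subst h; rfl

theorem PFam.cls_congr {T₀ : Scheme.{u}} {x y : PFam σ T₀} (h : x = y) (T : Over (Spec (CommRingCat.of k)))
    (g : T.left ⟶ T₀) (hg : g ≫ x.a = T.hom) : x.cls T g hg = y.cls T g (h ▸ hg) := by
  subst h; rfl

theorem PFam.ext' {T₀ : Scheme.{u}} {x y : PFam σ T₀} (h : x.a = y.a)
    (hc : x.cls (Over.mk y.a) (𝟙 T₀) ((Category.id_comp _).trans h) = y.c) : x = y := by
  obtain ⟨a, c, hx⟩ := x
  obtain ⟨a', c', hy⟩ := y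
  cases h
  rw [show PFam.cls _ (Over.mk a) (𝟙 T₀) _ = c from PFam.cls_self ⟨a, c, hx⟩] at hc
  cases hc
  rfl

variable (σ) in
/-- Base change of families. -/
def mapP {T T' : Scheme.{u}} (g : T' ⟶ T) (x : PFam σ T) : PFam σ T' :=
  ⟨g ≫ x.a, x.cls (Over.mk (g ≫ x.a)) g rfl, x.sec_cls _ _ _⟩

theorem cls_mapP {T T' : Scheme.{u}} (g : T' ⟶ T) (x : PFam σ T) (U : Over (Spec (CommRingCat.of k)))
    (m : U.left ⟶ T') (hm : m ≫ (mapP σ g x).a = U.hom) :
    (mapP σ g x).cls U m hm = x.cls U (m ≫ g) ((Category.assoc _ _ _).trans hm) :=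
  x.pull_cls g (T := Over.mk (g ≫ x.a)) rfl (Over.homMk m hm : U ⟶ Over.mk (g ≫ x.a))

theorem PFam.ext_cls {T₀ : Scheme.{u}} {x y : PFam σ T₀} (h : x.a = y.a)
    (hc : x.cls (Over.mk y.a) (𝟙 T₀) ((Category.id_comp _).trans h) =
      y.cls (Over.mk y.a) (𝟙 T₀) (Category.id_comp _)) : x = y :=
  PFam.ext' h (hc.trans y.cls_self)

theorem mapP_id {T : Scheme.{u}} (x : PFam σ T) : mapP σ (𝟙 T) x = x :=
  PFam.ext_cls (Category.id_comp _) (by
    rw [cls_mapP]
    exact x.cls_congr_map (Category.id_comp (𝟙 T)) _)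

theorem mapP_comp {T T' T'' : Scheme.{u}} (g : T' ⟶ T) (g' : T'' ⟶ T') (x : PFam σ T) :
    mapP σ (g' ≫ g) x = mapP σ g' (mapP σ g x) :=
  PFam.ext_cls (Category.assoc _ _ _) (by
    rw [cls_mapP, cls_mapP, cls_mapP]
    exact x.cls_congr_map (Category.assoc _ _ _).symm _)

/-- Identifying a base change of a family by its class. -/
theorem mapP_eq {T₀ T : Scheme.{u}} (x : PFam σ T₀) (y : PFam σ T) (G : Over.mk y.a ⟶ Over.mk x.a)
    (hc : LB.pull (PicF.XTmap (str k X) G) x.c = y.c) : mapP σ G.left x = y :=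
  PFam.ext' (Over.w G) (by
    rw [cls_mapP, x.cls_congr_map (Category.id_comp G.left)]
    exact hc)

theorem exists_of_mapP_eq {T₀ T : Scheme.{u}} {x : PFam σ T₀} {y : PFam σ T} {g : T ⟶ T₀}
    (h : mapP σ g x = y) : ∃ hg : g ≫ x.a = y.a,
      LB.pull (PicF.XTmap (str k X) (Over.homMk g hg : Over.mk y.a ⟶ Over.mk x.a)) x.c = y.c := by
  subst h
  exact ⟨rfl, rfl⟩

theorem isTrivialCl_sec {T : Over (Spec (CommRingCat.of k))} {c : LB (PicF.XT (str k X) T)}
    (h : secPull σ T c = 1) :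
    PicF.IsTrivialCl (PicF.pullCl (PicF.secT (str k X) σ.1 σ.2 T) (c : PicF.Cl _)) := by
  rw [← LB.pull_val]
  exact congrArg Units.val h

theorem small_PFam (T : Scheme.{u}) : Small.{u} (PFam σ T) := by
  haveI := fun a : T ⟶ Spec (CommRingCat.of k) => ClSmall.small_LB (PicF.XT (str k X) (Over.mk a))
  refine small_of_injective (β := Σ a : T ⟶ Spec (CommRingCat.of k), LB (PicF.XT (str k X) (Over.mk a)))
    (f := fun x => ⟨x.a, x.c⟩) fun x y h => ?_
  obtain ⟨a, c, hx⟩ := x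
  obtain ⟨a', c', hy⟩ := y
  cases h
  rfl

variable (σ) in
/-- The functor of families. -/
def functor : Scheme.{u}ᵒᵖ ⥤ Type u where
  obj T := haveI := small_PFam (σ := σ) T.unop; Shrink.{u} (PFam σ T.unop)
  map {T T'} g := ↾fun x =>
    haveI := small_PFam (σ := σ) T.unop; haveI := small_PFam (σ := σ) T'.unop
    equivShrink _ (mapP σ g.unop ((equivShrink _).symm x))
  map_id T := by
    ext x
    haveI := small_PFam (σ := σ) T.unop
    show equivShrink _ (mapP σ (𝟙 T.unop) ((equivShrink _).symm x)) = x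
    rw [mapP_id, Equiv.apply_symm_apply]
  map_comp {T T' T''} g g' := by
    ext x
    haveI := small_PFam (σ := σ) T.unop; haveI := small_PFam (σ := σ) T'.unop
    haveI := small_PFam (σ := σ) T''.unop
    show equivShrink _ (mapP σ (g'.unop ≫ g.unop) ((equivShrink _).symm x)) =
      equivShrink _ (mapP σ g'.unop ((equivShrink _).symm (equivShrink _ (mapP σ g.unop ((equivShrink _).symm x)))))
    rw [Equiv.symm_apply_apply, mapP_comp]

variable (σ) in
/-- Elements of the functor are families. -/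
def toF (T : Scheme.{u}) : PFam σ T ≃ (functor σ).obj (op T) :=
  haveI := small_PFam (σ := σ) T
  equivShrink _

theorem map_toF {T T' : Scheme.{u}} (g : T' ⟶ T) (x : PFam σ T) :
    (functor σ).map g.op (toF σ T x) = toF σ T' (mapP σ g x) := by
  haveI := small_PFam (σ := σ) T; haveI := small_PFam (σ := σ) T'
  show equivShrink _ (mapP σ g ((equivShrink _).symm (equivShrink _ x))) = _
  rw [Equiv.symm_apply_apply]
  rfl

theorem toF_symm_map {T T' : Scheme.{u}} (g : T' ⟶ T) (ξ : (functor σ).obj (op T)) :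
    (toF σ T').symm ((functor σ).map g.op ξ) = mapP σ g ((toF σ T).symm ξ) := by
  rw [Equiv.symm_apply_eq, ← map_toF, Equiv.apply_symm_apply]

theorem isSheaf_functor : Presieve.IsSheaf Scheme.zariskiTopology (functor σ) := by
  rw [Precoverage.isSheaf_toGrothendieck_iff_of_isStableUnderBaseChange]
  intro T R hR x hx
  obtain ⟨(𝒰 : T.OpenCover), rfl⟩ := Scheme.exists_cover_of_mem_pretopology hR
  let ξ : ∀ i, PFam σ (𝒰.X i) := fun i => (toF σ _).symm (x (𝒰.f i) (.mk i))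
  have hc : ∀ i j, mapP σ (pullback.fst (𝒰.f i) (𝒰.f j)) (ξ i) =
      mapP σ (pullback.snd (𝒰.f i) (𝒰.f j)) (ξ j) := fun i j => by
    rw [← toF_symm_map, ← toF_symm_map]
    exact congrArg _ (hx _ _ (.mk i) (.mk j) pullback.condition)
  let a : T ⟶ Spec (CommRingCat.of k) :=
    𝒰.glueMorphisms (fun i => (ξ i).a) fun i j => congrArg PFam.a (hc i j)
  have ha : ∀ i, 𝒰.f i ≫ a = (ξ i).a := fun i => Scheme.Cover.ι_glueMorphisms 𝒰 _ _ i
  let T₀ : Over (Spec (CommRingCat.of k)) := Over.mk a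
  choose idx yidx hidx using fun t : T => 𝒰.exists_eq t
  let U : T → Scheme.{u} := fun t => 𝒰.X (idx t)
  let us : (∐ U) ⟶ T := Sigma.desc fun t => 𝒰.f (idx t)
  haveI : Flat us := IsZariskiLocalAtSource.sigmaDesc (P := @Flat) fun t => inferInstance
  haveI : LocallyOfFinitePresentation us :=
    IsZariskiLocalAtSource.sigmaDesc (P := @LocallyOfFinitePresentation) fun t => inferInstance
  haveI : Surjective us := ⟨fun t => ⟨Sigma.ι U t (yidx t), by
    rw [← Scheme.Hom.comp_apply, Sigma.ι_desc, hidx]⟩⟩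
  let T₁ : Over (Spec (CommRingCat.of k)) := AbDual.ovr T₀ us
  let j : ∀ t, Over.mk (ξ (idx t)).a ⟶ T₁ := fun t => Over.homMk (Sigma.ι U t) (by
    show Sigma.ι U t ≫ us ≫ a = _
    rw [Sigma.ι_desc_assoc]
    exact ha _)
  let i : ∀ t, PicF.XT (str k X) (Over.mk (ξ (idx t)).a) ⟶ PicF.XT (str k X) T₁ := fun t =>
    PicF.XTmap (str k X) (j t)
  haveI : ∀ t, IsOpenImmersion (i t) := fun t =>
    MorphismProperty.of_isPullback (RigDescent.isPullback_XTmap (str k X) (j t)).flip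
      (inferInstanceAs (IsOpenImmersion (Sigma.ι U t)))
  choose L hL hLc using fun t => LB.exists_rep (ξ (idx t)).c
  obtain ⟨M, hM, hMi⟩ := SigmaMod.exists_invertible i (fun z => by
      obtain ⟨t, y, hy⟩ : ∃ t, PicF.XTproj (str k X) T₁ z ∈ Set.range (Sigma.ι U t) := by
        obtain ⟨⟨t, y⟩, hy⟩ := (sigmaMk U).surjective (PicF.XTproj (str k X) T₁ z)
        exact ⟨t, y, by rw [← sigmaMk_mk]; exact hy⟩
      obtain ⟨w, hw, -⟩ :=
        Scheme.exists_preimage_of_isPullback (RigDescent.isPullback_XTmap (str k X) (j t)) z y hy.symm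
      exact ⟨t, w, hw⟩)
    (fun t t' z h h' => by
      obtain ⟨w, rfl⟩ := h
      obtain ⟨w', hw'⟩ := h'
      have e := congrArg (PicF.XTproj (str k X) T₁) hw'
      rw [← Scheme.Hom.comp_apply, ← Scheme.Hom.comp_apply, (RigDescent.isPullback_XTmap (str k X) (j t')).w,
        (RigDescent.isPullback_XTmap (str k X) (j t)).w, Scheme.Hom.comp_apply, Scheme.Hom.comp_apply] at e
      by_contra hne
      exact (disjoint_opensRange_sigmaι U t t' hne).le_bot (⟨⟨_, rfl⟩, ⟨_, e⟩⟩ :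
        (Sigma.ι U t) (PicF.XTproj (str k X) _ w) ∈ (Sigma.ι U t).opensRange ⊓ (Sigma.ι U t').opensRange))
    L hL
  let c₁ : LB (PicF.XT (str k X) T₁) := rigC σ T₁ (lb M hM)
  have hc₁ : ∀ t, LB.pull (PicF.XTmap (str k X) (j t)) c₁ = (ξ (idx t)).c := fun t => by
    rw [pull_rigC, show LB.pull (PicF.XTmap (str k X) (j t)) (lb M hM) = (ξ (idx t)).c from Units.ext (by
      rw [LB.pull_val, lb_val, hLc]
      exact (PicGrp.cl_eq_cl_iff _ _).2 (hMi t))]
    exact rigC_of_sec σ (ξ (idx t)).h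
  have hov : ∀ (i i' : 𝒰.I₀) (W : Over (Spec (CommRingCat.of k))) (m : W.left ⟶ 𝒰.X i) (m' : W.left ⟶ 𝒰.X i')
      (hm : m ≫ 𝒰.f i = m' ≫ 𝒰.f i') (h : m ≫ (ξ i).a = W.hom) (h' : m' ≫ (ξ i').a = W.hom),
      (ξ i).cls W m h = (ξ i').cls W m' h' := by
    intro i i' W m m' hm h h'
    let l := pullback.lift m m' hm
    have := PFam.cls_congr (hc i i') W l (by
      show l ≫ pullback.fst _ _ ≫ (ξ i).a = _
      rw [pullback.lift_fst_assoc, h])
    rw [cls_mapP, cls_mapP, (ξ i).cls_congr_map (pullback.lift_fst m m' hm),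
      (ξ i').cls_congr_map (pullback.lift_snd m m' hm)] at this
    exact this
  have hglue : ∀ (W : Over (Spec (CommRingCat.of k))) (p₁ p₂ : W ⟶ T₁),
      p₁.left ≫ us = p₂.left ≫ us →
      LB.pull (PicF.XTmap (str k X) p₁) c₁ = LB.pull (PicF.XTmap (str k X) p₂) c₁ := by
    intro W p₁ p₂ hp
    refine eq_of_locally σ (secPull_pull_eq_one σ p₁ (sec_rigC σ T₁ _))
      (secPull_pull_eq_one σ p₂ (sec_rigC σ T₁ _)) fun w => ?_
    obtain ⟨⟨t, y⟩, hy⟩ := (sigmaMk U).surjective (p₁.left w)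
    obtain ⟨⟨t', y'⟩, hy'⟩ := (sigmaMk U).surjective (p₂.left w)
    rw [sigmaMk_mk] at hy hy'
    let O : W.left.Opens := p₁.left ⁻¹ᵁ (Sigma.ι U t).opensRange ⊓ p₂.left ⁻¹ᵁ (Sigma.ι U t').opensRange
    have h1 : Set.range (O.ι ≫ p₁.left) ⊆ Set.range (Sigma.ι U t) := by
      rintro _ ⟨z, rfl⟩; exact z.2.1
    have h2 : Set.range (O.ι ≫ p₂.left) ⊆ Set.range (Sigma.ι U t') := by
      rintro _ ⟨z, rfl⟩; exact z.2.2
    let W' := AbDual.ovr W O.ι
    let m := IsOpenImmersion.lift (Sigma.ι U t) (O.ι ≫ p₁.left) h1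
    let m' := IsOpenImmersion.lift (Sigma.ι U t') (O.ι ≫ p₂.left) h2
    have hm : m ≫ (ξ (idx t)).a = W'.hom := by
      show _ = O.ι ≫ W.hom
      rw [← Over.w p₁, ← ha, show m ≫ 𝒰.f (idx t) ≫ a = (m ≫ Sigma.ι U t) ≫ us ≫ a by
        rw [Category.assoc, Sigma.ι_desc_assoc], IsOpenImmersion.lift_fac, Category.assoc]
      rfl
    have hm' : m' ≫ (ξ (idx t')).a = W'.hom := by
      show _ = O.ι ≫ W.hom
      rw [← Over.w p₂, ← ha, show m' ≫ 𝒰.f (idx t') ≫ a = (m' ≫ Sigma.ι U t') ≫ us ≫ a by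
        rw [Category.assoc, Sigma.ι_desc_assoc], IsOpenImmersion.lift_fac, Category.assoc]
      rfl
    refine ⟨O, O.ι, inferInstance, ⟨⟨w, ⟨⟨y, hy⟩, ⟨y', hy'⟩⟩⟩, rfl⟩, ?_⟩
    rw [LB.pull_XTmap_comp, LB.pull_XTmap_comp,
      show AbDual.ovrHom W O.ι ≫ p₁ = (Over.homMk m hm : W' ⟶ Over.mk (ξ (idx t)).a) ≫ j t from
        Over.OverMorphism.ext (IsOpenImmersion.lift_fac _ _ _).symm,
      show AbDual.ovrHom W O.ι ≫ p₂ = (Over.homMk m' hm' : W' ⟶ Over.mk (ξ (idx t')).a) ≫ j t' from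
        Over.OverMorphism.ext (IsOpenImmersion.lift_fac _ _ _).symm,
      ← LB.pull_XTmap_comp, ← LB.pull_XTmap_comp, hc₁, hc₁]
    refine hov _ _ W' m m' ?_ hm hm'
    rw [show 𝒰.f (idx t) = Sigma.ι U t ≫ us from (Sigma.ι_desc (fun a => 𝒰.f (idx a)) t).symm,
      show 𝒰.f (idx t') = Sigma.ι U t' ≫ us from (Sigma.ι_desc (fun a => 𝒰.f (idx a)) t').symm,
      IsOpenImmersion.lift_fac_assoc, IsOpenImmersion.lift_fac_assoc, Category.assoc, Category.assoc, hp]
  let T₂ : Over (Spec (CommRingCat.of k)) := AbDual.ovr T₁ (pullback.fst us us)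
  obtain ⟨d, hd⟩ := RigDescent.exists_descend (str k X) σ.1 σ.2 (const_app k X) T₀ us
    ⟨(c₁ : PicF.Cl (PicF.XT (str k X) T₁)), (by obtain ⟨N, hN, hNc⟩ := c₁.exists_rep; exact ⟨N, hNc.symm, hN⟩),
      isTrivialCl_sec (sec_rigC σ T₁ (lb M hM))⟩
    (by
      have := congrArg Units.val (hglue T₂ (AbDual.ovrHom T₁ (pullback.fst us us))
        (Over.homMk (pullback.snd us us) (pullback.condition_assoc T₀.hom).symm) pullback.condition)
      rw [LB.pull_val, LB.pull_val] at this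
      exact this)
  obtain ⟨N, hNd, hN⟩ := d.2.1
  have hds : secPull σ T₀ (lb N hN) = 1 := Units.ext (by
    rw [LB.pull_val, lb_val, hNd]; exact d.2.2)
  have hcj : ∀ t, LB.pull (PicF.XTmap (str k X) (j t ≫ AbDual.ovrHom T₀ us)) (lb N hN) = (ξ (idx t)).c := fun t => by
    rw [← LB.pull_XTmap_comp, ← hc₁ t]
    refine congrArg _ (Units.ext ?_)
    rw [LB.pull_val, lb_val, hNd]
    exact hd
  let z : PFam σ T := ⟨a, lb N hN, hds⟩
  refine ⟨toF σ T z, ?_, fun y hy => ?_⟩
  · rintro T' g ⟨i₀⟩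
    rw [map_toF, ← Equiv.eq_symm_apply]
    refine PFam.ext' (ha i₀) ?_
    rw [cls_mapP, z.cls_congr_map (Category.id_comp (𝒰.f i₀))]
    refine eq_of_locally σ (z.sec_cls _ _ _) (ξ i₀).h fun w => ?_
    let t := 𝒰.f i₀ w
    let O : (𝒰.X i₀).Opens := 𝒰.f i₀ ⁻¹ᵁ (𝒰.f (idx t)).opensRange
    have hr : Set.range (O.ι ≫ 𝒰.f i₀) ⊆ Set.range (𝒰.f (idx t)) := by
      rintro _ ⟨v, rfl⟩; exact v.2
    let m := IsOpenImmersion.lift (𝒰.f (idx t)) (O.ι ≫ 𝒰.f i₀) hr
    let W' : Over (Spec (CommRingCat.of k)) := AbDual.ovr (Over.mk (ξ i₀).a) O.ι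
    have hm : m ≫ (ξ (idx t)).a = W'.hom := by
      show _ = O.ι ≫ (ξ i₀).a
      rw [← ha, ← ha, IsOpenImmersion.lift_fac_assoc, Category.assoc]
    refine ⟨O, O.ι, inferInstance, ⟨⟨w, yidx t, hidx t⟩, rfl⟩, ?_⟩
    rw [z.pull_cls, show LB.pull (PicF.XTmap (str k X) (AbDual.ovrHom (Over.mk (ξ i₀).a) O.ι)) (ξ i₀).c =
      (ξ i₀).cls W' O.ι rfl from rfl, ← hov (idx t) i₀ W' m O.ι (IsOpenImmersion.lift_fac _ _ _) hm rfl]
    show _ = LB.pull _ (ξ (idx t)).c
    rw [← hcj t, LB.pull_XTmap_comp]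
    refine congrArg (fun g => LB.pull (PicF.XTmap (str k X) g) (lb N hN)) (Over.OverMorphism.ext ?_)
    show O.ι ≫ 𝒰.f i₀ = m ≫ Sigma.ι U t ≫ us
    rw [Sigma.ι_desc, IsOpenImmersion.lift_fac]
  · have hy' : ∀ i, mapP σ (𝒰.f i) ((toF σ T).symm y) = ξ i := fun i => by
      rw [← toF_symm_map]
      exact congrArg _ (hy (𝒰.f i) (.mk i))
    rw [← Equiv.symm_apply_eq]
    have hay : ((toF σ T).symm y).a = a := 𝒰.hom_ext _ _ fun i =>
      (congrArg PFam.a (hy' i)).trans (ha i).symm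
    refine PFam.ext' hay ?_
    refine eq_of_locally σ (PFam.sec_cls _ _ _ _) hds fun t => ?_
    refine ⟨_, 𝒰.f (idx t), inferInstance, ⟨yidx t, hidx t⟩, ?_⟩
    rw [PFam.pull_cls, ((toF σ T).symm y).cls_congr_map (Category.comp_id (𝒰.f (idx t))),
      show ((toF σ T).symm y).cls _ (𝒰.f (idx t)) _ = (mapP σ (𝒰.f (idx t)) ((toF σ T).symm y)).cls
        (AbDual.ovr T₀ (𝒰.f (idx t))) (𝟙 _) (by
          show 𝟙 _ ≫ 𝒰.f (idx t) ≫ ((toF σ T).symm y).a = 𝒰.f (idx t) ≫ a
          rw [Category.id_comp, hay]) by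
        rw [cls_mapP, ((toF σ T).symm y).cls_congr_map (Category.id_comp _)],
      PFam.cls_congr (hy' _)]
    show LB.pull _ (ξ (idx t)).c = _
    rw [← hcj t, LB.pull_XTmap_comp]
    refine congrArg (fun g => LB.pull (PicF.XTmap (str k X) g) (lb N hN)) (Over.OverMorphism.ext ?_)
    show 𝟙 _ ≫ Sigma.ι U t ≫ us = 𝒰.f (idx t)
    rw [Category.id_comp, Sigma.ι_desc]

variable (σ) in
/-- The sheaf of families. -/
def sheaf : Sheaf Scheme.zariskiTopology.{u} (Type u) :=
  ⟨functor σ, (isSheaf_iff_isSheaf_of_type _ _).2 isSheaf_functor⟩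

include hdim in
theorem isRepresentable : (functor σ).IsRepresentable := by
  obtain ⟨U, ξU, hξs, hξg, huniv⟩ := exists_good_rep hdim σ
  haveI := ClSmall.small_LB X
  let ι := Shrink.{u} (LB X)
  let d : ι → LB X := (equivShrink _).symm
  let η : ι → PFam σ U.left := fun i => ⟨U.hom, ξU / twist σ U (d i), by
    show secPull σ U _ = 1
    rw [map_div, hξs, sec_twist, div_self']⟩
  let χ : ι → (yoneda.obj U.left ⟶ functor σ) := fun i => yonedaEquiv.symm (toF σ U.left (η i))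
  have hχ : ∀ i {T : Scheme.{u}} (g : T ⟶ U.left), (χ i).app (op T) g = toF σ T (mapP σ g (η i)) :=
    fun i T g => map_toF g (η i)
  have hclass : ∀ i {T : Over (Spec (CommRingCat.of k))} (g : T ⟶ U),
      (η i).cls T g.left (Over.w g) = LB.pull (PicF.XTmap (str k X) g) ξU / twist σ T (d i) := by
    intro i T g
    show LB.pull (PicF.XTmap (str k X) g) (ξU / twist σ U (d i)) = _
    rw [map_div, pull_twist]
  have hgood : ∀ i {T : Scheme.{u}} (x : PFam σ T), ∀ t : T, ∀ (h : ∃ g, mapP σ g (η i) = x),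
      PicGood.GoodAt (PicF.XTproj (str k X) (Over.mk x.a))
        (Units.val (x.c * twist σ (Over.mk x.a) (d i))) t := by
    rintro i T x t ⟨g, hg⟩
    obtain ⟨ha, hc⟩ := exists_of_mapP_eq hg
    let G : Over.mk x.a ⟶ U := Over.homMk g ha
    have e : x.c * twist σ (Over.mk x.a) (d i) = LB.pull (PicF.XTmap (str k X) G) ξU := by
      rw [← hc.trans rfl, show LB.pull (PicF.XTmap (str k X) G) ξU =
        LB.pull (PicF.XTmap (str k X) G) ξU / twist σ (Over.mk x.a) (d i) * twist σ (Over.mk x.a) (d i) from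
          (div_mul_cancel _ _).symm, ← pull_twist σ G, ← map_div]
      rfl
    rw [e]
    exact hξg.pull G t
  have huniq : ∀ i {T : Scheme.{u}} (g g' : T ⟶ U.left), mapP σ g (η i) = mapP σ g' (η i) → g = g' := by
    intro i T g g' h
    obtain ⟨ha, hc⟩ := exists_of_mapP_eq h
    let G : Over.mk (g' ≫ U.hom) ⟶ U := Over.homMk g ha
    let G' : Over.mk (g' ≫ U.hom) ⟶ U := Over.homMk g' rfl
    have h1 : LB.pull (PicF.XTmap (str k X) G) (ξU / twist σ U (d i)) =
        LB.pull (PicF.XTmap (str k X) G') (ξU / twist σ U (d i)) := hc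
    rw [map_div, map_div, pull_twist, pull_twist, div_left_inj] at h1
    exact congrArg (fun m : Over.mk (g' ≫ U.hom) ⟶ U => m.left)
      ((huniv _ _ (secPull_pull_eq_one σ _ hξs) (hξg.pull _)).unique h1 rfl)
  have hlocus : ∀ i {T : Scheme.{u}} (x : PFam σ T), ∃ O : T.Opens,
      (∀ t : T, t ∈ O ↔ PicGood.GoodAt (PicF.XTproj (str k X) (Over.mk x.a))
        (Units.val (x.c * twist σ (Over.mk x.a) (d i))) t) ∧
      ∃ g, mapP σ g (η i) = mapP σ O.ι x := by
    intro i T x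
    let O : T.Opens := ⟨{t | PicGood.GoodAt (PicF.XTproj (str k X) (Over.mk x.a))
        (Units.val (x.c * twist σ (Over.mk x.a) (d i))) t},
      isOpen_iff_forall_mem_open.2 fun t ht => by
        obtain ⟨V, j, hj, htj, hg, -⟩ := exists_local_div hdim (T := Over.mk x.a) _ t ht
        refine ⟨Set.range j, ?_, hj.base_open.isOpen_range, htj⟩
        rintro _ ⟨v, rfl⟩
        exact hg v⟩
    refine ⟨O, fun t => Iff.rfl, ?_⟩
    let T₀ : Over (Spec (CommRingCat.of k)) := Over.mk (O.ι ≫ x.a)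
    let m : T₀ ⟶ Over.mk x.a := Over.homMk O.ι rfl
    have hc : Good (LB.pull (PicF.XTmap (str k X) m) (x.c * twist σ (Over.mk x.a) (d i))) :=
      fun u => (goodAt_pull m _ u).2 u.2
    have hs : secPull σ T₀ (LB.pull (PicF.XTmap (str k X) m) (x.c * twist σ (Over.mk x.a) (d i))) = 1 :=
      secPull_pull_eq_one σ m (by rw [map_mul, x.h, sec_twist, mul_one])
    obtain ⟨g, hg, -⟩ := huniv T₀ _ hs hc
    refine ⟨g.left, mapP_eq (η i) (mapP σ O.ι x) g ?_⟩
    show LB.pull (PicF.XTmap (str k X) g) (ξU / twist σ U (d i)) = LB.pull (PicF.XTmap (str k X) m) x.c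
    rw [map_div, hg, map_mul, pull_twist, pull_twist, mul_div_cancel_right]
  have hopen : ∀ i, IsOpenImmersion.presheaf (χ i) := fun i => by
    refine MorphismProperty.relative.of_exists fun T g => ?_
    let x : PFam σ T := (toF σ T).symm (yonedaEquiv g)
    have hg : ∀ {T' : Scheme.{u}} (m : T' ⟶ T), g.app (op T') m = toF σ T' (mapP σ m x) := fun m => by
      show g.app _ m = _
      rw [← map_toF, Equiv.apply_symm_apply]
      have : g.app _ m = (functor σ).map m.op (yonedaEquiv g) := by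
        rw [yonedaEquiv_naturality, yonedaEquiv_apply]
        simp
      exact this
    obtain ⟨O, hO, gW, hgW⟩ := hlocus i x
    refine ⟨O.toScheme, yoneda.map gW, O.ι, IsPullback.of_forall_isPullback_app fun T' => ?_, inferInstance⟩
    rw [Types.isPullback_iff]
    refine ⟨?_, fun m m' hm => (cancel_mono O.ι).mp hm.2, fun b (m : T'.unop ⟶ T) hbm => ?_⟩
    · ext m
      show (χ i).app (op T'.unop) (m ≫ gW) = g.app (op T'.unop) (m ≫ O.ι)
      rw [hχ, hg, mapP_comp gW m, mapP_comp O.ι m, hgW]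
    · have hbm' : mapP σ b (η i) = mapP σ m x := (toF σ _).injective ((hχ i b).symm.trans (hbm.trans (hg m)))
      have hr : Set.range m ⊆ Set.range O.ι := by
        rw [Scheme.Opens.range_ι]
        rintro _ ⟨v, rfl⟩
        refine (hO _).2 ((goodAt_pull (Over.homMk m rfl : Over.mk (m ≫ x.a) ⟶ Over.mk x.a) _ v).1 ?_)
        rw [map_mul, pull_twist]
        exact hgood i (mapP σ m x) v ⟨b, hbm'⟩
      refine ⟨IsOpenImmersion.lift O.ι m hr, huniq i _ _ ?_, IsOpenImmersion.lift_fac _ _ _⟩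
      show mapP σ (IsOpenImmersion.lift O.ι m hr ≫ gW) (η i) = mapP σ b (η i)
      rw [hbm', mapP_comp gW, hgW, ← mapP_comp O.ι, IsOpenImmersion.lift_fac]
  have : Presheaf.IsLocallySurjective Scheme.zariskiTopology (Sigma.desc χ) := by
    refine ⟨fun {T} y => ?_⟩
    let x : PFam σ T := (toF σ T).symm y
    have hx : ∀ t : T, ∃ (i : ι) (O : T.Opens), t ∈ O ∧ ∃ g, mapP σ g (η i) = mapP σ O.ι x := fun t => by
      obtain ⟨d₀, hd₀⟩ := exists_twist_good hdim σ (Over.mk x.a) x.c t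
      obtain ⟨O, hO, hg⟩ := hlocus (equivShrink _ d₀) x
      refine ⟨equivShrink _ d₀, O, (hO t).2 ?_, hg⟩
      show PicGood.GoodAt _ (Units.val (x.c * twist σ (Over.mk x.a) ((equivShrink _).symm (equivShrink _ d₀)))) t
      rwa [Equiv.symm_apply_apply]
    choose c O htO gW hgW using hx
    let 𝒰 : T.OpenCover := T.openCoverOfIsOpenCover O
      (IsOpenCover.mk (eq_top_iff.mpr fun t _ => Opens.mem_iSup.mpr ⟨t, htO t⟩))
    refine GrothendieckTopology.superset_covering _ ?_ 𝒰.mem_grothendieckTopology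
    rintro T' g ⟨_, m, _, ⟨t⟩, rfl⟩
    refine ⟨(Sigma.ι (fun _ : ι => yoneda.obj U.left) (c t)).app (op T') (m ≫ gW t), ?_⟩
    rw [← NatTrans.comp_app_apply, Sigma.ι_desc, hχ, mapP_comp, hgW, ← mapP_comp]
    rw [← map_toF, Equiv.apply_symm_apply]
    rfl
  exact @Scheme.LocalRepresentability.isRepresentable (sheaf σ) _ _ χ hopen this

include hdim in
/-- The rigidified Picard functor of the curve is representable. -/
theorem rigRepresentable : PicF.RigRepresentable (str k X) σ.1 σ.2 := by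
  obtain ⟨P, ⟨r⟩⟩ := isRepresentable hdim (σ := σ)
  let z : PFam σ P := (toF σ P).symm (r.homEquiv (𝟙 P))
  have key : ∀ {T : Scheme.{u}} (g : T ⟶ P), (toF σ T).symm (r.homEquiv g) = mapP σ g z := fun {T} g => by
    have := r.homEquiv_comp g (𝟙 P)
    rw [Category.comp_id] at this
    rw [this, toF_symm_map]
  obtain ⟨N, hN, hzN⟩ := z.c.exists_rep
  refine ⟨Over.mk z.a, ⟨(z.c : PicF.Cl _), ⟨N, hzN.symm, hN⟩, isTrivialCl_sec z.h⟩, fun T c => ?_⟩
  obtain ⟨L, hLc, hL⟩ := c.2.1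
  let x : PFam σ T.left := ⟨T.hom, (lb L hL : LB (PicF.XT (str k X) (Over.mk T.hom))), Units.ext (by
    rw [LB.pull_val, lb_val, hLc]
    exact c.2.2)⟩
  obtain ⟨g, hg⟩ := r.homEquiv.surjective (toF σ _ x)
  have hgx : mapP σ g z = x := by rw [← key, hg, Equiv.symm_apply_apply]
  have hcls : ∀ G : T ⟶ Over.mk z.a, (mapP σ G.left z = x) ↔
      PicF.pullCl (PicF.XTmap (str k X) G) (z.c : PicF.Cl _) = c.1 := fun G => by
    rw [← LB.pull_val, ← hLc, ← lb_val L hL, Units.val_inj]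
    refine ⟨fun h => ?_, fun h => mapP_eq z x (G : Over.mk x.a ⟶ Over.mk z.a) h⟩
    obtain ⟨hG, h'⟩ := exists_of_mapP_eq h
    exact h'
  refine ⟨Over.homMk g (congrArg PFam.a hgx), (hcls _).1 hgx, fun G' hG' => ?_⟩
  refine Over.OverMorphism.ext (r.homEquiv.injective ((toF σ T.left).symm.injective ?_))
  show (toF σ T.left).symm (r.homEquiv G'.left) = (toF σ T.left).symm (r.homEquiv g)
  rw [key, key, hgx]
  exact (hcls G').2 hG'

end Groth.Agent.PicFRel.PicRep
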