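import Groth.Agent.InvX.Tensor
import Groth.Agent.InvX.GenLocusPull
import Groth.Agent.H23.TrivBasic
import Groth.Agent.H23.PicMul
import Groth.Prelude.Def_Pi1
import Mathlib.RingTheory.Etale.Field
import Mathlib.FieldTheory.PurelyInseparable.PerfectClosure
import Mathlib.AlgebraicGeometry.Morphisms.Etale

/-!
# Invertible modules of order the characteristic, pulled back along finite etale maps

On a normal integral scheme of characteristic `p` an invertible module with trivial `p`-th power
which becomes trivial along a finite etale cover whose units have `p`-th roots is trivial.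
-/

universe u

open CategoryTheory CategoryTheory.Limits AlgebraicGeometry TopologicalSpace Opposite
open scoped TensorProduct

set_option backward.isDefEq.respectTransparency false
set_option backward.isDefEq.respectTransparency.types false
set_option linter.style.haveILetI false

namespace Groth.Agent.PicFRel.RootDescent

open Groth.Agent.InvX Groth.Agent.H23.TrivBasic

/-- A `p`-th root of an element of an integrally closed domain, in an etale algebra, is in the domain. -/
theorem exists_algebraMap_eq {R S : Type u} [CommRing R] [IsDomain R] [IsIntegrallyClosed R] [CommRing S]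
    [Algebra R S] [Algebra.Etale R S] [Module.Flat R S] (hinj : Function.Injective (algebraMap R S))
    (p : ℕ) [Fact p.Prime] [CharP R p] {c : S} {a : R} (hc : c ^ p = algebraMap R S a) :
    ∃ r : R, algebraMap R S r = c := by
  haveI : Nontrivial S := hinj.nontrivial
  let K := FractionRing R
  haveI : CharP K p := charP_of_injective_algebraMap (IsFractionRing.injective R K) p
  haveI : ExpChar K p := ExpChar.prime Fact.out
  have hR : Function.Injective (Algebra.linearMap R K) := IsFractionRing.injective R K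
  have hS : Function.Injective (Algebra.TensorProduct.includeRight : S →ₐ[R] K ⊗[R] S) := by
    intro s t h
    refine (TensorProduct.lid R S).symm.injective ?_
    exact Module.Flat.rTensor_preserves_injective_linearMap _ hR (by simpa using h)
  obtain ⟨I, _, Ai, _, _, e, hsep⟩ :=
    (Algebra.FormallyEtale.iff_exists_algEquiv_prod K (K ⊗[R] S)).1 inferInstance
  haveI : Nontrivial (K ⊗[R] S) := hS.nontrivial
  let x : K ⊗[R] S := Algebra.TensorProduct.includeRight c
  have hx : x ^ p = algebraMap K (K ⊗[R] S) (algebraMap R K a) := by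
    rw [show x ^ p = Algebra.TensorProduct.includeRight (c ^ p) from (map_pow _ c p).symm, hc,
      AlgHom.commutes, ← IsScalarTower.algebraMap_apply]
  have hroot : ∀ i, ∃ y : K, algebraMap K (Ai i) y = e x i ∧ y ^ p = algebraMap R K a := by
    intro i
    have hi : (e x i) ^ p = algebraMap K (Ai i) (algebraMap R K a) := by
      rw [← Pi.pow_apply, ← map_pow, hx, AlgEquiv.commutes]
      rfl
    haveI := hsep i
    have h1 : e x i ∈ (⊥ : IntermediateField K (Ai i)) := by
      have h2 : IntermediateField.adjoin K {(e x i) ^ p} = ⊥ :=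
        IntermediateField.adjoin_simple_eq_bot_iff.2 (IntermediateField.mem_bot.2 ⟨_, hi.symm⟩)
      rw [← h2, ← IntermediateField.adjoin_simple_eq_adjoin_pow_expChar_of_isSeparable' K (Ai i) (e x i) p]
      exact IntermediateField.mem_adjoin_simple_self K _
    obtain ⟨y, hy⟩ := IntermediateField.mem_bot.1 h1
    exact ⟨y, hy, (algebraMap K (Ai i)).injective (by rw [map_pow, hy, hi])⟩
  obtain ⟨i₀⟩ : Nonempty I := by
    by_contra h
    rw [not_nonempty_iff] at h
    exact not_subsingleton (K ⊗[R] S) (e.toEquiv.subsingleton)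
  choose y hy hyp using hroot
  haveI : IsReduced K := inferInstance
  have hy0 : ∀ i, y i = y i₀ := fun i => frobenius_inj K p (show y i ^ p = y i₀ ^ p by rw [hyp, hyp])
  have hint : IsIntegral R (y i₀) :=
    IsIntegral.of_pow (Fact.out : p.Prime).pos ((hyp i₀).symm ▸ isIntegral_algebraMap)
  obtain ⟨r, hr⟩ := IsIntegrallyClosed.isIntegral_iff.1 hint
  refine ⟨r, hS (e.injective (funext fun i => ?_))⟩
  rw [AlgHom.commutes, IsScalarTower.algebraMap_apply R K (K ⊗[R] S), hr, AlgEquiv.commutes, ← hy0 i]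
  exact hy i

section Pow

variable {X : Scheme.{u}} {L : X.Modules}

/-- The powers of a section. -/
noncomputable def powElt {U : X.Opens} (e : Γ(L, U)) : ∀ n : ℕ, Γ(CohB1.tensorPow L n, U)
  | 0 => (1 : Γ(X, U))
  | n + 1 => tmul (powElt e n) e

theorem res_powElt {U V : X.Opens} (h : V ≤ U) (e : Γ(L, U)) :
    ∀ n : ℕ, AModX.res (CohB1.tensorPow L n) h (powElt e n) = powElt (AModX.res L h e) n
  | 0 => map_one (AModX.resR h)
  | n + 1 => by
    show AModX.res (CohB1.tensorMod _ L) h (tmul (powElt e n) e) = _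
    rw [res_tmul, res_powElt h e n]
    rfl

theorem powElt_smul {U : X.Opens} (g : Γ(X, U)) (e : Γ(L, U)) :
    ∀ n : ℕ, powElt (g • e) n = g ^ n • powElt e n
  | 0 => by rw [pow_zero, one_smul]; rfl
  | n + 1 => by
    show tmul (powElt (g • e) n) (g • e) = g ^ (n + 1) • tmul (powElt e n) e
    rw [powElt_smul g e n, tmul_smul_left, tmul_smul_right, smul_smul, pow_succ]

theorem isFrame_powElt {U : X.Opens} {e : Γ(L, U)} (he : IsFrame e) : ∀ n : ℕ, IsFrame (powElt e n)
  | 0 => isFrame_one U
  | n + 1 => isFrame_tmul (isFrame_powElt he n) he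

/-- Two frames differ by a unit. -/
theorem exists_unit {U : X.Opens} {e e' : Γ(L, U)} (he : IsFrame e) (he' : IsFrame e') :
    ∃ g : Γ(X, U), IsUnit g ∧ e' = g • e := by
  obtain ⟨g, hg⟩ := he.exists_coord le_rfl e'
  obtain ⟨g', hg'⟩ := he'.exists_coord le_rfl e
  rw [AModX.res_self] at hg hg'
  refine ⟨g, IsUnit.of_mul_eq_one g' (he.coord_unique le_rfl ?_), hg⟩
  rw [AModX.res_self, one_smul, mul_comm, mul_smul, ← hg, ← hg']

end Pow

theorem mul_inv_cancel_left' {A : Type*} [CommMonoid A] {a : A} (h : IsUnit a) (b : A) :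
    a * (↑h.unit⁻¹ * b) = b := by rw [← mul_assoc, IsUnit.mul_val_inv, one_mul]

/-- Restriction of pulled back functions. -/
theorem resR_app {X Y : Scheme.{u}} (f : X ⟶ Y) {U V : Y.Opens} (h : V ≤ U) (r : Γ(Y, U)) :
    AModX.resR (f.preimage_mono h) (f.app U r) = f.app V (AModX.resR h r) :=
  (ConcreteCategory.congr_hom (f.naturality (homOfLE h).op) r).symm

/-- A surjective morphism to a reduced scheme is injective on sections. -/
theorem app_injective {X Y : Scheme.{u}} [IsReduced Y] (f : X ⟶ Y) [Surjective f] (U : Y.Opens) :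
    Function.Injective (f.app U) := by
  refine (injective_iff_map_eq_zero _).2 fun h hh => ?_
  refine (basicOpen_eq_bot_iff h).1 ?_
  ext1
  refine Set.eq_empty_iff_forall_notMem.2 fun y hy => ?_
  obtain ⟨x, rfl⟩ := f.surjective y
  have : x ∈ f ⁻¹ᵁ Y.basicOpen h := hy
  rw [Scheme.preimage_basicOpen, show f.app U h = 0 from hh, Scheme.basicOpen_zero] at this
  exact this

variable {X X' : Scheme.{u}}

/-- The main descent statement. -/
theorem triv_of_pullback [IsIntegral X] (hnorm : Pi1.IsNormalScheme X) (p : ℕ) [Fact p.Prime]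
    [CharP (Γ(X, ⊤) : Type u) p] [Nonempty X']
    (hroot : ∀ u : (Γ(X', ⊤) : Type u), IsUnit u → ∃ v : (Γ(X', ⊤) : Type u), v ^ p = u)
    (f : X' ⟶ X) [IsFinite f] [Etale f] (M : X.Modules) (hM : PicF.IsInvertible M)
    (hpow : Triv (CohB1.tensorPow M p)) (hpull : Triv ((Scheme.Modules.pullback f).obj M)) : Triv M := by
  haveI : Surjective f := by
    constructor
    refine Set.range_eq_univ.1 ?_
    exact IsClopen.eq_univ ⟨f.isClosedMap.isClosed_range, f.isOpenMap.isOpen_range⟩ (Set.range_nonempty _)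
  obtain ⟨τ, hτ⟩ := hpow.exists_frame
  obtain ⟨E, hE⟩ := hpull.exists_frame
  -- affine frames
  have hfr : ∀ x : X, ∃ U : X.Opens, IsAffineOpen U ∧ x ∈ U ∧ ∃ e : Γ(M, U), IsFrame e := by
    intro x
    obtain ⟨U, hx, e, he⟩ := InvX.exists_frame hM x
    obtain ⟨_, ⟨V, hV, rfl⟩, hxV, hle⟩ := X.isBasis_affineOpens.exists_subset_of_mem_open hx U.isOpen
    exact ⟨V, hV, hxV, _, he.res (show V ≤ U from hle)⟩
  choose U hU hxU e he using hfr
  have hb : ∀ x, ∃ b : Γ(X', f ⁻¹ᵁ U x), IsUnit b ∧
      pullElt f (e x) = b • AModX.res _ (le_top : f ⁻¹ᵁ U x ≤ ⊤) E := fun x =>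
    exists_unit (hE.res le_top) (isFrame_pullElt f (he x))
  choose b hbu hb using hb
  have ha : ∀ x, ∃ a : Γ(X, U x), IsUnit a ∧
      powElt (e x) p = a • AModX.res _ (le_top : U x ≤ ⊤) τ := fun x =>
    exists_unit (hτ.res le_top) (isFrame_powElt (he x) p)
  choose a hau ha using ha
  -- the cocycle identities
  have hcoc : ∀ x y, ∀ (W : X.Opens) (hx : W ≤ U x) (hy : W ≤ U y),
      ∃ g : Γ(X, W), AModX.res M hx (e x) = g • AModX.res M hy (e y) ∧
        AModX.resR hx (a x) = g ^ p * AModX.resR hy (a y) ∧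
        AModX.resR (f.preimage_mono hx) (b x) = f.app W g * AModX.resR (f.preimage_mono hy) (b y) := by
    intro x y W hx hy
    obtain ⟨g, hg⟩ := (he y).exists_coord hy (AModX.res M hx (e x))
    refine ⟨g, hg, (hτ.res (le_top : W ≤ ⊤)).coord_unique le_rfl ?_,
      (hE.res (le_top : f ⁻¹ᵁ W ≤ ⊤)).coord_unique le_rfl ?_⟩
    · simp only [AModX.res_self]
      have h1 := congrArg (fun s => powElt s p) hg
      simp only [powElt_smul, ← res_powElt, ha, AModX.res_smul, AModX.res_res, smul_smul] at h1
      exact h1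
    · simp only [AModX.res_self]
      have h1 := congrArg (pullElt f) hg
      simp only [pullElt_smul, ← res_pullElt f, hb, AModX.res_smul, AModX.res_res, smul_smul] at h1
      exact h1
  -- the glued unit and its root
  let O := Coh.structureModule X'
  have hfa : ∀ x, IsUnit (f.app (U x) (a x)) := fun x => (hau x).map _
  let s : ∀ x, Γ(X', f ⁻¹ᵁ U x) := fun x => ↑(hfa x).unit⁻¹ * b x ^ p
  obtain ⟨u, hu, -⟩ := AModX.existsUnique_glue (M := O) (V := ⊤) (fun x => f ⁻¹ᵁ U x) (fun _ => le_top)
    (fun q _ => ⟨f q, hxU _⟩) s fun x y => by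
      let W := U x ⊓ U y
      obtain ⟨g, -, hga, hgb⟩ := hcoc x y W inf_le_left inf_le_right
      show AModX.resR (f.preimage_mono (inf_le_left : W ≤ U x)) _ =
        AModX.resR (f.preimage_mono (inf_le_right : W ≤ U y)) _
      have hax : AModX.resR (f.preimage_mono (inf_le_left : W ≤ U x)) (f.app (U x) (a x)) =
          f.app W g ^ p * AModX.resR (f.preimage_mono (inf_le_right : W ≤ U y)) (f.app (U y) (a y)) := by
        have := congrArg (f.app W) hga
        rw [map_mul, map_pow] at this
        rw [resR_app, resR_app]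
        exact this
      refine ((hfa x).map (AModX.resR (f.preimage_mono (inf_le_left : W ≤ U x)))).mul_left_cancel ?_
      simp only [s]
      rw [← map_mul, mul_inv_cancel_left', map_pow, hgb, mul_pow, hax, mul_assoc, ← map_mul,
        mul_inv_cancel_left', map_pow]
  have huu : IsUnit (show Γ(X', ⊤) from u) := by
    refine X'.toLocallyRingedSpace.toRingedSpace.isUnit_of_isUnit_germ ⊤ _ fun q _ => ?_
    have hq : q ∈ f ⁻¹ᵁ U (f q) := hxU _
    have hsu : IsUnit (s (f q)) :=
      ((hfa (f q)).unit⁻¹.isUnit).mul ((hbu (f q)).pow p)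
    have hu' : X'.presheaf.map (homOfLE (le_top : f ⁻¹ᵁ U (f q) ≤ ⊤)).op u = s (f q) := hu (f q)
    rw [← hu'] at hsu
    have := hsu.map (X'.presheaf.germ (f ⁻¹ᵁ U (f q)) q hq).hom
    rwa [TopCat.Presheaf.germ_res_apply] at this
  obtain ⟨v, hv⟩ := hroot _ huu
  have hvu : IsUnit v := (isUnit_pow_iff (Fact.out : p.Prime).ne_zero).1 (hv ▸ huu)
  -- the roots descend
  have hc : ∀ x, ∃ r : Γ(X, U x), IsUnit r ∧
      AModX.resR (le_top : f ⁻¹ᵁ U x ≤ ⊤) v * f.app (U x) r = b x := by
    intro x
    haveI : Nonempty (U x) := ⟨⟨x, hxU x⟩⟩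
    letI := (f.app (U x)).hom.toAlgebra
    haveI : Algebra.Etale Γ(X, U x) Γ(X', f ⁻¹ᵁ U x) := by
      have h' := HasRingHomProperty.appLE @Etale f inferInstance ⟨U x, hU x⟩ ⟨_, (hU x).preimage f⟩ le_rfl
      change (f.app (U x)).hom.Etale
      rw [Scheme.Hom.app_eq_appLE]
      exact h'
    haveI : IsIntegrallyClosed Γ(X, U x) := by
      refine IsIntegrallyClosed.of_localization_maximal fun P _ hP => ?_
      let q : PrimeSpectrum Γ(X, U x) := ⟨P, hP.isPrime⟩
      have hq : (hU x).fromSpec q ∈ U x := (hU x).opensRange_fromSpec.le ⟨q, rfl⟩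
      letI := TopCat.Presheaf.algebra_section_stalk X.presheaf (⟨(hU x).fromSpec q, hq⟩ : U x)
      haveI : IsLocalization.AtPrime (X.presheaf.stalk ((hU x).fromSpec q)) P := (hU x).isLocalization_stalk' q hq
      haveI := (hnorm ((hU x).fromSpec q)).2
      exact IsIntegrallyClosed.of_equiv (IsLocalization.algEquiv P.primeCompl
        (X.presheaf.stalk ((hU x).fromSpec q)) (Localization.AtPrime P)).toRingEquiv
    haveI : CharP Γ(X, U x) p := charP_of_injective_ringHom
      (f := (X.presheaf.map (homOfLE (le_top : U x ≤ ⊤)).op).hom) (map_injective_of_isIntegral _ _) p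
    have hvx : IsUnit (AModX.resR (le_top : f ⁻¹ᵁ U x ≤ ⊤) v) := hvu.map _
    have hroot' : (↑hvx.unit⁻¹ * b x) ^ p = algebraMap Γ(X, U x) Γ(X', f ⁻¹ᵁ U x) (a x) := by
      refine (hvx.pow p).mul_left_cancel ?_
      rw [← mul_pow, mul_inv_cancel_left', ← map_pow, hv]
      show b x ^ p = AModX.resR (le_top : f ⁻¹ᵁ U x ≤ ⊤) (show Γ(X', ⊤) from u) * f.app (U x) (a x)
      rw [show AModX.resR (le_top : f ⁻¹ᵁ U x ≤ ⊤) (show Γ(X', ⊤) from u) = s x from hu x]
      show b x ^ p = ↑(hfa x).unit⁻¹ * b x ^ p * f.app (U x) (a x)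
      rw [mul_comm, ← mul_assoc, IsUnit.mul_val_inv, one_mul]
    obtain ⟨r, hr⟩ := exists_algebraMap_eq (app_injective f (U x)) p hroot'
    refine ⟨r, (isUnit_pow_iff (Fact.out : p.Prime).ne_zero).1 ?_, ?_⟩
    · have : r ^ p = a x := app_injective f (U x) (by
        rw [map_pow]
        exact (congrArg (· ^ p) hr).trans hroot')
      exact this.symm ▸ hau x
    · rw [show f.app (U x) r = _ from hr, mul_inv_cancel_left']
  choose r hru hr using hc
  let e' : ∀ x, Γ(M, U x) := fun x => (↑(hru x).unit⁻¹ : Γ(X, U x)) • e x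
  have hpull' : ∀ x, pullElt f (e' x) =
      AModX.resR (le_top : f ⁻¹ᵁ U x ≤ ⊤) v • AModX.res _ (le_top : f ⁻¹ᵁ U x ≤ ⊤) E := fun x => by
    rw [pullElt_smul, hb, smul_smul, ← hr, mul_left_comm, ← map_mul, IsUnit.val_inv_mul, map_one, mul_one]
  have he' : ∀ x, IsFrame (e' x) := fun x => (he x).isUnit_smul (Units.isUnit _)
  obtain ⟨T, hT, -⟩ := AModX.existsUnique_glue (M := M) (V := ⊤) U (fun _ => le_top) (fun q _ => ⟨q, hxU q⟩) e'
    fun x y => by
      let W := U x ⊓ U y
      obtain ⟨h, hh⟩ := (he' y).exists_coord (inf_le_right : W ≤ U y) (AModX.res M inf_le_left (e' x))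
      have h1 := congrArg (pullElt f) hh
      rw [pullElt_smul, ← res_pullElt f, ← res_pullElt f, hpull', hpull', AModX.res_smul, AModX.res_smul,
        AModX.res_res, AModX.res_res, AModX.resR_resR, AModX.resR_resR, smul_smul] at h1
      have hfr := (hE.res (le_top : f ⁻¹ᵁ W ≤ ⊤))
      have h2 : (1 : Γ(X', f ⁻¹ᵁ W)) * AModX.resR le_top v = f.app W h * AModX.resR le_top v :=
        hfr.coord_unique le_rfl (by simpa only [one_mul, AModX.res_self] using h1)
      have h3 : h = 1 := app_injective f W (((hvu.map _).mul_right_cancel h2).symm.trans (map_one _).symm)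
      rw [h3, one_smul] at hh
      exact hh
  refine triv_of_frame (e := T) (isFrame_of_germwise fun q _ => ⟨U q, le_top, hxU q, ?_⟩)
  rw [hT]
  exact he' q

end Groth.Agent.PicFRel.RootDescent
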