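import Groth.Agent.H23.Seesaw
import Groth.Agent.PicFRel.CxLift
import Groth.Agent.PicFRel.BcZero

/-!
# A generating section near a fibre with one section and no first cohomology
-/

set_option autoImplicit false
set_option linter.style.haveILetI false
set_option backward.isDefEq.respectTransparency.types false

universe u

open CategoryTheory CategoryTheory.Limits AlgebraicGeometry TopologicalSpace Opposite TensorProduct

namespace Groth.Agent.PicFRel.SectGen

open Groth.Agent Groth.Agent.H23 Groth.Agent.H23.SecRep Groth.Agent.QCoh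

variable {A : Type u} [CommRing A] [IsNoetherianRing A] {X : Scheme.{u}} [X.Over (Spec (CommRingCat.of A))]
  [IsProper (X ↘ Spec (CommRingCat.of A))]

/-- The fibre over a prime has no first cohomology. -/
def FibreVanishOne (F : X.Modules) (x : PrimeSpectrum A) : Prop :=
  Subsingleton (Coh.HH (Seesaw.fibreOf A X x)
    ((Scheme.Modules.pullback (pullback.fst (X ↘ Spec (CommRingCat.of A))
      (Seesaw.specAlg A x.asIdeal.ResidueField))).obj F) 1)

omit [IsNoetherianRing A] [IsProper (X ↘ Spec (CommRingCat.of A))] in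
theorem exact_fibre (F : X.Modules) (hq : Coh.IsQCoh F) {ι : Type u} [Finite ι] (U : ι → X.Opens)
    (hcov : ⨆ i, U i = ⊤) (hU : ∀ {p : ℕ} (σ : Fin (p + 1) → ι), IsAffineOpen (⨅ a, U (σ a)))
    (x : PrimeSpectrum A) (hx : FibreVanishOne F x) :
    Function.Exact (((cechA (A := A) F U).d 0 1).hom.rTensor x.asIdeal.ResidueField)
      (((cechA (A := A) F U).d 1 2).hom.rTensor x.asIdeal.ResidueField) := by
  let k := x.asIdeal.ResidueField
  let φ := pullback.fst (X ↘ Spec (CommRingCat.of A)) (Seesaw.specAlg A k)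
  let pB := pullback.snd (X ↘ Spec (CommRingCat.of A)) (Seesaw.specAlg A k)
  have hpb : IsPullback φ pB (X ↘ Spec (CommRingCat.of A)) (Spec.map (CommRingCat.ofHom (algebraMap A k))) :=
    IsPullback.of_hasPullback _ _
  let F' := (Scheme.Modules.pullback φ).obj F
  let η : F ⟶ (Scheme.Modules.pushforward φ).obj F' :=
    (Scheme.Modules.pullbackPushforwardAdjunction φ).unit.app F
  let ρ := Coh.toGlobal (X ↘ Spec (CommRingCat.of A))
  let ρ' := Coh.toGlobal pB
  let U' := fun i => φ ⁻¹ᵁ U i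
  have hρ := toGlobal_comm (X ↘ Spec (CommRingCat.of A)) pB φ hpb.w
  have hcov' : ⨆ i, U' i = ⊤ := by rw [← Scheme.Hom.preimage_iSup, hcov]; rfl
  haveI : IsAffineHom φ := MorphismProperty.of_isPullback hpb.flip inferInstance
  have hU' : ∀ {p : ℕ} (σ : Fin (p + 1) → ι), IsAffineOpen (⨅ a, U' (σ a)) := fun {p} σ => by
    have e : (⨅ a, U' (σ a)) = φ ⁻¹ᵁ (⨅ a, U (σ a)) := by
      ext1
      simp [U', Opens.coe_iInf, Set.preimage_iInter]
    rw [e]
    exact (hU σ).preimage φ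
  have hbc : IsBC ρ ρ' U φ η hρ := by
    intro p σ W hW h
    obtain rfl : W = φ ⁻¹ᵁ ⨅ a, U (σ a) := by
      rw [hW]
      ext1
      simp [Opens.coe_iInf, Set.preimage_iInter]
    exact isAffineBC_of_isPullback hpb hq _ (hU σ)
  haveI := hq
  obtain ⟨e⟩ := cxMod_homology_equiv ρ' U' hcov' hU' (M := F') (QCoh.isQCoh_pullback φ hq) 1
  have h0 : ∀ y, ((cxMod ρ' U' F').d 1 2).hom y = 0 → y ∈ LinearMap.range ((cxMod ρ' U' F').d 0 1).hom :=
    (FlatCxLib.isZero_homology_iff (K := cxMod ρ' U' F') ((ComplexShape.up ℕ).prev_eq' rfl)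
      ((ComplexShape.up ℕ).next_eq' rfl)).1
      (ModuleCat.isZero_iff_subsingleton.2 (e.toEquiv.subsingleton_congr.2 hx))
  refine fun y => ⟨fun hy => ?_, ?_⟩
  · have h1 := cxBC_d ρ ρ' φ hρ U η 1 y
    change _ = cxBC ρ ρ' φ hρ U η (1 + 1) (((cechA (A := A) F U).d 1 (1 + 1)).hom.rTensor k y) at h1
    rw [hy, map_zero] at h1
    obtain ⟨c, hc⟩ := h0 _ h1
    obtain ⟨v, rfl⟩ := (cxBC_bijective ρ ρ' φ hρ U η hbc 0).2 c
    refine ⟨v, (cxBC_bijective ρ ρ' φ hρ U η hbc 1).1 ?_⟩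
    exact (cxBC_d ρ ρ' φ hρ U η 0 v).symm.trans hc
  · rintro ⟨v, rfl⟩
    rw [← LinearMap.comp_apply, ← LinearMap.rTensor_comp,
      show ((cechA (A := A) F U).d 1 2).hom ∘ₗ ((cechA (A := A) F U).d 0 1).hom = 0 from
        ModuleCat.hom_ext_iff.1 ((cechA (A := A) F U).d_comp_d 0 1 2),
      LinearMap.rTensor_zero, LinearMap.zero_apply]

/-- Sections over every algebra are forms on one finite module, and on a fibre without first cohomology
the forms lift from each thickening to the next. -/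
theorem exists_rep_lift (F : X.Modules) (hF : Coh.IsCoh F)
    (hfl : FlatMod.IsFlatOver (X ↘ Spec (CommRingCat.of A)) F) :
    ∃ (Q : ModuleCat.{u} A) (_ : Module.Finite A Q) (e : (Q →ₗ[A] A) ≃+ Γ(F, ⊤)), IsRep F Q e ∧
      ∀ x : PrimeSpectrum A, FibreVanishOne F x →
        ∀ (n : ℕ) (p : H23.SeesawMod.Thick x.asIdeal (n + 1) →ₗ[A] H23.SeesawMod.Thick x.asIdeal n),
          (∀ b : Localization.AtPrime x.asIdeal, p (Ideal.Quotient.mk _ b) = Ideal.Quotient.mk _ b) →
          ∀ φ : Q →ₗ[A] H23.SeesawMod.Thick x.asIdeal n,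
            ∃ ψ : Q →ₗ[A] H23.SeesawMod.Thick x.asIdeal (n + 1), p ∘ₗ ψ = φ := by
  haveI : CompactSpace X := QuasiCompact.compactSpace_of_compactSpace (X ↘ Spec (CommRingCat.of A))
  haveI : X.IsSeparated := ⟨by
    rw [← Limits.terminal.comp_from (X ↘ Spec (CommRingCat.of A))]
    infer_instance⟩
  have hq : Coh.IsQCoh F := hF.1
  obtain ⟨ι, _, U, hcov, hU⟩ := exists_affine_cover (X := X)
  obtain ⟨d, hd⟩ := exists_HH_bound (X := X)
  have hfin : ∀ p, Module.Finite A ((cechA (A := A) F U).homology p) := fun p => by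
    have hf : Module.Finite A (Coh.HH X F p) := Groth.Agent.S0002.result A X F hF p
    obtain ⟨e⟩ := cxMod_homology_equiv (Coh.toGlobal (X ↘ Spec (CommRingCat.of A))) U hcov hU hq p
    exact @Module.Finite.equiv _ _ _ _ _ _ _ _ hf e.symm
  obtain ⟨Q, hQ, eQ, hnat⟩ := RepMod.exists_repMod (cechA (A := A) F U) (flat_cechA F hq hfl hU) hfin d
    fun M p hp => by
      obtain ⟨e⟩ := nonempty_tfun_iso (A := A) F hq hcov hU p
      rw [HomologicalComplex.exactAt_iff_isZero_homology, ModuleCat.isZero_iff_subsingleton]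
      have : Subsingleton (Coh.HH X (tA F M) p) := hd _ (isQCoh_tA F hq M) p hp
      exact (e.app M).addCommGroupIsoToAddEquiv.toEquiv.subsingleton_congr.2 this
  let ρ := Coh.toGlobal (X ↘ Spec (CommRingCat.of A))
  let r := TensorProduct.rid A ((cechA (A := A) F U).X 0)
  have hr : ∀ z, ((cechA (A := A) F U).d 0 1).hom (r z) =
      TensorProduct.rid A _ (((cechA (A := A) F U).d 0 1).hom.rTensor A z) := by
    intro z
    induction z using TensorProduct.induction_on with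
    | zero => simp
    | add x y hx hy => simp only [map_add, hx, hy]
    | tmul c a => simp [r]
  let gl : Γ(F, ⊤) →+ LinearMap.ker (((cechA (A := A) F U).d 0 1).hom.rTensor A) :=
    AddMonoidHom.mk' (fun x => ⟨r.symm (glob ρ U F x), (TensorProduct.rid A _).injective (by
        rw [← hr, LinearEquiv.apply_symm_apply, map_zero]
        exact glob_mem ρ U F x)⟩)
      fun x y => Subtype.ext ((congrArg r.symm (glob_add ρ U F x y)).trans (map_add _ _ _))
  have hgl : Function.Bijective gl := by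
    refine ⟨fun x y h => glob_injective ρ U F hcov (r.symm.injective (congrArg Subtype.val h)), fun z => ?_⟩
    obtain ⟨x, hx⟩ := exists_glob ρ U F hcov (r z.1) (by rw [hr, LinearMap.mem_ker.1 z.2, map_zero])
    refine ⟨x, Subtype.ext ?_⟩
    show r.symm (glob ρ U F x) = z.1
    rw [hx, LinearEquiv.symm_apply_apply]
  let eA : (Q →ₗ[A] A) ≃+ Γ(F, ⊤) := (eQ A).toAddEquiv.trans (AddEquiv.ofBijective gl hgl).symm
  refine ⟨Q, hQ, eA, fun B _ _ X' φ pB hpb => ?_, ?_⟩
  rotate_left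
  · intro x hx n p hp φ₀
    haveI : Module.Flat A ((cechA (A := A) F U).X 2) := flat_cechA F hq hfl hU 2
    have hdd : ((cechA (A := A) F U).d 1 2).hom ∘ₗ ((cechA (A := A) F U).d 0 1).hom = 0 :=
      ModuleCat.hom_ext_iff.1 ((cechA (A := A) F U).d_comp_d 0 1 2)
    obtain ⟨y, hy0, hy⟩ := CxLift.exists_lift_thick _ _ hdd x (exact_fibre F hq U hcov hU x hx) n p hp
      (eQ _ φ₀).1 (LinearMap.mem_ker.1 (eQ _ φ₀).2)
    obtain ⟨ψ, hψ⟩ := (eQ (H23.SeesawMod.Thick x.asIdeal (n + 1))).surjective ⟨y, LinearMap.mem_ker.2 hy0⟩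
    refine ⟨ψ, (eQ _).injective (Subtype.ext ?_)⟩
    rw [hnat, hψ, hy]
  let η : F ⟶ (Scheme.Modules.pushforward φ).obj ((Scheme.Modules.pullback φ).obj F) :=
    (Scheme.Modules.pullbackPushforwardAdjunction φ).unit.app F
  let U' := fun i => φ ⁻¹ᵁ U i
  let F' := (Scheme.Modules.pullback φ).obj F
  let ρ' := Coh.toGlobal pB
  have hρ := toGlobal_comm (X ↘ Spec (CommRingCat.of A)) pB φ hpb.w
  have hcov' : ⨆ i, U' i = ⊤ := by rw [← Scheme.Hom.preimage_iSup, hcov]; rfl
  have hbc : IsBC ρ ρ' U φ η hρ := by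
    intro p σ W hW h
    obtain rfl : W = φ ⁻¹ᵁ ⨅ a, U (σ a) := by
      rw [hW]
      ext1
      simp [Opens.coe_iInf, Set.preimage_iInter]
    exact isAffineBC_of_isPullback hpb hq _ (hU σ)
  let Φ := fun p => AddEquiv.ofBijective _ (cxBC_bijective ρ ρ' φ hρ U η hbc p)
  let gl' : Γ(F', ⊤) →+ LinearMap.ker (((cechA (A := A) F U).d 0 1).hom.rTensor B) :=
    AddMonoidHom.mk' (fun x => ⟨(Φ 0).symm (glob ρ' U' F' x), (Φ 1).injective (by
        show cxBC ρ ρ' φ hρ U η (0 + 1) _ = cxBC ρ ρ' φ hρ U η (0 + 1) 0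
        rw [← cxBC_d, map_zero]
        show (cxMod ρ' U' F').d 0 1 (Φ 0 ((Φ 0).symm _)) = 0
        rw [AddEquiv.apply_symm_apply]
        exact glob_mem ρ' U' F' x)⟩)
      fun x y => Subtype.ext ((congrArg (Φ 0).symm (glob_add ρ' U' F' x y)).trans (map_add _ _ _))
  have hgl' : Function.Bijective gl' := by
    refine ⟨fun x y h => glob_injective ρ' U' F' hcov' ((Φ 0).symm.injective (congrArg Subtype.val h)),
      fun z => ?_⟩
    obtain ⟨x, hx⟩ := exists_glob ρ' U' F' hcov' (Φ 0 z.1) ((cxBC_d ρ ρ' φ hρ U η 0 z.1).trans (by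
      rw [show ((cxMod ρ U F).d 0 (0 + 1)).hom.rTensor B z.1 = 0 from LinearMap.mem_ker.1 z.2, map_zero]))
    refine ⟨x, Subtype.ext ?_⟩
    show (Φ 0).symm (glob ρ' U' F' x) = z.1
    rw [hx, AddEquiv.symm_apply_apply]
  let eB : (Q →ₗ[A] B) ≃+ Γ(F', ⊤) := (eQ B).toAddEquiv.trans (AddEquiv.ofBijective gl' hgl').symm
  have key : ∀ f, glob ρ' U' F' (eB f) = cxBC ρ ρ' φ hρ U η 0 (eQ B f).1 := by
    intro f
    have h : gl' (eB f) = eQ B f := (AddEquiv.ofBijective gl' hgl').apply_symm_apply _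
    exact ((Φ 0).apply_symm_apply _).symm.trans (congrArg (fun z => Φ 0 z.1) h)
  have keyA : ∀ f, glob ρ U F (eA f) = r (eQ A f).1 := by
    intro f
    have h : gl (eA f) = eQ A f := (AddEquiv.ofBijective gl hgl).apply_symm_apply _
    exact (r.apply_symm_apply _).symm.trans (congrArg (fun z => r z.1) h)
  refine ⟨eB, fun b f => glob_injective ρ' U' F' hcov' ?_, fun f => glob_injective ρ' U' F' hcov' ?_⟩
  · rw [key, glob_smul, key, hnat]
    exact cxBC_mul ρ ρ' φ hρ U η 0 b _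
  · rw [key, hnat, cxBC_algebraMap, ← keyA, cochainMap_glob (A := A) ρ ρ' φ U η]
    refine congrArg (glob ρ' U' F') ?_
    show secMap φ η _ (eA f) = _
    exact map_id' _ _


variable [Flat (X ↘ Spec (CommRingCat.of A))] {F : X.Modules}

/-- Forms on a finite module making a line at a prime and lifting to its thickenings give a form which
generates near the prime. -/
theorem exists_generating_form {Q : Type u} [AddCommGroup Q] [Module A Q] [Module.Finite A Q] (x : PrimeSpectrum A)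
    (h : Module.finrank x.asIdeal.ResidueField (Q →ₗ[A] x.asIdeal.ResidueField) = 1)
    (hlift : ∀ (n : ℕ) (p : H23.SeesawMod.Thick x.asIdeal (n + 1) →ₗ[A] H23.SeesawMod.Thick x.asIdeal n),
      (∀ b : Localization.AtPrime x.asIdeal, p (Ideal.Quotient.mk _ b) = Ideal.Quotient.mk _ b) →
      ∀ φ : Q →ₗ[A] H23.SeesawMod.Thick x.asIdeal n,
        ∃ ψ : Q →ₗ[A] H23.SeesawMod.Thick x.asIdeal (n + 1), p ∘ₗ ψ = φ) :
    ∃ (f : Q →ₗ[A] A) (c : A), c ∉ x.asIdeal ∧ ∀ (B : Type u) [CommRing B] [Algebra A B],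
      IsUnit (algebraMap A B c) →
        (∀ φ : Q →ₗ[A] B, ∃ b : B, φ = LinearMap.mulLeft A b ∘ₗ (Algebra.linearMap A B ∘ₗ f)) ∧
        ∀ b : B, LinearMap.mulLeft A b ∘ₗ (Algebra.linearMap A B ∘ₗ f) = 0 → b = 0 := by
  let k := x.asIdeal.ResidueField
  let R := Localization.AtPrime x.asIdeal
  let m := IsLocalRing.maximalIdeal R
  haveI : Nontrivial (Q →ₗ[A] k) := Module.nontrivial_of_finrank_pos (R := k) (by rw [h]; exact one_pos)
  have h0 : ∃ g : Q →ₗ[A] k, g ≠ 0 := exists_ne 0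
  have h1 : ∀ g g' : Q →ₗ[A] k, g ≠ 0 → ∃ c : k, g' = c • g := fun g g' hg =>
    ((finrank_eq_one_iff_of_nonzero' g hg).1 h g').imp fun c hc => hc.symm
  obtain ⟨g₀, hg₀⟩ := h0
  obtain ⟨q₁, hq₁⟩ : ∃ q, g₀ q ≠ 0 := by
    by_contra H
    push Not at H
    exact hg₀ (LinearMap.ext H)
  have hstep : ∀ n, ∃ g : Q →ₗ[A] H23.SeesawMod.Thick x.asIdeal (n + 1), IsUnit (g q₁) := by
    intro n
    induction n with
    | zero =>
      let e : k →ₗ[A] H23.SeesawMod.Thick x.asIdeal (0 + 1) :=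
        (Ideal.Quotient.factorₐ A (by rw [zero_add, pow_one] : m ≤ m ^ (0 + 1))).toLinearMap
      refine ⟨e ∘ₗ g₀, ?_⟩
      exact (isUnit_iff_ne_zero.2 hq₁).map
        (Ideal.Quotient.factor (by rw [zero_add, pow_one] : m ≤ m ^ (0 + 1)))
    | succ n ih =>
      obtain ⟨g, hg⟩ := ih
      obtain ⟨ψ, hψ⟩ := hlift (n + 1)
        (Ideal.Quotient.factorₐ A (Ideal.pow_le_pow_right (Nat.le_succ (n + 1)) : m ^ (n + 1 + 1) ≤ m ^ (n + 1))).toLinearMap
        (fun b => rfl) g
      refine ⟨ψ, ?_⟩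
      obtain ⟨b, hb⟩ := Ideal.Quotient.mk_surjective (ψ q₁)
      rw [← hψ] at hg
      have hg' : IsUnit (Ideal.Quotient.mk (m ^ (n + 1)) b) := by
        rw [LinearMap.comp_apply, ← hb] at hg
        exact hg
      rw [← hb]
      refine IsUnit.map _ ?_
      by_contra hbu
      have hbm : b ∈ m := (IsLocalRing.mem_maximalIdeal b).2 hbu
      have h01 : IsUnit (Ideal.Quotient.factor (Ideal.pow_le_self (Nat.succ_ne_zero n) : m ^ (n + 1) ≤ m)
          (Ideal.Quotient.mk (m ^ (n + 1)) b)) := hg'.map _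
      rw [Ideal.Quotient.factor_mk, Ideal.Quotient.eq_zero_iff_mem.2 hbm] at h01
      haveI : Nontrivial (R ⧸ m) := Ideal.Quotient.nontrivial_iff.2 (IsLocalRing.maximalIdeal.isMaximal R).ne_top
      exact not_isUnit_zero h01
  obtain ⟨f, hf⟩ := H23.SeesawMod.exists_form x ⟨g₀, hg₀⟩ h1 fun n => by
    rcases n with _ | n
    · refine ⟨0, fun b _ => ?_⟩
      haveI : Subsingleton (H23.SeesawMod.Thick x.asIdeal 0) :=
        Ideal.Quotient.subsingleton_iff.2 (by rw [pow_zero, Ideal.one_eq_top])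
      exact Subsingleton.elim _ _
    · obtain ⟨g, hg⟩ := hstep n
      refine ⟨g, fun b hb => hg.mul_left_eq_zero.1 ?_⟩
      exact LinearMap.congr_fun hb q₁
  obtain ⟨q₀, c, hc, hq⟩ := H23.SeesawMod.exists_generator x (H23.SeesawMod.fibreRank_eq_one x ⟨g₀, hg₀⟩ h1)
  have hfq : f q₀ ∉ x.asIdeal := fun hmem => hf (LinearMap.ext fun q => by
    obtain ⟨a, ha⟩ := hq q
    have h2 : c * f q = a * f q₀ := by
      simpa only [map_smul, smul_eq_mul] using congrArg f ha
    have h3 : c * f q ∈ x.asIdeal := h2 ▸ Ideal.mul_mem_left _ _ hmem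
    show algebraMap A k (f q) = 0
    rw [Ideal.algebraMap_residueField_eq_zero]
    exact (x.isPrime.mem_or_mem h3).resolve_left hc)
  refine ⟨f, c * f q₀, fun h' => (x.isPrime.mem_or_mem h').elim hc hfq, fun B _ _ hu => ?_⟩
  rw [map_mul, IsUnit.mul_iff] at hu
  obtain ⟨v, hv⟩ := hu.2
  refine ⟨fun φ => ⟨φ q₀ * ↑v⁻¹, LinearMap.ext fun q => hu.1.mul_left_cancel ?_⟩, fun b hb => ?_⟩
  · obtain ⟨a, ha⟩ := hq q
    show algebraMap A B c * φ q = algebraMap A B c * (φ q₀ * ↑v⁻¹ * algebraMap A B (f q))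
    have h2 : c * f q = a * f q₀ := by
      simpa only [map_smul, smul_eq_mul] using congrArg f ha
    rw [mul_left_comm, ← map_mul, h2, map_mul, ← hv, mul_assoc, mul_left_comm (↑v⁻¹ : B), Units.inv_mul, mul_one,
      ← Algebra.smul_def, ← map_smul, ha, map_smul, Algebra.smul_def, mul_comm]
  · have := LinearMap.congr_fun hb q₀
    exact hu.2.mul_left_eq_zero.1 this

/-- Near a prime whose fibre has one section and no first cohomology one section generates, over every
algebra, the sections of the module. -/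
theorem exists_section (hL : PicF.IsInvertible F) (x : PrimeSpectrum A) (h1 : FibreVanishOne F x)
    (h0 : @Module.finrank x.asIdeal.ResidueField (Coh.HH (Seesaw.fibreOf A X x)
      ((Scheme.Modules.pullback (pullback.fst (X ↘ Spec (CommRingCat.of A))
        (Seesaw.specAlg A x.asIdeal.ResidueField))).obj F) 0) _ _
      (letI : (Seesaw.fibreOf A X x).Over (Spec (CommRingCat.of x.asIdeal.ResidueField)) :=
        ⟨pullback.snd _ _⟩; inferInstance) = 1) :
    ∃ (s : Γ(F, ⊤)) (c : A), c ∉ x.asIdeal ∧ ∀ (B : Type u) [CommRing B] [Algebra A B],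
      IsUnit (algebraMap A B c) → ∀ (X' : Scheme.{u}) (φ : X' ⟶ X) (pB : X' ⟶ Spec (CommRingCat.of B)),
        IsPullback φ pB (X ↘ Spec (CommRingCat.of A)) (Spec.map (CommRingCat.ofHom (algebraMap A B))) →
        (∀ t : Γ((Scheme.Modules.pullback φ).obj F, ⊤), ∃ b : B,
          t = (show Γ(X', ⊤) from Coh.toGlobal pB b) • (show Γ((Scheme.Modules.pullback φ).obj F, ⊤) from InvX.pullElt φ s)) ∧
        ∀ b : B, (show Γ(X', ⊤) from Coh.toGlobal pB b) • (show Γ((Scheme.Modules.pullback φ).obj F, ⊤) from InvX.pullElt φ s) = 0 → b = 0 := by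
  haveI : IsLocallyNoetherian X := LocallyOfFiniteType.isLocallyNoetherian (X ↘ Spec (CommRingCat.of A))
  obtain ⟨Q, _, e, hQ, hlift⟩ := exists_rep_lift F (CurveDeg.isCoh_of_isInvertible hL)
    (Seesaw.isFlatOver_of_isInvertible (X ↘ Spec (CommRingCat.of A)) hL)
  let k := x.asIdeal.ResidueField
  let φ₀ := pullback.fst (X ↘ Spec (CommRingCat.of A)) (Seesaw.specAlg A k)
  letI : (Seesaw.fibreOf A X x).Over (Spec (CommRingCat.of k)) := ⟨pullback.snd _ _⟩
  obtain ⟨eB, he1, -⟩ := hQ k _ φ₀ (pullback.snd _ _) (IsPullback.of_hasPullback _ _)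
  obtain ⟨e₀, he₀⟩ := BcZero.exists_h0Equiv ((Scheme.Modules.pullback φ₀).obj F)
  let E : (Q →ₗ[A] k) ≃ₗ[k] Coh.HH (Seesaw.fibreOf A X x) ((Scheme.Modules.pullback φ₀).obj F) 0 :=
    { eB.trans e₀.symm with
      map_smul' := fun b g => e₀.injective (by
        show e₀ (e₀.symm (eB (b • g))) = e₀ (b • e₀.symm (eB g))
        rw [AddEquiv.apply_symm_apply, show b • g = LinearMap.mulLeft A b ∘ₗ g from LinearMap.ext fun q => rfl, he1]
        refine Eq.trans ?_ (he₀ _ _).symm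
        rw [AddEquiv.apply_symm_apply]; rfl) }
  obtain ⟨f, c, hc, hf⟩ := exists_generating_form x (E.finrank_eq.trans h0) (hlift x h1)
  refine ⟨e f, c, hc, fun B _ _ hu X' φ pB hsq => ?_⟩
  obtain ⟨eC, hC1, hC2⟩ := hQ B X' φ pB hsq
  obtain ⟨hgen, hinj⟩ := hf B hu
  refine ⟨fun t => ?_, fun b hb => ?_⟩
  · obtain ⟨b, hb⟩ := hgen (eC.symm t)
    refine ⟨b, ?_⟩
    rw [← eC.apply_symm_apply t, hb, hC1, hC2]
  · refine hinj b (eC.injective ?_)
    rw [hC1, hC2, map_zero]
    exact hb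

end Groth.Agent.PicFRel.SectGen
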