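import Groth.Agent.PicFRel.UnivH0

/-!
# Charts of the seesaw subscheme

For an invertible module on a flat proper family with constant functions, every point of the base over
which the module is trivial has a neighbourhood in which the maps making the module trivial, locally on
the source, are exactly the maps factoring through one subscheme.
-/

set_option autoImplicit false
set_option backward.isDefEq.respectTransparency false
set_option backward.isDefEq.respectTransparency.types false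
set_option linter.style.haveILetI false

universe u

open CategoryTheory CategoryTheory.Limits AlgebraicGeometry TopologicalSpace Opposite

namespace Groth.Agent.PicFRel.SeesawChart

open Groth.Agent.InvX Groth.Agent.H23 Groth.Agent.H23.TrivBasic
open Groth.Agent.H23.SeesawGlobal Groth.Agent.H23.Seesaw

variable {X S : Scheme.{u}} (f : X ⟶ S) (L : X.Modules)

/-- The module pulled back to the family over `T`. -/
noncomputable abbrev pbL {T : Scheme.{u}} (h : T ⟶ S) : (pullback f h).Modules :=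
  (Scheme.Modules.pullback (pullback.fst f h)).obj L

/-- The module is trivial over `T`. -/
def TrivOver {T : Scheme.{u}} (h : T ⟶ S) : Prop := Triv (pbL f L h)

variable {f L}

theorem TrivOver.precomp {T T' : Scheme.{u}} {h : T ⟶ S} (hT : TrivOver f L h) (g : T' ⟶ T) :
    TrivOver f L (g ≫ h) :=
  triv_pullback_of_factor g rfl hT

theorem TrivOver.of_eq {T : Scheme.{u}} {h h' : T ⟶ S} (hT : TrivOver f L h) (e : h = h') :
    TrivOver f L h' := e ▸ hT

variable [IsProper f] [Flat f]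

omit [IsProper f] [Flat f] in
/-- The square comparing the family over an algebra with a chart. -/
theorem exists_square {A : Type u} [CommRing A] (g : Spec (CommRingCat.of A) ⟶ S) (B : Type u) [CommRing B]
    [Algebra A B] {h : Spec (CommRingCat.of B) ⟶ S} (hh : specAlg A B ≫ g = h) :
    ∃ φ : pullback f h ⟶ pullback f g,
      φ ≫ pullback.fst f g = pullback.fst f h ∧
      IsPullback φ (pullback.snd f h) (pullback.snd f g) (specAlg A B) := by
  subst hh
  refine ⟨pullback.lift (pullback.fst f _) (pullback.snd f _ ≫ specAlg A B)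
    (by rw [pullback.condition, Category.assoc]), pullback.lift_fst _ _ _, ?_⟩
  exact IsPullback.of_right (by
      rw [pullback.lift_fst]
      exact IsPullback.of_hasPullback f _) (pullback.lift_snd _ _ _) (IsPullback.of_hasPullback f g)

omit [IsProper f] [Flat f] in
/-- Forms transported along an isomorphism of modules. -/
theorem exists_equiv_of_iso {P : Scheme.{u}} {M N : P.Modules} (ι : M ≅ N) {G : Type u} [AddCommGroup G]
    (e : G ≃+ Γ(M, ⊤)) : ∃ e' : G ≃+ Γ(N, ⊤), ∀ (r : Γ(P, ⊤)) (x y : G), e x = r • e y → e' x = r • e' y := by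
  have hi : Function.Bijective (ι.hom.app ⊤) :=
    ConcreteCategory.bijective_of_isIso (ι.hom.app ⊤)
  refine ⟨e.trans (AddEquiv.ofBijective (ι.hom.app ⊤).hom hi), fun r x y h => ?_⟩
  show ι.hom.app ⊤ (e x) = r • ι.hom.app ⊤ (e y)
  rw [h, Scheme.Modules.Hom.app_smul]

/-- Sections over every algebra are forms on one finite module. -/
theorem exists_repAt {A : Type u} [CommRing A] [IsNoetherianRing A] (g : Spec (CommRingCat.of A) ⟶ S)
    (hL : PicF.IsInvertible L) :
    ∃ (Q : ModuleCat.{u} A) (_ : Module.Finite A Q) (e : (Q →ₗ[A] A) ≃+ Γ(chartMod f L A g, ⊤)),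
      SecRep.IsRep (chartMod f L A g) Q e ∧
      ∀ (B : Type u) [CommRing B] [Algebra A B] (h : Spec (CommRingCat.of B) ⟶ S),
        specAlg A B ≫ g = h →
        ∃ eB : (Q →ₗ[A] B) ≃+ Γ(pbL f L h, ⊤),
          ∀ (b : B) (φ : Q →ₗ[A] B), eB (LinearMap.mulLeft A b ∘ₗ φ) =
            (show Γ(pullback f h, ⊤) from Coh.toGlobal (pullback.snd f h) b) • eB φ := by
  obtain ⟨Q, hQ, e, hrep⟩ :=
    Seesaw.exists_rep (A := A) (chartMod f L A g) (PicClLib.isInvertible_pullback _ hL)
  refine ⟨Q, hQ, e, hrep, fun B _ _ h hh => ?_⟩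
  obtain ⟨φ, hφ, hsq⟩ := exists_square g B hh
  obtain ⟨eB, he1, -⟩ := hrep B _ φ (pullback.snd f h) hsq
  obtain ⟨e', he'⟩ := exists_equiv_of_iso
    ((Scheme.Modules.pullbackComp φ (pullback.fst f g)).app L ≪≫
      (Scheme.Modules.pullbackCongr hφ).app L) eB
  exact ⟨e', fun b ψ => he' _ _ _ (he1 b ψ)⟩

omit [IsProper f] [Flat f] in
/-- Constant functions over `h`, read on rings. -/
theorem toGlobal_bij {B : Type u} [CommRing B] (h : Spec (CommRingCat.of B) ⟶ S)
    (h0 : Function.Bijective (pullback.snd f h).appTop) :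
    Function.Bijective (Coh.toGlobal (pullback.snd f h)) :=
  Seesaw.toGlobal_bijective _ h0

omit [IsProper f] [Flat f] in
/-- On a trivial module the forms are the multiples of one without annihilator. -/
theorem exists_basis_form {A : Type u} [CommRing A]
    {Q : ModuleCat.{u} A} {B : Type u} [CommRing B] [Algebra A B] {h : Spec (CommRingCat.of B) ⟶ S}
    (eB : (Q →ₗ[A] B) ≃+ Γ(pbL f L h, ⊤))
    (heB : ∀ (b : B) (φ : Q →ₗ[A] B), eB (LinearMap.mulLeft A b ∘ₗ φ) =
      (show Γ(pullback f h, ⊤) from Coh.toGlobal (pullback.snd f h) b) • eB φ)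
    (h0 : Function.Bijective (pullback.snd f h).appTop)
    (hT : TrivOver f L h) :
    ∃ g0 : Q →ₗ[A] B, (∀ φ : Q →ₗ[A] B, ∃ b : B, φ = LinearMap.mulLeft A b ∘ₗ g0) ∧
      ∀ b : B, LinearMap.mulLeft A b ∘ₗ g0 = 0 → b = 0 := by
  obtain ⟨s, hs⟩ := Triv.exists_frame hT
  have hb := toGlobal_bij _ h0
  refine ⟨eB.symm s, fun φ => ?_, fun b hbz => ?_⟩
  · obtain ⟨r, hr⟩ := (UnivH0.bijective_smul_frame hs).2 (eB φ)
    obtain ⟨b, hb'⟩ := hb.2 r
    refine ⟨b, eB.injective ?_⟩
    rw [heB, hb', AddEquiv.apply_symm_apply]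
    exact hr.symm
  · refine hb.1 ((UnivH0.bijective_smul_frame hs).1 ?_)
    have := (heB b (eB.symm s)).symm.trans ((congrArg eB hbz).trans (map_zero eB))
    rw [AddEquiv.apply_symm_apply] at this
    show _ • s = _ • s
    rw [map_zero (Coh.toGlobal _), zero_smul]
    exact this

variable [IsLocallyNoetherian S]

omit [IsLocallyNoetherian S] in
/-- Triviality over one field point gives triviality over all of them. -/
theorem fieldTriv_of_point (hL : PicF.IsInvertible L) (hc : RigidApply.ConstFibres f) {y : S}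
    (K : Type u) [Field K] (k : Spec (CommRingCat.of K) ⟶ S) (hk : k (IsLocalRing.closedPoint K) = y)
    (hT : TrivOver f L k) : FieldTriv f L y := by
  subst hk
  rw [fieldTriv_iff_residueField]
  let y := k (IsLocalRing.closedPoint K)
  let K0 := S.residueField y
  let g : Spec (CommRingCat.of K0) ⟶ S := S.fromSpecResidueField y
  let α := Scheme.descResidueField (Scheme.stalkClosedPointTo k)
  letI : Algebra K0 K := α.hom.toAlgebra
  have hfac : specAlg K0 K ≫ g = k :=
    Scheme.descResidueField_stalkClosedPointTo_fromSpecResidueField K S k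
  obtain ⟨Q, _, e, hrep, -⟩ := exists_repAt (f := f) (L := L) g hL
  obtain ⟨φ, hφ, hsq⟩ := exists_square g K hfac
  obtain ⟨eB, -, he2⟩ := hrep K _ φ (pullback.snd f k) hsq
  have hTφ : Triv ((Scheme.Modules.pullback φ).obj (chartMod f L K0 g)) :=
    (triv_comp_iff φ (pullback.fst f g)).2 ((triv_congr hφ).2 hT)
  have hT0 := UnivH0.fieldH0_of_fibre f y (hc y)
  have hΓ : IsField Γ(pullback f k, ⊤) := isField_Γ _ (hT0 K k rfl)
  obtain ⟨s, hs⟩ := hTφ.exists_frame
  -- a nonzero form over the residue field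
  obtain ⟨ψ, hψ⟩ : ∃ ψ : Q →ₗ[K0] K0, ψ ≠ 0 := by
    by_contra H
    push Not at H
    have hz : eB.symm s = 0 := by
      ext q
      by_contra hq
      have hq0 : q ≠ 0 := fun h => hq (by rw [h]; exact map_zero _)
      obtain ⟨ψ, hψ⟩ := Module.Projective.exists_dual_ne_zero K0 hq0
      exact hψ (by rw [H ψ]; rfl)
    have hs0 : s = 0 := by rw [← eB.apply_symm_apply s, hz, map_zero]
    haveI : Nonempty ↥(pullback f k) := by
      haveI : Nontrivial Γ(pullback f k, ⊤) := ⟨hΓ.exists_pair_ne⟩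
      by_contra hne
      haveI := not_nonempty_iff.1 hne
      exact false_of_nontrivial_of_subsingleton Γ(pullback f k, ⊤)
    exact hΓ.exists_pair_ne.elim fun a ⟨b, hab⟩ => hab ((UnivH0.bijective_smul_frame hs).1
      (show a • s = b • s by rw [hs0, smul_zero, smul_zero]))
  have hne : eB (Algebra.linearMap K0 K ∘ₗ ψ) ≠ 0 := fun h => hψ (LinearMap.ext fun q => by
    have := LinearMap.congr_fun (eB.injective (h.trans (map_zero eB).symm)) q
    exact (algebraMap K0 K).injective (this.trans (map_zero _).symm))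
  rw [he2] at hne
  have hfr := isFrame_of_ne_zero hTφ hΓ hne
  refine triv_of_frame (e := e ψ) (locus_eq_top_iff.1 (top_le_iff.1 fun z _ => ?_))
  haveI : Surjective (specAlg K0 K) := ⟨fun p => ⟨IsLocalRing.closedPoint K,
    Subsingleton.elim (α := PrimeSpectrum K0) _ _⟩⟩
  haveI : Surjective φ := MorphismProperty.of_isPullback hsq.flip inferInstance
  obtain ⟨w, rfl⟩ := φ.surjective z
  exact mem_locus_of_pullElt (PicClLib.isInvertible_pullback _ hL) φ (e ψ) hfr w

omit [IsLocallyNoetherian S] in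
/-- Triviality over `u` gives triviality at every image point. -/
theorem fieldTriv_of_trivOver (hL : PicF.IsInvertible L) (hc : RigidApply.ConstFibres f)
    {T : Scheme.{u}} {h : T ⟶ S} (hT : TrivOver f L h) (t : T) : FieldTriv f L (h t) :=
  fieldTriv_of_point hL hc (T.residueField t) (T.fromSpecResidueField t ≫ h)
    (by rw [Scheme.Hom.comp_apply]; exact congrArg h (T.fromSpecResidueField_apply t _)) (hT.precomp _)

omit [IsLocallyNoetherian S] in
/-- A cyclic piece near a trivial fibre. -/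
theorem exists_cyclic {A : Type u} [CommRing A] [IsNoetherianRing A] (g : Spec (CommRingCat.of A) ⟶ S)
    (hc : RigidApply.ConstFibres f) (Q : ModuleCat.{u} A) [Module.Finite A Q]
    {e : (Q →ₗ[A] A) ≃+ Γ(chartMod f L A g, ⊤)} (hrep : SecRep.IsRep (chartMod f L A g) Q e)
    (x : PrimeSpectrum A) (hx : FieldTriv f L (g x)) :
    ∃ q₀ : Q, ∃ c ∉ x.asIdeal, ∀ q : Q, ∃ a : A, c • q = a • q₀ := by
  have h0 : FibreH0 (chart f A g) x := fibreH0_chart f A g (UnivH0.fieldH0_of_fibre f _ (hc _))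
  obtain ⟨h1, h2⟩ := line_of_fibreTriv hrep x h0 (fibreTriv_chart f A g hx)
  exact SeesawMod.exists_generator x (SeesawMod.fibreRank_eq_one x h1 h2)

omit [IsProper f] [Flat f] [IsLocallyNoetherian S] in
/-- Over a trivial algebra the annihilator of a generator vanishes. -/
theorem algebraMap_eq_zero_of_basis_form {A : Type u} [CommRing A] {Q : Type u} [AddCommGroup Q]
    [Module A Q] {c : A} {q₀ : Q} (hq : ∀ q : Q, ∃ a : A, c • q = a • q₀) {B : Type u} [CommRing B]
    [Algebra A B] (hcB : IsUnit (algebraMap A B c)) (g0 : Q →ₗ[A] B)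
    (hinj : ∀ b : B, LinearMap.mulLeft A b ∘ₗ g0 = 0 → b = 0) {a : A} (ha : a • q₀ = 0) :
    algebraMap A B a = 0 := by
  refine hinj _ (LinearMap.ext fun q => hcB.mul_left_cancel ?_)
  obtain ⟨r, hr⟩ := hq q
  show algebraMap A B c * (algebraMap A B a * g0 q) = algebraMap A B c * 0
  rw [mul_zero, mul_left_comm, ← Algebra.smul_def c, ← map_smul, hr, ← Algebra.smul_def, ← map_smul,
    smul_comm, ha, smul_zero, map_zero]

omit [IsProper f] [Flat f] [IsLocallyNoetherian S] in
/-- Where the annihilator of a generator vanishes there is a form with value one. -/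
theorem exists_one_form {A : Type u} [CommRing A] {Q : Type u} [AddCommGroup Q]
    [Module A Q] {c : A} {q₀ : Q} (hq : ∀ q : Q, ∃ a : A, c • q = a • q₀) {B : Type u} [CommRing B]
    [Algebra A B] (hcB : IsUnit (algebraMap A B c)) (hann : ∀ a : A, a • q₀ = 0 → algebraMap A B a = 0) :
    ∃ g1 : Q →ₗ[A] B, g1 q₀ = 1 := by
  choose α hα using hq
  obtain ⟨v, hv⟩ := hcB
  have hdet : ∀ {a a' : A}, a • q₀ = a' • q₀ → algebraMap A B a = algebraMap A B a' := fun {a a'} h =>
    sub_eq_zero.1 (by rw [← map_sub]; exact hann _ (by rw [sub_smul, h, sub_self]))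
  refine ⟨⟨⟨fun q => ↑v⁻¹ * algebraMap A B (α q), fun q q' => ?_⟩, fun r q => ?_⟩, ?_⟩
  · rw [← mul_add, ← map_add]
    exact congrArg _ (hdet (by rw [← hα, smul_add, hα, hα, add_smul]))
  · show _ = r • (↑v⁻¹ * algebraMap A B (α q))
    rw [Algebra.smul_def, mul_left_comm, ← map_mul]
    exact congrArg _ (hdet (by rw [← hα, smul_comm, hα, mul_smul]))
  · show ↑v⁻¹ * algebraMap A B (α q₀) = 1
    rw [hdet (hα q₀).symm, ← hv, Units.inv_mul]

omit [IsProper f] [Flat f] [IsLocallyNoetherian S] in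
/-- A form without annihilator, transported to another representation of the same sections. -/
theorem exists_form_transfer {A A' : Type u} [CommRing A] [CommRing A'] {Q : ModuleCat.{u} A}
    {Q' : ModuleCat.{u} A'} {B : Type u} [CommRing B] [Algebra A B] [Algebra A' B]
    {h : Spec (CommRingCat.of B) ⟶ S}
    (eB : (Q →ₗ[A] B) ≃+ Γ(pbL f L h, ⊤))
    (heB : ∀ (b : B) (φ : Q →ₗ[A] B), eB (LinearMap.mulLeft A b ∘ₗ φ) =
      (show Γ(pullback f h, ⊤) from Coh.toGlobal (pullback.snd f h) b) • eB φ)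
    (eB' : (Q' →ₗ[A'] B) ≃+ Γ(pbL f L h, ⊤))
    (heB' : ∀ (b : B) (φ : Q' →ₗ[A'] B), eB' (LinearMap.mulLeft A' b ∘ₗ φ) =
      (show Γ(pullback f h, ⊤) from Coh.toGlobal (pullback.snd f h) b) • eB' φ)
    (g1 : Q →ₗ[A] B) {q₀ : Q} (hg1 : g1 q₀ = 1) :
    ∃ g : Q' →ₗ[A'] B, ∀ b : B, b • g = 0 → b = 0 := by
  refine ⟨eB'.symm (eB g1), fun b hb => ?_⟩
  have hb' : LinearMap.mulLeft A' b ∘ₗ eB'.symm (eB g1) = 0 :=
    LinearMap.ext fun q => LinearMap.congr_fun hb q
  have h2 : LinearMap.mulLeft A b ∘ₗ g1 = 0 := by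
    refine eB.injective ?_
    rw [heB, map_zero]
    have := (heB' b (eB'.symm (eB g1))).symm.trans ((congrArg eB' hb').trans (map_zero eB'))
    rwa [AddEquiv.apply_symm_apply] at this
  have := LinearMap.congr_fun h2 q₀
  rw [LinearMap.comp_apply, hg1, LinearMap.mulLeft_apply, mul_one] at this
  exact this

/-- Every point with trivial fibre has a chart of the seesaw subscheme. -/
theorem exists_chart_at (hL : PicF.IsInvertible L) (hc : RigidApply.ConstFibres f) (y : S)
    (hy : FieldTriv f L y) :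
    ∃ (V : S.Opens) (_ : y ∈ V) (W : Scheme.{u}) (j : W ⟶ S) (_ : IsImmersion j),
      Set.range j ⊆ (V : Set S) ∧ TrivOver f L j ∧
      ∀ (T : Scheme.{u}) (h : T ⟶ S), IsAffine T → Set.range h ⊆ (V : Set S) → TrivOver f L h →
        ∃ w : T ⟶ W, w ≫ j = h := by
  obtain ⟨A, _, _, g, _, x, rfl⟩ := SeesawGlobal.exists_chart y
  obtain ⟨Q, _, e, hrep, hB⟩ := exists_repAt (f := f) (L := L) g hL
  obtain ⟨q₀, c, hcx, hq⟩ := exists_cyclic g hc Q hrep x hy
  let J : Ideal (Localization.Away c) :=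
    (Submodule.span A {q₀}).annihilator.map (algebraMap A (Localization.Away c))
  let B₀ := Localization.Away c ⧸ J
  let g₀ : Spec (CommRingCat.of B₀) ⟶ S := specAlg A B₀ ≫ g
  have hcB₀ : IsUnit (algebraMap A B₀ c) := by
    rw [IsScalarTower.algebraMap_apply A (Localization.Away c) B₀]
    exact (IsLocalization.Away.algebraMap_isUnit c).map _
  have hann₀ : ∀ a : A, a • q₀ = 0 → algebraMap A B₀ a = 0 := fun a ha => by
    rw [IsScalarTower.algebraMap_apply A (Localization.Away c) B₀]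
    exact Ideal.Quotient.eq_zero_iff_mem.2
      (Ideal.mem_map_of_mem _ ((Submodule.mem_annihilator_span_singleton q₀ a).2 ha))
  -- factorisation through the closed piece
  have hfact : ∀ (B : Type u) [CommRing B] [Algebra A B], IsUnit (algebraMap A B c) →
      TrivOver f L (specAlg A B ≫ g) → ∃ θ : B₀ →+* B, θ.comp (algebraMap A B₀) = algebraMap A B := by
    intro B _ _ hcB hT
    obtain ⟨eB, heB⟩ := hB B _ rfl
    obtain ⟨g0, -, hinj⟩ := exists_basis_form eB heB
      (UnivH0.bijective_app f hc _ (specAlg A B ≫ g) ⊤) hT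
    refine ⟨Ideal.Quotient.lift J (IsLocalization.Away.lift c hcB) fun z hz => ?_, ?_⟩
    · have hle : J ≤ RingHom.ker (IsLocalization.Away.lift c hcB) := by
        refine Ideal.map_le_iff_le_comap.2 fun a ha => ?_
        rw [Ideal.mem_comap, RingHom.mem_ker, IsLocalization.Away.lift_eq]
        exact algebraMap_eq_zero_of_basis_form hq hcB g0 hinj
          ((Submodule.mem_annihilator_span_singleton q₀ a).1 ha)
      exact hle hz
    · ext a
      rw [RingHom.comp_apply, IsScalarTower.algebraMap_apply A (Localization.Away c) B₀]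
      exact (Ideal.Quotient.lift_mk _ _ _).trans (IsLocalization.Away.lift_eq _ _ a)
  -- the trivial fibre lies on the closed piece
  obtain ⟨θx, hθx⟩ := hfact x.asIdeal.ResidueField
      (isUnit_iff_ne_zero.2 fun h => hcx ((Ideal.algebraMap_residueField_eq_zero).1 h))
      (hy _ _ (closedPoint_specAlg A g x))
  let x₀ : PrimeSpectrum B₀ := ⟨RingHom.ker θx, RingHom.ker_isPrime _⟩
  have hx₀ : specAlg A B₀ x₀ = x := PrimeSpectrum.ext <| Ideal.ext fun a => by
    show θx.comp (algebraMap A B₀) a = 0 ↔ _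
    rw [hθx, Ideal.algebraMap_residueField_eq_zero]
  have hgx₀ : g₀ x₀ = g x := by rw [Scheme.Hom.comp_apply, hx₀]
  haveI : IsNoetherianRing (Localization.Away c) := IsLocalization.isNoetherianRing (.powers c) _ inferInstance
  haveI : IsNoetherianRing B₀ := inferInstance
  obtain ⟨Q₀, _, e₀, hrep₀, hB₀⟩ := exists_repAt (f := f) (L := L) g₀ hL
  have hL₀ := PicClLib.isInvertible_pullback (pullback.fst f g₀) hL
  have h0₀ : FibreH0 (chart f B₀ g₀) x₀ :=
    fibreH0_chart f B₀ g₀ (UnivH0.fieldH0_of_fibre f _ (hc _))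
  have hT₀ : FibreTriv (chartMod f L B₀ g₀) x₀ := fibreTriv_chart f B₀ g₀ (hgx₀ ▸ hy)
  obtain ⟨h1, h2⟩ := line_of_fibreTriv hrep₀ x₀ h0₀ hT₀
  -- forms without annihilator on the thickenings
  haveI : x₀.asIdeal.IsPrime := x₀.isPrime
  obtain ⟨v, hv⟩ := SeesawMod.exists_form x₀ h1 h2 fun n => by
    let B := SeesawMod.Thick x₀.asIdeal n
    letI : Algebra A B := ((algebraMap B₀ B).comp (algebraMap A B₀)).toAlgebra
    have hsp : specAlg A B ≫ g = specAlg B₀ B ≫ g₀ := by
      rw [← Category.assoc, ← Spec.map_comp]; rfl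
    obtain ⟨eB, heB⟩ := hB B _ hsp
    obtain ⟨g1, hg1⟩ := exists_one_form hq (B := B) (hcB₀.map (algebraMap B₀ B))
      fun a ha => by
        show algebraMap B₀ B (algebraMap A B₀ a) = 0
        rw [hann₀ a ha, map_zero]
    obtain ⟨eB', heB'⟩ := hB₀ B _ rfl
    exact exists_form_transfer (A' := B₀) eB heB eB' heB' g1 hg1
  obtain ⟨O, hxO, hO⟩ := exists_frame_of_form hL₀ hrep₀ x₀ h0₀ hT₀ v hv
  haveI : IsImmersion g₀ := by
    haveI : IsOpenImmersion (specAlg A (Localization.Away c)) := .of_isLocalization c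
    haveI : IsClosedImmersion (Spec.map (CommRingCat.ofHom (Ideal.Quotient.mk J))) :=
      IsClosedImmersion.spec_of_surjective _ Ideal.Quotient.mk_surjective
    have : g₀ = Spec.map (CommRingCat.ofHom (Ideal.Quotient.mk J)) ≫
        specAlg A (Localization.Away c) ≫ g := by
      show _ ≫ g = _
      rw [← Category.assoc, ← Spec.map_comp]
      rfl
    rw [this]
    infer_instance
  obtain ⟨V₁, hV₁, hV₁O⟩ := g₀.isEmbedding.isInducing.isOpen_iff.1 O.isOpen
  let V : S.Opens := g ''ᵁ PrimeSpectrum.basicOpen c ⊓ ⟨V₁, hV₁⟩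
  have hyV : g x ∈ V := by
    refine ⟨⟨x, hcx, rfl⟩, ?_⟩
    show g x ∈ V₁
    rw [← hgx₀]
    exact (Set.ext_iff.1 hV₁O x₀).2 hxO
  refine ⟨V, hyV, _, O.ι ≫ g₀, inferInstance, ?_, ?_, fun T h hTaff hr hT => ?_⟩
  · rintro _ ⟨z, rfl⟩
    rw [Scheme.Hom.comp_apply]
    refine ⟨⟨specAlg A B₀ (O.ι z), ?_, rfl⟩, (Set.ext_iff.1 hV₁O _).2 z.2⟩
    show c ∉ _
    intro h
    exact (O.ι z : PrimeSpectrum B₀).isPrime.ne_top (Ideal.eq_top_of_isUnit_mem _ h hcB₀)
  · let ψ : pullback f (O.ι ≫ g₀) ⟶ chart f B₀ g₀ :=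
      pullback.map f (O.ι ≫ g₀) f g₀ (𝟙 X) O.ι (𝟙 S) (by simp) (by simp)
    have hψ : Set.range ψ ⊆ (pullback.snd f g₀ ⁻¹ᵁ O : Set _) := by
      rintro _ ⟨z, rfl⟩
      show pullback.snd f g₀ (ψ z) ∈ O
      rw [← Scheme.Hom.comp_apply, pullback.lift_snd, Scheme.Hom.comp_apply]
      exact (pullback.snd f (O.ι ≫ g₀) z).2
    have hψf : ψ ≫ pullback.fst f g₀ = pullback.fst f (O.ι ≫ g₀) := by simp [ψ, pullback.map]
    refine (triv_congr hψf).1 ((triv_comp_iff ψ (pullback.fst f g₀)).1 ?_)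
    refine triv_of_frame (e := (show Γ((Scheme.Modules.pullback ψ).obj (chartMod f L B₀ g₀), ⊤) from
      pullElt ψ (e₀ v))) (locus_eq_top_iff.1 (top_le_iff.1 fun z _ => ?_))
    rw [locus_pullElt hL₀]
    exact le_locus hO (hψ ⟨z, rfl⟩)
  · have hrg : Set.range h ⊆ Set.range g := fun z hz => by
      obtain ⟨p, -, hp⟩ := (hr hz).1
      exact ⟨p, hp⟩
    let k : T ⟶ Spec (CommRingCat.of A) := IsOpenImmersion.lift g h hrg
    let B := Γ(T, ⊤)
    obtain ⟨ψ, hψ⟩ := Spec.map_surjective (T.isoSpec.inv ≫ k)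
    letI : Algebra A B := ψ.hom.toAlgebra
    have hψg : specAlg A B ≫ g = T.isoSpec.inv ≫ h := by
      show Spec.map ψ ≫ g = _
      rw [hψ, Category.assoc, IsOpenImmersion.lift_fac]
    have hcB : IsUnit (algebraMap A B c) := by
      refine by_contra fun hu => ?_
      obtain ⟨m, hm, hum⟩ := exists_max_ideal_of_mem_nonunits hu
      let p : ↥(Spec Γ(T, ⊤)) := ⟨m, hm.isPrime⟩
      obtain ⟨z, hz, hz'⟩ := (hr ⟨T.isoSpec.inv p, rfl⟩).1
      rw [← Scheme.Hom.comp_apply, ← hψg, Scheme.Hom.comp_apply] at hz'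
      rw [g.isOpenEmbedding.injective hz'] at hz
      exact hz hum
    obtain ⟨θ, hθ⟩ := hfact B hcB ((hT.precomp T.isoSpec.inv).of_eq hψg.symm)
    let w₀ : T ⟶ Spec (CommRingCat.of B₀) := T.isoSpec.hom ≫ Spec.map (CommRingCat.ofHom θ)
    have hw₀ : w₀ ≫ g₀ = h := by
      show (T.isoSpec.hom ≫ _) ≫ specAlg A B₀ ≫ g = h
      rw [Category.assoc, ← Category.assoc (Spec.map _), ← Spec.map_comp, ← CommRingCat.ofHom_comp, hθ]
      exact (congrArg (T.isoSpec.hom ≫ ·) hψg).trans (Iso.hom_inv_id_assoc _ _)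
    have hw₀O : Set.range w₀ ⊆ Set.range O.ι := by
      rw [Scheme.Opens.range_ι]
      rintro _ ⟨t, rfl⟩
      refine (Set.ext_iff.1 hV₁O _).1 ?_
      show g₀ (w₀ t) ∈ V₁
      rw [← Scheme.Hom.comp_apply, hw₀]
      exact (hr ⟨t, rfl⟩).2
    refine ⟨IsOpenImmersion.lift O.ι w₀ hw₀O, ?_⟩
    rw [IsOpenImmersion.lift_fac_assoc, hw₀]

end Groth.Agent.PicFRel.SeesawChart
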