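import Groth.Prelude.Def_SymProd
import Groth.Agent.H23.AffineFinset
import Groth.Agent.SGA1Q.Orbits
import Groth.Agent.SGA1Q.Properties
import Mathlib.AlgebraicGeometry.Limits

/-!
# Affine charts of fibre powers and of symmetric products under (AF)
-/

universe u

open CategoryTheory CategoryTheory.Limits AlgebraicGeometry TopologicalSpace

set_option backward.isDefEq.respectTransparency false
set_option backward.isDefEq.respectTransparency.types false
set_option linter.style.haveILetI false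

namespace Groth.Agent.PicFRel.SymChart

variable {X S : Scheme.{u}} (f : X ⟶ S) (d : ℕ)

/-- The open of the fibre power of points with components in `U`, over `V`. -/
noncomputable def chart (V : S.Opens) (U : X.Opens) : (SymProd.fibPow f d).Opens :=
  ⟨((WidePullback.base fun _ : Fin d => f).base ⁻¹' (V : Set S)) ∩
      ⋂ i : Fin d, (WidePullback.π (fun _ : Fin d => f) i).base ⁻¹' (U : Set X),
    (V.isOpen.preimage (Scheme.Hom.continuous _)).inter
      (isOpen_iInter_of_finite fun _ => U.isOpen.preimage (Scheme.Hom.continuous _))⟩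

theorem mem_chart {V : S.Opens} {U : X.Opens} {z : SymProd.fibPow f d} :
    z ∈ chart f d V U ↔ (WidePullback.base fun _ : Fin d => f) z ∈ V ∧
      ∀ i, (WidePullback.π (fun _ : Fin d => f) i) z ∈ U := by
  show z ∈ (_ ∩ _ : Set _) ↔ _
  simp only [Set.mem_inter_iff, Set.mem_iInter, Set.mem_preimage]
  rfl

theorem isAffineOpen_chart {V : S.Opens} (hV : IsAffineOpen V) {U : X.Opens} (hU : IsAffineOpen U)
    (hUV : U ≤ f ⁻¹ᵁ V) : IsAffineOpen (chart f d V U) := by
  haveI : IsAffine (V : Scheme.{u}) := hV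
  haveI : IsAffine (U : Scheme.{u}) := hU
  let W := chart f d V U
  let h : (U : Scheme.{u}) ⟶ (V : Scheme.{u}) := f.resLE V U hUV
  let P := SymProd.fibPow h d
  haveI : ∀ j, IsAffine ((WidePullbackShape.wideCospan (V : Scheme.{u}) (fun _ : Fin d => (U : Scheme.{u}))
      fun _ => h).obj j) := by
    rintro (_ | _)
    · exact hV
    · exact hU
  haveI : IsAffine P := Scheme.isAffine_of_isLimit (limit.cone _) (limit.isLimit _)
  have hbV : Set.range (W.ι ≫ WidePullback.base fun _ : Fin d => f) ⊆ Set.range V.ι := by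
    rintro _ ⟨w, rfl⟩
    rw [Scheme.Opens.range_ι]
    exact ((mem_chart f d).1 w.2).1
  have hπU : ∀ i, Set.range (W.ι ≫ WidePullback.π (fun _ : Fin d => f) i) ⊆ Set.range U.ι := by
    rintro i _ ⟨w, rfl⟩
    rw [Scheme.Opens.range_ι]
    exact ((mem_chart f d).1 w.2).2 i
  let b := IsOpenImmersion.lift V.ι (W.ι ≫ WidePullback.base fun _ : Fin d => f) hbV
  let pr := fun i => IsOpenImmersion.lift U.ι (W.ι ≫ WidePullback.π (fun _ : Fin d => f) i) (hπU i)
  let a : (W : Scheme.{u}) ⟶ P := WidePullback.lift b pr fun i => by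
    rw [← cancel_mono V.ι]
    simp [b, pr, h, Scheme.Hom.resLE_comp_ι]
  let c : P ⟶ SymProd.fibPow f d :=
    WidePullback.lift (WidePullback.base _ ≫ V.ι) (fun i => WidePullback.π _ i ≫ U.ι) fun i => by
      rw [Category.assoc, ← Scheme.Hom.resLE_comp_ι f hUV]
      exact WidePullback.π_arrow_assoc (fun _ : Fin d => h) i _
  have hc : Set.range c ⊆ Set.range W.ι := by
    rintro _ ⟨z, rfl⟩
    rw [Scheme.Opens.range_ι]
    refine (mem_chart f d).2 ⟨?_, fun i => ?_⟩
    · rw [← Scheme.Hom.comp_apply, WidePullback.lift_base, Scheme.Hom.comp_apply]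
      exact (WidePullback.base (fun _ : Fin d => h) z).2
    · rw [← Scheme.Hom.comp_apply, WidePullback.lift_π, Scheme.Hom.comp_apply]
      exact (WidePullback.π (fun _ : Fin d => h) i z).2
  let e : (W : Scheme.{u}) ≅ P :=
    { hom := a
      inv := IsOpenImmersion.lift W.ι c hc
      hom_inv_id := by
        rw [← cancel_mono W.ι, Category.assoc, IsOpenImmersion.lift_fac, Category.id_comp]
        apply WidePullback.hom_ext
        · intro i; simp [a, c, pr]
        · simp [a, c, b]
      inv_hom_id := by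
        apply WidePullback.hom_ext
        · intro i
          rw [← cancel_mono U.ι]
          simp [a, c, pr]
        · rw [← cancel_mono V.ι]
          simp [a, c, b] }
  haveI : IsIso e.hom := Iso.isIso_hom e
  exact IsAffine.of_isIso e.hom

theorem perm_chart (V : S.Opens) (U : X.Opens) (σ : Equiv.Perm (Fin d)) :
    (SymProd.permHom f d σ) ⁻¹ᵁ (chart f d V U) = chart f d V U := by
  ext z
  simp only [SetLike.mem_coe, Scheme.Hom.coe_preimage, Set.mem_preimage]
  rw [mem_chart, mem_chart, ← Scheme.Hom.comp_apply, SymProd.permHom_base]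
  refine and_congr_right fun _ => ?_
  simp only [← Scheme.Hom.comp_apply, SymProd.permHom_π]
  exact σ.symm.forall_congr_left.trans (by simp) |>.trans Iff.rfl

/-- The components of a point lie in a small affine open, by (AF). -/
theorem exists_affine (hAF : SymProd.IsAF f) (z : SymProd.fibPow f d) {V : S.Opens}
    (hz : (WidePullback.base fun _ : Fin d => f) z ∈ V) :
    ∃ U : X.Opens, IsAffineOpen U ∧ U ≤ f ⁻¹ᵁ V ∧ ∀ i, (WidePullback.π (fun _ : Fin d => f) i) z ∈ U := by
  classical
  let F : Finset X := Finset.univ.image fun i => (WidePullback.π (fun _ : Fin d => f) i) z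
  have hF : ∀ x ∈ F, f x = (WidePullback.base fun _ : Fin d => f) z := by
    intro x hx
    obtain ⟨i, -, rfl⟩ := Finset.mem_image.1 hx
    rw [← Scheme.Hom.comp_apply, WidePullback.π_arrow]
  obtain ⟨A, hA, hFA⟩ := hAF _ F hF
  obtain ⟨g, hg, hgF⟩ := H23.AffineFinset.exists_basicOpen_le hA (f ⁻¹ᵁ V) F hFA fun x hx => by
    show f x ∈ V
    rwa [hF x hx]
  exact ⟨X.basicOpen g, hA.basicOpen g, hg, fun i => hgF _ (Finset.mem_image_of_mem _ (Finset.mem_univ i))⟩

/-- A stable affine open of the source of a quotient map is the preimage of an affine open. -/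
theorem exists_affine_image {P Y : Scheme.{u}} {G : Type u} [Group G] [Finite G] {ρ : G →* Aut P}
    {q : P ⟶ Y} (hq : SGA1.IsQuot ρ q) (W : P.Opens) (hW : IsAffineOpen W)
    (hst : ∀ g : G, (ρ g).hom ⁻¹ᵁ W = W) :
    ∃ W' : Y.Opens, IsAffineOpen W' ∧ q ⁻¹ᵁ W' = W := by
  haveI := SGA1Q.isIntegralHom hq
  let W' : Y.Opens := ⟨(q.base '' (W : Set P)ᶜ)ᶜ, (q.isClosedMap _ W.isOpen.isClosed_compl).isOpen_compl⟩
  have hpre : q ⁻¹ᵁ W' = W := by
    ext z
    refine ⟨fun hz => by_contra fun hzW => hz ⟨z, hzW, rfl⟩, fun hz => ?_⟩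
    rintro ⟨z', hz', e⟩
    obtain ⟨g, rfl⟩ := (SGA1Q.orbit_iff hq z z').1 e.symm
    apply hz'
    have : z ∈ (ρ g).hom ⁻¹ᵁ W := (hst g).symm ▸ hz
    exact this
  have hst' : ∀ g : G, q ⁻¹ᵁ W' ≤ (ρ g).hom ⁻¹ᵁ (q ⁻¹ᵁ W') :=
    fun g => SGA1.preimage_le_of_inv ρ q hq.inv g W'
  haveI : IsAffine ((q ⁻¹ᵁ W' : P.Opens) : Scheme.{u}) := hpre ▸ hW
  have h := SGA1Q.isQuot_morphismRestrict hq W' (SGA1Q.restrictAction ρ (q ⁻¹ᵁ W') hst')
    (fun g => SGA1Q.restrictAction_hom_ι ρ _ hst' g)
  exact ⟨W', SGA1Q.isAffine_of_isQuot h, hpre⟩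

end Groth.Agent.PicFRel.SymChart
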